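import Groth.Agent.Lib.SurfRR.Basic
import Groth.Agent.Lib.BirMap96.SmoothCritScheme
import Groth.Agent.H4.CurveThrough
import Groth.Agent.Lib.KVec.ExtRank
import Groth.Agent.Lib.FundLocal.Rank
import Groth.Agent.Lib.JacCrit.FlatRegular
import Groth.Agent.Lib.WeilExt.Basic
import Groth.Agent.Lib.ProjSpace.SmoothDimEq
import Groth.Agent.Lib.TensorMod.LocFree
import Groth.Agent.S11924

/-!
# The canonical module of a regular projective surface over an algebraically closed field
-/

set_option autoImplicit false
set_option linter.style.haveILetI false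
universe u

open CategoryTheory CategoryTheory.Limits AlgebraicGeometry TopologicalSpace

noncomputable section

namespace Groth.Agent.Lib.SurfRR.Regular

open Groth.Agent.Lib

variable {k : Type u} [Field k] {X : Scheme.{u}} [X.Over (Spec (CommRingCat.of k))]

/-- A regular surface over an algebraically closed field is smooth of relative dimension two. -/
theorem smoothOfRelativeDimension_two [IsAlgClosed k] [IsIntegral X]
    [LocallyOfFiniteType (X ↘ Spec (CommRingCat.of k))] (hdim : topologicalKrullDim X = 2)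
    (hreg : ∀ x : X, IsRegularLocalRing (X.presheaf.stalk x)) :
    SmoothOfRelativeDimension 2 (X ↘ Spec (CommRingCat.of k)) := by
  haveI hs : Smooth (X ↘ Spec (CommRingCat.of k)) :=
    Groth.Agent.H4.CurveThrough.smooth_of_regular_closed _ fun x _ => hreg x
  letI : (Spec (CommRingCat.of k)).Over (Spec (CommRingCat.of k)) := ⟨𝟙 _⟩
  haveI : LocallyOfFiniteType (Spec (CommRingCat.of k) ↘ Spec (CommRingCat.of k)) :=
    inferInstanceAs (LocallyOfFiniteType (𝟙 _))
  haveI : Smooth (Spec (CommRingCat.of k) ↘ Spec (CommRingCat.of k)) :=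
    inferInstanceAs (Smooth (𝟙 _))
  have h0 : topologicalKrullDim (Spec (CommRingCat.of k)) = ((0 : ℕ) : WithBot ℕ∞) := by
    change topologicalKrullDim (PrimeSpectrum k) = _
    rw [PrimeSpectrum.topologicalKrullDim_eq_ringKrullDim, ringKrullDim_eq_zero_of_field]
    rfl
  exact BirMap96.SmoothCritScheme.smoothOfRelativeDimension (X ↘ Spec (CommRingCat.of k))
    (Category.comp_id _) 2 0 (by rw [hdim]; norm_num) h0

variable {r : ℕ} (ι : X ⟶ CohB1.ProjSpace r k) [IsClosedImmersion ι]
  [SmoothOfRelativeDimension 2 (X ↘ Spec (CommRingCat.of k))]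

/-- The canonical module is invertible. -/
theorem isInvertible_canonical [QuasiSeparated (X ↘ Spec (CommRingCat.of k))] {W : X.Modules}
    (hW : ExtPow.IsExtPow 2 (Omega.sheaf (X ↘ Spec (CommRingCat.of k))) W) :
    PicF.IsInvertible W :=
  TensorMod.LocFree.isInvertible_of_rank_one
    (KVec.ExtRank.rank_extPow (FundLocal.Rank.isFinLocFreeOfRank_omega _ 2) hW)

/-- Riemann–Roch with the canonical module. -/
theorem riemannRoch (hι : ι ≫ CohB1.ProjSpace.toSpec r k = X ↘ Spec (CommRingCat.of k))
    (hd : topologicalKrullDim X ≤ 2) {W : X.Modules}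
    (hW : ExtPow.IsExtPow 2 (Omega.sheaf (X ↘ Spec (CommRingCat.of k))) W)
    {L : X.Modules} (hL : PicF.IsInvertible L) :
    2 * Curv2.euler k X L =
      FGA.intNum k X 2 ![L, L] (Coh.structureModule X) -
        FGA.intNum k X 2 ![L, W] (Coh.structureModule X) +
          2 * Curv2.euler k X (Coh.structureModule X) := by
  haveI : IsProper (X ↘ Spec (CommRingCat.of k)) := by
    rw [← hι]
    infer_instance
  haveI : Smooth (X ↘ Spec (CommRingCat.of k)) :=
    SmoothOfRelativeDimension.smooth 2 (X ↘ Spec (CommRingCat.of k))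
  haveI := ProjCoh.ClosedSub.isLocallyNoetherian ι
  haveI : CompactSpace X := QuasiCompact.compactSpace_of_compactSpace (X ↘ Spec (CommRingCat.of k))
  obtain ⟨t, ht⟩ := Groth.Agent.S11924.result k r 2 X ι hι W hW
  refine Basic.riemannRoch_of_dualizing ι hι hd (fun x hx => ?_)
    (Ample.GG.isCoh_of_isInvertible (isInvertible_canonical hW)) ht hL
  have := WeilExt.Basic.isRegularLocalRing_stalk (X ↘ Spec (CommRingCat.of k)) x
  exact_mod_cast ProjCoh.DualityCM.depth_of_cm (n := 2)
    (JacCrit.FlatRegular.isCohenMacaulayLocalRing _)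
    (ProjSpace.SmoothDimEq.ringKrullDim_stalk_closed k (X ↘ Spec (CommRingCat.of k)) 2 hx)

end Groth.Agent.Lib.SurfRR.Regular
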