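import Groth.Agent.Lib.SurfRR.Duality
import Groth.Agent.Lib.SurfInt.PushIso
import Groth.Agent.Lib.SurfInt.Hodge
import Groth.Agent.Lib.FibreInt.Basic
import Groth.Agent.Lib.Ideal.BlowUp
import Groth.Agent.Lib.LinSub.Plane
import Groth.Agent.Lib.CohDelta.ProjChi.Main
import Groth.Agent.Lib.ProjSpace.Dim
import Groth.Agent.Lib.FundLocal.ExtPowExists
import Groth.Agent.Lib.HyperDeg62.Terms
import Groth.Agent.S16558

/-!
# The canonical degree of the blown-up plane

If `σ : X ⟶ P²` is a blow-up in finitely many closed points, the pullback of a line missing the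
points shows `(H·H) = 1` and `(H·K) = -3` for `H = σ^*O(1)`.
-/

set_option autoImplicit false
set_option linter.style.haveILetI false
set_option linter.unusedSectionVars false
universe u

open CategoryTheory CategoryTheory.Limits AlgebraicGeometry TopologicalSpace

noncomputable section

namespace Groth.Agent.Lib.SurfRR.PlaneBlow

open Groth.Agent.Lib Groth.Agent.Lib.TensorMod.Basic Groth.Agent.Lib.ProjCoh.Coherent

/-- A closed subscheme of the target inside the locus where a morphism is an isomorphism has an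
isomorphic preimage. -/
theorem isIso_snd_of_le {X Y Z : Scheme.{u}} (σ : X ⟶ Y) (U : Y.Opens) [IsIso (σ ∣_ U)]
    (i : Z ⟶ Y) (h : Set.range i ⊆ (U : Set Y)) : IsIso (pullback.snd σ i) := by
  let j := IsOpenImmersion.lift U.ι i (by simpa using h)
  have hj : j ≫ U.ι = i := IsOpenImmersion.lift_fac _ _ _
  have hsq := (isPullback_morphismRestrict σ U).flip
  have hp := (IsPullback.of_hasPullback (σ ∣_ U) j).flip.paste_vert hsq.flip
  rw [hj] at hp
  have : pullback.snd σ i = (hp.flip.isoPullback).inv ≫ pullback.snd (σ ∣_ U) j := by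
    rw [Iso.eq_inv_comp]
    exact hp.flip.isoPullback_hom_snd
  rw [this]
  infer_instance

variable {k : Type u} [Field k] [IsAlgClosed k] {X : Scheme.{u}} [X.Over (Spec (CommRingCat.of k))]
  [IsIntegral X] [IsProper (X ↘ (Spec (CommRingCat.of k)))]
  [Smooth (X ↘ (Spec (CommRingCat.of k)))] (hdim : topologicalKrullDim X = 2)
  (σ : X ⟶ CohB1.ProjSpace 2 k)
  (hσk : σ ≫ CohB1.ProjSpace.toSpec 2 k = X ↘ (Spec (CommRingCat.of k)))
  {Z : Set (CohB1.ProjSpace 2 k)} (hZ : IsClosed Z) (hZfin : Z.Finite)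
  (hσ : BlowUp.IsBlowUp σ (Scheme.IdealSheafData.vanishingIdeal ⟨Z, hZ⟩))


include hdim hσk hZfin hσ

/-- The preimage of a line missing the centre. -/
theorem exists_line :
    ∃ C : X.IdealSheafData, PicF.IsInvertible (_root_.ClSub.idealMod C) ∧
      Nonempty (CohB1.tensorMod ((Scheme.Modules.pullback σ).obj (Twist.twistProjSpace 2 k 1)) (_root_.ClSub.idealMod C) ≅ Coh.structureModule X) ∧
      Curv2.euler k X (_root_.ClSub.quotMod C) = 1 ∧
      Curv2.euler k X (CohB1.tensorMod ((Scheme.Modules.pullback σ).obj (Twist.twistProjSpace 2 k 1)) (_root_.ClSub.quotMod C)) = 2 := by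
  classical
  letI : (CohB1.ProjSpace 2 k).Over (Spec (CommRingCat.of k)) := ⟨CohB1.ProjSpace.toSpec 2 k⟩
  haveI : IsProper (CohB1.ProjSpace 2 k ↘ Spec (CommRingCat.of k)) :=
    inferInstanceAs (IsProper (CohB1.ProjSpace.toSpec 2 k))
  haveI := Curves.GlobalSections.isNoetherian_of_proper k (CohB1.ProjSpace 2 k)
  haveI : IsIntegral (CohB1.ProjSpace 2 k) := ProjSpace.Basic.isIntegral_projSpace 2 k
  have hfinP := Snapper.Finite.cohFinite k (CohB1.ProjSpace 2 k)
  have hdP : topologicalKrullDim (CohB1.ProjSpace 2 k) ≤ ((2 : ℕ) : WithBot ℕ∞) := by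
    rw [ProjSpace.Dim.topologicalKrullDim_projSpace_of_field 2 k]
  have hL : PicF.IsInvertible (Twist.twistProjSpace 2 k 1) := isInvertible_tw (n := 2) (R := k) 1
  obtain ⟨t, ht⟩ := SurfInt.Hodge.exists_avoiding_family (CohB1.ProjSpace.toSpec 2 k) hL
    (fun j : Fin 3 => ProjKoszul.Mult.sect (n := 2) (R := k) j)
    (hZfin.union (Set.finite_singleton (σ (genericPoint X)))) fun η _ => by
      obtain ⟨j, hj⟩ := ProjKoszul.Mult.exists_mem_chart (n := 2) (R := k) η
      exact ⟨j, CohDelta.ProjChi.mem_genLocus_sect hj⟩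
  have ht0 : t ≠ 0 := SurfInt.Pencil.ne_zero_of_mem_genLocus hL (ht _ (Or.inr rfl))
  obtain ⟨hD, ⟨e⟩, hsupp, -⟩ := SurfInt.Div.divisor_spec hL t ht0
  set D := PicF2.zeroScheme (Twist.twistProjSpace 2 k 1) t
  have hgen : genericPoint X ∉ ((D.comap σ).support : Set X) := fun h => by
    rw [Scheme.IdealSheafData.support_comap] at h
    exact hsupp.le h (ht _ (Or.inr rfl))
  obtain ⟨hC, ⟨eI⟩⟩ := FibreInt.nonempty_pullback_idealMod_of_not_mem σ hD hgen
  have hIP : PicF.IsInvertible (_root_.ClSub.idealMod D) :=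
    SurfInt.Effective.isInvertible_idealMod hD
  have hCI : PicF.IsInvertible (_root_.ClSub.idealMod (D.comap σ)) :=
    SurfInt.Effective.isInvertible_idealMod hC
  refine ⟨D.comap σ, hCI,
    ⟨tensorIso (Iso.refl _) eI.symm ≪≫ (TensorMod.Pullback.pullbackTensorIso σ _ _).symm ≪≫
      (Scheme.Modules.pullback σ).mapIso e ≪≫ PicLoc.pullbackStructureIso σ⟩, ?_⟩
  -- the plane
  let eD : _root_.ClSub.idealMod D ≅ Twist.twistProjSpace 2 k (-1) :=
    TensorMod.Invertible.cancelRight hL
      (comm _ _ ≪≫ e ≪≫ (twCancel (n := 2) (R := k) (-1) 1 (by norm_num)).symm)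
  have h2 : 0 < 2 := by norm_num
  have hm1 : Curv2.euler k (CohB1.ProjSpace 2 k) (Twist.twistProjSpace 2 k (-1)) = 0 := by
    refine (LinSub.euler_tw (n := 2) (k := k) h2 (-1)).trans ?_
    show Ring.choose ((-1 : ℤ) + (2 : ℕ)) 2 = 0
    rw [show ((-1 : ℤ) + (2 : ℕ)) = ((1 : ℕ) : ℤ) by norm_num, Ring.choose_natCast]
    rfl
  have hp1 : Curv2.euler k (CohB1.ProjSpace 2 k) (Twist.twistProjSpace 2 k 1) = 3 := by
    refine (LinSub.euler_tw (n := 2) (k := k) h2 1).trans ?_
    show Ring.choose ((1 : ℤ) + (2 : ℕ)) 2 = 3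
    rw [show ((1 : ℤ) + (2 : ℕ)) = ((3 : ℕ) : ℤ) by norm_num, Ring.choose_natCast]
    rfl
  have hp0 : Curv2.euler k (CohB1.ProjSpace 2 k) (Coh.structureModule (CohB1.ProjSpace 2 k)) = 1 := by
    rw [← Curves.Euler.euler_eq_of_iso (twZero (n := 2) (R := k))]
    refine (LinSub.euler_tw (n := 2) (k := k) h2 0).trans ?_
    show Ring.choose ((0 : ℤ) + (2 : ℕ)) 2 = 1
    rw [show ((0 : ℤ) + (2 : ℕ)) = ((2 : ℕ) : ℤ) by norm_num, Ring.choose_natCast]
    rfl
  have hseq : ∀ M : (CohB1.ProjSpace 2 k).Modules, PicF.IsInvertible M →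
      Curv2.euler k (CohB1.ProjSpace 2 k) M =
        Curv2.euler k (CohB1.ProjSpace 2 k) (CohB1.tensorMod (_root_.ClSub.idealMod D) M) +
          Curv2.euler k (CohB1.ProjSpace 2 k) (CohB1.tensorMod M (_root_.ClSub.quotMod D)) := fun M hM => by
    simp only [Snapper.Chi.euler_eq_eulerCharLE (k := k) hdP]
    exact SurfInt.Effective.chi_twist_quot hfinP (d := 2) hdP hIP hM
  have h0 := hseq _ (PicLoc.isInvertible_structureModule _)
  rw [hp0, Curves.Euler.euler_eq_of_iso (rightUnit (_root_.ClSub.idealMod D)),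
    Curves.Euler.euler_eq_of_iso eD, hm1,
    Curves.Euler.euler_eq_of_iso (leftUnit (_root_.ClSub.quotMod D))] at h0
  have h1 := hseq _ hL
  rw [hp1, Curves.Euler.euler_eq_of_iso (comm (_root_.ClSub.idealMod D) _ ≪≫ e), hp0] at h1
  rw [SurfInt.Surface.euler_quot (k := k) D] at h0
  rw [SurfInt.Surface.euler_twist_quot (k := k) D hL] at h1
  -- the preimage is isomorphic to the line
  letI := SurfInt.Surface.overSub (k := k) D
  letI := SurfInt.Surface.overSub (k := k) (D.comap σ)
  haveI := Ideal.BlowUp.isIso_off_center hσ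
  haveI : IsIso (pullback.snd σ D.subschemeι) := isIso_snd_of_le σ
    (Scheme.IdealSheafData.vanishingIdeal ⟨Z, hZ⟩).support.compl D.subschemeι (by
      rw [D.range_subschemeι]
      intro y hy hyZ
      rw [SetLike.mem_coe, ← SetLike.mem_coe, Scheme.IdealSheafData.coe_support_vanishingIdeal] at hyZ
      exact hsupp.le hy (ht _ (Or.inl hyZ)))
  let φ := (D.comapIso σ).hom ≫ pullback.snd σ D.subschemeι
  have hφι : φ ≫ D.subschemeι = (D.comap σ).subschemeι ≫ σ := by
    rw [Category.assoc, ← pullback.condition, ← Category.assoc,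
      Scheme.IdealSheafData.comapIso_hom_fst]
  have hφ : φ ≫ (D.subscheme ↘ Spec (CommRingCat.of k)) =
      (D.comap σ).subscheme ↘ Spec (CommRingCat.of k) := by
    change φ ≫ D.subschemeι ≫ CohB1.ProjSpace.toSpec 2 k =
      (D.comap σ).subschemeι ≫ (X ↘ Spec (CommRingCat.of k))
    rw [← Category.assoc, hφι, Category.assoc, hσk]
  have hdeg := SurfInt.PushIso.deg_pullback φ hφ
    (P := (Scheme.Modules.pullback D.subschemeι).obj (Twist.twistProjSpace 2 k 1))
    (PicLoc.isInvertible_pullback _ hL)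
  let eH : (Scheme.Modules.pullback φ).obj ((Scheme.Modules.pullback D.subschemeι).obj
      (Twist.twistProjSpace 2 k 1)) ≅ (Scheme.Modules.pullback (D.comap σ).subschemeι).obj ((Scheme.Modules.pullback σ).obj (Twist.twistProjSpace 2 k 1)) :=
    (Scheme.Modules.pullbackComp φ D.subschemeι).app _ ≪≫
      (Scheme.Modules.pullbackCongr hφι).app _ ≪≫
        ((Scheme.Modules.pullbackComp (D.comap σ).subschemeι σ).app _).symm
  haveI : IsIso (_root_.ClSub.unitToPush φ) := SurfInt.PushIso.isIso_unitToPush φ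
  haveI := TensorMod.QCohInv.isQCoh_structureModule (D.comap σ).subscheme
  have hO : Curv2.euler k D.subscheme (Coh.structureModule D.subscheme) =
      Curv2.euler k (D.comap σ).subscheme (Coh.structureModule (D.comap σ).subscheme) :=
    (Curves.Euler.euler_eq_of_iso (asIso (_root_.ClSub.unitToPush φ))).trans
      (SurfInt.Push.euler_push φ hφ _)
  simp only [Curv2.deg, Nat.cast_one, one_mul] at hdeg
  rw [Curves.Euler.euler_eq_of_iso eH] at hdeg
  rw [SurfInt.Surface.euler_quot (k := k) (D.comap σ),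
    SurfInt.Surface.euler_twist_quot (k := k) (D.comap σ) (PicLoc.isInvertible_pullback σ hL)]
  constructor <;> linarith

/-- `(H·H) = 1` and `(H·K) = -3`. -/
theorem intNum_self_canonical {W : X.Modules}
    (hW : ExtPow.IsExtPow 2 (Omega.sheaf (X ↘ (Spec (CommRingCat.of k)))) W) :
    FGA.intNum k X 2 ![((Scheme.Modules.pullback σ).obj (Twist.twistProjSpace 2 k 1)), ((Scheme.Modules.pullback σ).obj (Twist.twistProjSpace 2 k 1))] (Coh.structureModule X) = 1 ∧
      FGA.intNum k X 2 ![((Scheme.Modules.pullback σ).obj (Twist.twistProjSpace 2 k 1)), W] (Coh.structureModule X) = -3 := by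
  haveI := Curves.GlobalSections.isNoetherian_of_proper k X
  have hfin := Snapper.Finite.cohFinite k X
  have hH : PicF.IsInvertible ((Scheme.Modules.pullback σ).obj (Twist.twistProjSpace 2 k 1)) := PicLoc.isInvertible_pullback σ (isInvertible_tw (n := 2) (R := k) 1)
  have hWi := Duality.isInvertible_canonical hdim hW
  have hO := Snapper.Twist.isCoh_structureModule X
  obtain ⟨C, hC, ⟨e⟩, hq, hqH⟩ := exists_line hdim σ hσk hZ hZfin hσ
  have hIH := SurfInt.Effective.intNum_ideal (d := 2) hfin hdim.le hC hH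
  simp only [← Snapper.Chi.euler_eq_eulerCharLE (k := k) hdim.le] at hIH
  rw [hq, hqH] at hIH
  have hneg := fun (N : X.Modules) (hN : PicF.IsInvertible N) =>
    Snapper.IntNum.intNum_pair_inverse (k := k) hfin hdim.le hH hC e hN hO
  have hHH := hneg ((Scheme.Modules.pullback σ).obj (Twist.twistProjSpace 2 k 1)) hH
  have hII := hneg _ hC
  rw [Snapper.IntNum.intNum_pair_comm ((Scheme.Modules.pullback σ).obj (Twist.twistProjSpace 2 k 1)) (_root_.ClSub.idealMod C)] at hII
  have hIW := hneg W hWi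
  haveI : ConnectedSpace X := inferInstance
  have hrr := Proper.riemannRoch hdim hW hC
  have hchi := SurfInt.Effective.chi_twist_quot hfin (d := 2) hdim.le hC
    (PicLoc.isInvertible_structureModule X)
  simp only [← Snapper.Chi.euler_eq_eulerCharLE (k := k) hdim.le] at hchi
  rw [Curves.Euler.euler_eq_of_iso (rightUnit (_root_.ClSub.idealMod C)),
    Curves.Euler.euler_eq_of_iso (leftUnit (_root_.ClSub.quotMod C)), hq] at hchi
  constructor <;> linarith

theorem exists_canonical :
    ∃ W : X.Modules, ExtPow.IsExtPow 2 (Omega.sheaf (X ↘ (Spec (CommRingCat.of k)))) W := by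
  haveI := HyperDeg62.Terms.isQCoh_omega (f := X ↘ (Spec (CommRingCat.of k)))
  exact FundLocal.ExtPowExists.exists_isExtPow (E := Omega.sheaf (X ↘ (Spec (CommRingCat.of k)))) 2

/-- `H²(X, L) = 0` as soon as `(L·H) ≥ -2`. -/
theorem subsingleton_h2 {L : X.Modules} (hL : PicF.IsInvertible L)
    (hLH : -2 ≤ FGA.intNum k X 2 ![L, ((Scheme.Modules.pullback σ).obj (Twist.twistProjSpace 2 k 1))] (Coh.structureModule X)) :
    Subsingleton (Coh.HH X L 2) := by
  haveI := Curves.GlobalSections.isNoetherian_of_proper k X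
  have hfin := Snapper.Finite.cohFinite k X
  have hH : PicF.IsInvertible ((Scheme.Modules.pullback σ).obj (Twist.twistProjSpace 2 k 1)) := PicLoc.isInvertible_pullback σ (isInvertible_tw (n := 2) (R := k) 1)
  obtain ⟨W, hW⟩ := exists_canonical hdim σ hσk hZ hZfin hσ
  have hWi := Duality.isInvertible_canonical hdim hW
  have hHW := (intNum_self_canonical hdim σ hσk hZ hZfin hσ hW).2
  rw [Snapper.IntNum.intNum_pair_comm] at hHW
  obtain ⟨L', hL', ⟨e⟩⟩ := TensorMod.Invertible.exists_inverse hL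
  have hO := Snapper.Twist.isCoh_structureModule X
  have hM := TensorMod.Invertible.isInvertible_tensorMod hL' hWi
  have hneg : FGA.intNum k X 2 ![CohB1.tensorMod L' W, ((Scheme.Modules.pullback σ).obj (Twist.twistProjSpace 2 k 1))] (Coh.structureModule X) < 0 := by
    rw [Snapper.IntNum.intNum_pair_tensor_left hfin hdim.le hL' hWi hH hO,
      Snapper.IntNum.intNum_pair_inverse hfin hdim.le hL hL' e hH hO, hHW]
    linarith
  haveI := Groth.Agent.S16558.subsingleton_of_neg hdim hH hM (Groth.Agent.S16558.exists_sec σ) hneg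
  haveI := hfin _ (Ample.GG.isCoh_of_isInvertible hL) 2
  have hd := Duality.finrank_duality hdim hW hL e (p := 2) (q := 0) rfl
  rw [Module.finrank_zero_of_subsingleton (R := k) (M := Coh.HH X (CohB1.tensorMod L' W) 0)] at hd
  exact Module.finrank_zero_iff.1 hd

end Groth.Agent.Lib.SurfRR.PlaneBlow
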