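import Groth.Agent.Lib.SurfRR.Proper
import Groth.Agent.Lib.ProjSub.DisjointUnion
import Groth.Agent.Lib.ProjSpace.Basic

/-!
# Riemann–Roch on smooth proper surfaces, connected or not
-/

set_option autoImplicit false
set_option linter.style.haveILetI false
universe u

open CategoryTheory CategoryTheory.Limits AlgebraicGeometry TopologicalSpace

noncomputable section

namespace Groth.Agent.Lib.SurfRR.Components

open Groth.Agent.Lib

/-- A point of a Noetherian space has a connected clopen neighbourhood. -/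
theorem exists_connected_clopen {α : Type*} [TopologicalSpace α] [NoetherianSpace α] (x : α) :
    ∃ U : Opens α, IsClosed (U : Set α) ∧ x ∈ U ∧ ConnectedSpace (U : Set α) := by
  obtain ⟨C, ⟨hCo, hxC⟩, hmin⟩ := (wellFounded_lt (α := Closeds α)).has_min
    {C : Closeds α | IsOpen (C : Set α) ∧ x ∈ C} ⟨⊤, isOpen_univ, trivial⟩
  refine ⟨⟨C, hCo⟩, C.isClosed, hxC, ?_⟩
  haveI : Nonempty (C : Set α) := ⟨⟨x, hxC⟩⟩
  haveI : PreconnectedSpace (C : Set α) := by
    rw [preconnectedSpace_iff_clopen]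
    intro s hs
    by_contra hne
    push Not at hne
    have key : ∀ t : Set (C : Set α), IsClopen t → (⟨x, hxC⟩ : (C : Set α)) ∈ t → t = Set.univ := by
      intro t ht hx
      let D : Closeds α := ⟨Subtype.val '' t, C.isClosed.isClosedMap_subtype_val _ ht.1⟩
      have hD : D ∈ {C : Closeds α | IsOpen (C : Set α) ∧ x ∈ C} :=
        ⟨hCo.isOpenMap_subtype_val _ ht.2, ⟨⟨x, hxC⟩, hx, rfl⟩⟩
      have hle : D ≤ C := by
        rintro _ ⟨y, -, rfl⟩
        exact y.2
      have he : D = C := by_contra fun h => hmin D hD (lt_of_le_of_ne hle h)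
      refine Set.eq_univ_of_forall fun y => ?_
      obtain ⟨z, hz, hzy⟩ : (y : α) ∈ D := he.symm ▸ y.2
      rwa [← Subtype.ext hzy]
    by_cases hx : (⟨x, hxC⟩ : (C : Set α)) ∈ s
    · exact hne.2 (key s hs hx)
    · exact hne.1.ne_empty (Set.compl_univ_iff.1 (key sᶜ hs.compl hx))
  exact ⟨inferInstance⟩

variable {k : Type u} [Field k] {X : Scheme.{u}} [X.Over (Spec (CommRingCat.of k))]

/-- The structure over `k` of an open subscheme. -/
@[reducible]
def overOpen (U : X.Opens) : (↑U : Scheme.{u}).Over (Spec (CommRingCat.of k)) :=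
  ⟨U.ι ≫ (X ↘ Spec (CommRingCat.of k))⟩

theorem isProper_of_clopen [IsProper (X ↘ Spec (CommRingCat.of k))] (U : X.Opens)
    (hU : IsClosed (U : Set X)) : IsProper (U.ι ≫ (X ↘ Spec (CommRingCat.of k))) := by
  haveI : IsClosedImmersion U.ι :=
    IsClosedImmersion.of_isPreimmersion U.ι (by rw [Scheme.Opens.range_ι]; exact hU)
  infer_instance

/-- A connected clopen piece of a surface smooth over `k` is a surface. -/
theorem dim_clopen [Smooth (X ↘ Spec (CommRingCat.of k))]
    (hdim : ∀ Z ∈ irreducibleComponents (X : Type u), topologicalKrullDim Z = 2)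
    (U : X.Opens) (hU : IsClosed (U : Set X)) [ConnectedSpace (↑U : Scheme.{u})] :
    topologicalKrullDim (↑U : Scheme.{u}) = 2 := by
  haveI := RG.GeomComp.isIntegral_of_smooth_connected (U.ι ≫ (X ↘ Spec (CommRingCat.of k)))
  have hirr : IsIrreducible (U : Set X) := by
    have h := (IrreducibleSpace.isIrreducible_univ (↑U : Scheme.{u})).image U.ι
      U.ι.continuous.continuousOn
    rwa [Set.image_univ, Scheme.Opens.range_ι] at h
  refine Eq.trans ?_ (hdim (U : Set X) ⟨hirr, fun Z hZ hle z hz => ?_⟩)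
  · exact IsHomeomorph.topologicalKrullDim_eq _ (Homeomorph.refl _).isHomeomorph
  · by_contra hzU
    obtain ⟨y, hy⟩ := hirr.nonempty
    obtain ⟨w, -, hw1, hw2⟩ := hZ.isPreirreducible (U : Set X) (U : Set X)ᶜ U.2 hU.isOpen_compl
      ⟨y, hle hy, hy⟩ ⟨z, hz, hzU⟩
    exact hw2 hw1

/-- An equidimensional smooth surface is smooth of relative dimension two. -/
theorem smoothOfRelativeDimension [IsProper (X ↘ Spec (CommRingCat.of k))]
    [Smooth (X ↘ Spec (CommRingCat.of k))]
    (hdim : ∀ Z ∈ irreducibleComponents (X : Type u), topologicalKrullDim Z = 2) :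
    SmoothOfRelativeDimension 2 (X ↘ Spec (CommRingCat.of k)) := by
  haveI := Curves.GlobalSections.noetherianSpace_of_proper k X
  choose U hU hxU hc using fun x : X =>
    (exists_connected_clopen x : ∃ U : X.Opens, IsClosed (U : Set X) ∧ x ∈ U ∧
      ConnectedSpace (U : Set X))
  refine IsZariskiLocalAtSource.of_iSup_eq_top U (top_le_iff.1 fun x _ =>
    Opens.mem_iSup.2 ⟨x, hxU x⟩) fun x => ?_
  letI := overOpen (k := k) (U x)
  haveI : ConnectedSpace (↑(U x) : Scheme.{u}) := hc x
  haveI : Smooth ((↑(U x) : Scheme.{u}) ↘ Spec (CommRingCat.of k)) :=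
    inferInstanceAs (Smooth (Scheme.Opens.ι (U x) ≫ _))
  haveI := RG.GeomComp.isIntegral_of_smooth_connected
    ((↑(U x) : Scheme.{u}) ↘ Spec (CommRingCat.of k))
  exact Proper.smoothOfRelativeDimension (k := k) 2
    (by rw [dim_clopen (k := k) hdim (U x) (hU x)]; rfl)

/-- An equidimensional smooth proper surface is projective. -/
theorem exists_embedding [IsProper (X ↘ Spec (CommRingCat.of k))]
    [Smooth (X ↘ Spec (CommRingCat.of k))]
    (hdim : ∀ Z ∈ irreducibleComponents (X : Type u), topologicalKrullDim Z = 2)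
    (C : Closeds X) (hC : IsOpen (C : Set X)) :
    ∃ (r : ℕ) (ι : (↑(⟨C, hC⟩ : X.Opens) : Scheme.{u}) ⟶ CohB1.ProjSpace r k), IsClosedImmersion ι ∧
      ι ≫ CohB1.ProjSpace.toSpec r k =
        Scheme.Opens.ι (⟨C, hC⟩ : X.Opens) ≫ (X ↘ Spec (CommRingCat.of k)) := by
  haveI := Curves.GlobalSections.noetherianSpace_of_proper k X
  induction C using WellFoundedLT.induction with
  | ind C ih =>
    let U : X.Opens := ⟨C, hC⟩
    letI := overOpen (k := k) U
    haveI : Smooth ((↑U : Scheme.{u}) ↘ Spec (CommRingCat.of k)) :=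
      inferInstanceAs (Smooth (U.ι ≫ _))
    haveI : IsProper ((↑U : Scheme.{u}) ↘ Spec (CommRingCat.of k)) :=
      isProper_of_clopen U C.isClosed
    by_cases hconn : ConnectedSpace (↑U : Scheme.{u})
    · exact Proper.exists_embedding (k := k) (dim_clopen (k := k) hdim U C.isClosed)
    rcases isEmpty_or_nonempty (↑U : Scheme.{u}) with he | hne
    · -- the empty scheme
      haveI := he
      let j := (isInitialOfIsEmpty (X := (↑U : Scheme.{u}))).to (CohB1.ProjSpace 0 k)
      exact ⟨0, j, inferInstance, (isInitialOfIsEmpty).hom_ext _ _⟩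
    · obtain ⟨s, hs, hs0, hs1⟩ : ∃ s : Set (↑U : Scheme.{u}), IsClopen s ∧ s ≠ ∅ ∧ s ≠ Set.univ := by
        by_contra h
        push Not at h
        exact hconn { toPreconnectedSpace := preconnectedSpace_iff_clopen.2 fun s hs =>
          or_iff_not_imp_left.2 fun h0 => h s hs (Set.nonempty_iff_ne_empty.2 h0), toNonempty := hne }
      let V : (↑U : Scheme.{u}).Opens := ⟨s, hs.2⟩
      let V' : (↑U : Scheme.{u}).Opens := ⟨sᶜ, hs.1.isOpen_compl⟩
      haveI : IsClosedImmersion U.ι :=
        IsClosedImmersion.of_isPreimmersion U.ι (by rw [Scheme.Opens.range_ι]; exact C.isClosed)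
      have piece : ∀ W : (↑U : Scheme.{u}).Opens, IsClosed (W : Set (↑U : Scheme.{u})) →
          (W : Set (↑U : Scheme.{u})) ≠ Set.univ →
          ∃ (r : ℕ) (a : (↑W : Scheme.{u}) ⟶ CohB1.ProjSpace r k), IsClosedImmersion a ∧
            a ≫ CohB1.ProjSpace.toSpec r k = W.ι ≫ U.ι ≫ (X ↘ Spec (CommRingCat.of k)) := by
        intro W hW hW1
        let D : Closeds X := ⟨U.ι '' W, U.ι.isClosedEmbedding.isClosedMap _ hW⟩
        have hD : IsOpen (D : Set X) := (U.ι ''ᵁ W).2
        have hlt : D < C := by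
          refine lt_of_le_not_ge ?_ fun hge => hW1 (Set.eq_univ_of_forall fun y => ?_)
          · rintro _ ⟨y, -, rfl⟩
            exact U.range_ι.le ⟨y, rfl⟩
          · obtain ⟨z, hz, hzy⟩ := hge (U.range_ι.le ⟨y, rfl⟩)
            rwa [← U.ι.isOpenEmbedding.injective hzy]
        obtain ⟨r, a, ha, hc⟩ := ih D hlt hD
        haveI := ha
        let e : (↑W : Scheme.{u}) ≅ (↑(U.ι ''ᵁ W) : Scheme.{u}) := U.ι.isoImage W
        let a' : (↑(U.ι ''ᵁ W) : Scheme.{u}) ⟶ CohB1.ProjSpace r k := a
        have hc' : a' ≫ CohB1.ProjSpace.toSpec r k =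
          (U.ι ''ᵁ W).ι ≫ (X ↘ Spec (CommRingCat.of k)) := hc
        haveI : IsClosedImmersion a' := ha
        refine ⟨r, e.hom ≫ a', inferInstance, ?_⟩
        rw [Category.assoc, hc', ← Category.assoc, U.ι.isoImage_hom_ι W, Category.assoc]
      obtain ⟨r₁, a, ha, hca⟩ := piece V hs.1 hs1
      obtain ⟨r₂, b, hb, hcb⟩ := piece V' hs.2.isClosed_compl (fun h => hs0 (Set.compl_univ_iff.1 h))
      haveI := ha
      haveI := hb
      obtain ⟨A, B, hA, hB, hd, hAc, hBc⟩ := ProjSub.DisjointUnion.exists_embedding k r₁ r₂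
      haveI := hA
      haveI := hB
      have hcompl : IsCompl V.ι.opensRange V'.ι.opensRange := by
        rw [Scheme.Opens.opensRange_ι, Scheme.Opens.opensRange_ι, isCompl_iff, disjoint_iff,
          codisjoint_iff]
        exact ⟨Opens.ext (Set.inter_compl_self s), Opens.ext (Set.union_compl_self s)⟩
      obtain ⟨hlim⟩ := nonempty_isColimit_binaryCofanMk_of_isCompl V.ι V'.ι hcompl
      let e : (↑U : Scheme.{u}) ≅ (↑V : Scheme.{u}) ⨿ (↑V' : Scheme.{u}) :=
        hlim.coconePointUniqueUpToIso (colimit.isColimit (pair (↑V : Scheme.{u}) ↑V'))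
      haveI := ProjSub.DisjointUnion.isClosedImmersion_desc (a ≫ A) (b ≫ B)
        (hd.mono (Set.range_comp_subset_range a A) (Set.range_comp_subset_range b B))
      haveI : IsClosedImmersion e.hom := inferInstance
      refine ⟨r₁ + r₂ + 1, e.hom ≫ coprod.desc (a ≫ A) (b ≫ B),
        inferInstance, BinaryCofan.IsColimit.hom_ext hlim ?_ ?_⟩
      · have he : V.ι ≫ e.hom = coprod.inl :=
          hlim.comp_coconePointUniqueUpToIso_hom _ ⟨WalkingPair.left⟩
        change V.ι ≫ (e.hom ≫ coprod.desc (a ≫ A) (b ≫ B)) ≫ _ = V.ι ≫ _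
        rw [← Category.assoc, ← Category.assoc, he, coprod.inl_desc, Category.assoc, hAc, hca]
      · have he : V'.ι ≫ e.hom = coprod.inr :=
          hlim.comp_coconePointUniqueUpToIso_hom _ ⟨WalkingPair.right⟩
        change V'.ι ≫ (e.hom ≫ coprod.desc (a ≫ A) (b ≫ B)) ≫ _ = V'.ι ≫ _
        rw [← Category.assoc, ← Category.assoc, he, coprod.inr_desc, Category.assoc, hBc, hcb]

/-- Riemann–Roch on an equidimensional smooth proper surface. -/
theorem riemannRoch [IsProper (X ↘ Spec (CommRingCat.of k))]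
    [Smooth (X ↘ Spec (CommRingCat.of k))]
    (hdim : ∀ Z ∈ irreducibleComponents (X : Type u), topologicalKrullDim Z = 2)
    {W : X.Modules} (hW : ExtPow.IsExtPow 2 (Omega.sheaf (X ↘ Spec (CommRingCat.of k))) W)
    {L : X.Modules} (hL : PicF.IsInvertible L) :
    2 * Curv2.euler k X L =
      FGA.intNum k X 2 ![L, L] (Coh.structureModule X) -
        FGA.intNum k X 2 ![L, W] (Coh.structureModule X) +
          2 * Curv2.euler k X (Coh.structureModule X) := by
  haveI := smoothOfRelativeDimension (k := k) hdim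
  obtain ⟨r, ι, hc, hι⟩ := exists_embedding (k := k) hdim ⊤ isOpen_univ
  haveI := hc
  let e := X.topIso
  have hι' : (e.inv ≫ ι) ≫ CohB1.ProjSpace.toSpec r k = X ↘ Spec (CommRingCat.of k) := by
    rw [Category.assoc, hι]
    exact (Iso.inv_hom_id_assoc e _)
  exact Regular.riemannRoch (e.inv ≫ ι) hι'
    (ProjSpace.SmoothDimLE.topologicalKrullDim_le k (X ↘ Spec (CommRingCat.of k)) 2) hW hL

end Groth.Agent.Lib.SurfRR.Components
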