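import Groth.Agent.Lib.SurfRR.Regular
import Groth.Agent.Lib.SurfInt.PushIso
import Groth.Agent.Lib.SurfInt.Effective

/-!
# The adjunction formula from Riemann–Roch
-/

set_option autoImplicit false
set_option linter.style.haveILetI false
universe u

open CategoryTheory CategoryTheory.Limits AlgebraicGeometry TopologicalSpace

noncomputable section

namespace Groth.Agent.Lib.SurfRR.Adjunction

open Groth.Agent.Lib Groth.Agent.Lib.TensorMod.Basic

variable {k : Type u} [Field k] {X : Scheme.{u}} [X.Over (Spec (CommRingCat.of k))]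
  {C : Scheme.{u}} (i : C ⟶ X) [IsClosedImmersion i]

/-- `χ(O_X / I) = χ(C, O_C)`. -/
theorem euler_quot_ker :
    letI : C.Over (Spec (CommRingCat.of k)) := ⟨i ≫ (X ↘ Spec (CommRingCat.of k))⟩
    Curv2.euler k X (_root_.ClSub.quotMod i.ker) = Curv2.euler k C (Coh.structureModule C) := by
  letI : C.Over (Spec (CommRingCat.of k)) := ⟨i ≫ (X ↘ Spec (CommRingCat.of k))⟩
  letI : i.image.Over (Spec (CommRingCat.of k)) := SurfInt.Surface.overSub (k := k) i.ker
  haveI : IsIso i.toImage := inferInstance
  let φ : C ⟶ i.image := i.toImage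
  have hφ : φ ≫ (i.image ↘ Spec (CommRingCat.of k)) = C ↘ Spec (CommRingCat.of k) :=
    i.toImage_imageι_assoc _
  haveI := TensorMod.QCohInv.isQCoh_structureModule C
  haveI := SurfInt.PushIso.isIso_unitToPush φ
  have e := @asIso _ _ _ _ (_root_.ClSub.unitToPush φ) (SurfInt.PushIso.isIso_unitToPush φ)
  exact (SurfInt.Surface.euler_quot (k := k) i.ker).trans
    ((Curves.Euler.euler_eq_of_iso e).trans (SurfInt.Push.euler_push φ hφ (Coh.structureModule C)))

/-- Adjunction: `(I·I) - (I·W) = -2 χ(O_C)`. -/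
theorem adjunction [IsNoetherian X] (hfin : Snapper.Chi.CohFinite k X)
    (hd : topologicalKrullDim X ≤ 2) {W : X.Modules}
    (hI : PicF.IsInvertible (_root_.ClSub.idealMod i.ker))
    (hRR : 2 * Curv2.euler k X (_root_.ClSub.idealMod i.ker) =
      FGA.intNum k X 2 ![_root_.ClSub.idealMod i.ker, _root_.ClSub.idealMod i.ker] (Coh.structureModule X) -
        FGA.intNum k X 2 ![_root_.ClSub.idealMod i.ker, W] (Coh.structureModule X) +
          2 * Curv2.euler k X (Coh.structureModule X)) :
    letI : C.Over (Spec (CommRingCat.of k)) := ⟨i ≫ (X ↘ Spec (CommRingCat.of k))⟩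
    FGA.intNum k X 2 ![_root_.ClSub.idealMod i.ker, _root_.ClSub.idealMod i.ker] (Coh.structureModule X) -
        FGA.intNum k X 2 ![_root_.ClSub.idealMod i.ker, W] (Coh.structureModule X) =
      -2 * Curv2.euler k C (Coh.structureModule C) := by
  letI : C.Over (Spec (CommRingCat.of k)) := ⟨i ≫ (X ↘ Spec (CommRingCat.of k))⟩
  have hd' : topologicalKrullDim X ≤ ((2 : ℕ) : WithBot ℕ∞) := by exact_mod_cast hd
  have h := SurfInt.Effective.chi_quot hfin hd' hI
  simp only [← Snapper.Chi.euler_eq_eulerCharLE hd'] at h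
  rw [euler_quot_ker (k := k) i] at h
  linarith

end Groth.Agent.Lib.SurfRR.Adjunction
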