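import Groth.Agent.Lib.FundLocal.InvHom
import Groth.Agent.Lib.ExtHH.SheafHom
import Groth.Agent.Lib.ProjCoh.DualityCM
import Groth.Agent.Lib.Snapper.IntNum
import Groth.Agent.Lib.Snapper.Finite
import Groth.Agent.Lib.Curves.GlobalSections
import Groth.Agent.Lib.Ample.GG

/-!
# Riemann–Roch for an invertible module on a projective surface with invertible dualizing sheaf
-/

set_option autoImplicit false
set_option linter.style.haveILetI false
universe u

open CategoryTheory CategoryTheory.Limits AlgebraicGeometry TopologicalSpace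

noncomputable section

namespace Groth.Agent.Lib.SurfRR.Basic

open Groth.Agent.Lib Groth.Agent.Lib.TensorMod.Basic

variable {k : Type u} [Field k] {X : Scheme.{u}} [X.Over (Spec (CommRingCat.of k))]

/-- Riemann–Roch from `χ(F) = χ(F⁻¹ ⊗ W)`. -/
theorem riemannRoch [IsNoetherian X] (hfin : Snapper.Chi.CohFinite k X)
    (hd : topologicalKrullDim X ≤ 2) {W : X.Modules}
    (hdual : ∀ F F' : X.Modules, PicF.IsInvertible F →
      Nonempty (CohB1.tensorMod F F' ≅ Coh.structureModule X) →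
      FGA.eulerCharLE k X F 2 = FGA.eulerCharLE k X (CohB1.tensorMod F' W) 2)
    {L : X.Modules} (hL : PicF.IsInvertible L) :
    2 * Curv2.euler k X L =
      FGA.intNum k X 2 ![L, L] (Coh.structureModule X) -
        FGA.intNum k X 2 ![L, W] (Coh.structureModule X) +
          2 * Curv2.euler k X (Coh.structureModule X) := by
  have hd' : topologicalKrullDim X ≤ ((2 : ℕ) : WithBot ℕ∞) := by exact_mod_cast hd
  rw [Snapper.Chi.euler_eq_eulerCharLE hd' L, Snapper.Chi.euler_eq_eulerCharLE hd'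
    (Coh.structureModule X)]
  obtain ⟨L', hL', ⟨e⟩⟩ : ∃ L' : X.Modules, PicF.IsInvertible L' ∧
      Nonempty (CohB1.tensorMod L L' ≅ Coh.structureModule X) :=
    ⟨_, TensorMod.Invertible.isInvertible_dual hL, ⟨TensorMod.Invertible.tensorDualIso hL⟩⟩
  let O := Coh.structureModule X
  let χ := fun F : X.Modules => FGA.eulerCharLE k X F 2
  have iso : ∀ {F G : X.Modules}, (F ≅ G) → χ F = χ G := fun i => Snapper.Chi.eulerCharLE_of_iso i 2
  have c₁ : χ O = χ W :=
    (hdual O O (PicLoc.isInvertible_structureModule X) ⟨leftUnit _⟩).trans (iso (leftUnit W))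
  have c₂ : χ L' = χ (CohB1.tensorMod L W) := hdual L' L hL' ⟨comm L' L ≪≫ e⟩
  have hS := Snapper.Vanish.sym_eq_zero hfin hd' [L, L, L] (by simpa using hL) L'
    (Ample.GG.isCoh_of_isInvertible hL')
    (Snapper.IntNum.dim_support_lt (n := 2) hd')
  simp only [Snapper.Vanish.sym_cons, Snapper.Vanish.sym] at hS
  simp only [Snapper.IntNum.intNum_pair, Snapper.Vanish.sym_cons, Snapper.Vanish.sym]
  have a₁ : χ (CohB1.tensorMod L L') = χ O := iso e
  have a₂ : χ (CohB1.tensorMod L (CohB1.tensorMod L L')) = χ L :=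
    iso (tensorIso (Iso.refl L) e ≪≫ rightUnit L)
  have a₃ : χ (CohB1.tensorMod L (CohB1.tensorMod L (CohB1.tensorMod L L'))) =
      χ (CohB1.tensorMod L L) :=
    iso (tensorIso (Iso.refl L) (tensorIso (Iso.refl L) e ≪≫ rightUnit L))
  have b₁ : χ (CohB1.tensorMod L O) = χ L := iso (rightUnit L)
  have b₂ : χ (CohB1.tensorMod W O) = χ W := iso (rightUnit W)
  have b₃ : χ (CohB1.tensorMod L (CohB1.tensorMod L O)) = χ (CohB1.tensorMod L L) :=
    iso (tensorIso (Iso.refl L) (rightUnit L))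
  have b₄ : χ (CohB1.tensorMod W (CohB1.tensorMod L O)) = χ (CohB1.tensorMod L W) :=
    iso (tensorIso (Iso.refl W) (rightUnit L) ≪≫ comm W L)
  simp only [χ, O] at c₁ c₂ a₁ a₂ a₃ b₁ b₂ b₃ b₄
  linarith

variable {r : ℕ} (ι : X ⟶ CohB1.ProjSpace r k) [IsClosedImmersion ι]

/-- `χ(F) = χ(F⁻¹ ⊗ ω)` for a dualizing sheaf on a Cohen–Macaulay surface. -/
theorem euler_duality (hι : ι ≫ CohB1.ProjSpace.toSpec r k = X ↘ Spec (CommRingCat.of k))
    (hdepth : ∀ x : X, IsClosed ({x} : Set X) →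
      (2 : ℕ∞) ≤ LocCoh.depth (X.presheaf.stalk x) (X.presheaf.stalk x))
    {ω : X.Modules} (hω : Coh.IsCoh ω) {t : Coh.HH X ω 2 →ₗ[k] k}
    (ht : ProjCoh.DualityCM.IsDualizing ω t) {F F' : X.Modules} (hF : PicF.IsInvertible F)
    (e : CohB1.tensorMod F F' ≅ Coh.structureModule X) :
    FGA.eulerCharLE k X F 2 = FGA.eulerCharLE k X (CohB1.tensorMod F' ω) 2 := by
  haveI : HasExt.{u} X.Modules := hasExt_of_enoughInjectives _
  haveI := ProjCoh.ClosedSub.isLocallyNoetherian ι
  haveI : IsProper (X ↘ Spec (CommRingCat.of k)) := by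
    rw [← hι]
    infer_instance
  haveI : CompactSpace X := QuasiCompact.compactSpace_of_compactSpace (X ↘ Spec (CommRingCat.of k))
  haveI := FundLocal.InvHom.hasSheafHom e
  have he := ProjCoh.DualityCM.hasEff ι ω hω (n := 2) hdepth
  have hFc : Coh.IsCoh F := Ample.GG.isCoh_of_isInvertible hF
  have h : ∀ p ≤ 2, Module.finrank k (Coh.HH X F p) =
      Module.finrank k (Coh.HH X (CohB1.tensorMod F' ω) (2 - p)) := fun p hp => by
    obtain ⟨i⟩ := ProjCoh.DualityCM.nonempty_equiv (t := t) ht he (2 - p) p (by omega) F hFc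
    have j := i.symm ≪≫ₗ
      ExtHH.SheafHom.extLinearEquiv k (TensorMod.LocFree.of_rank (TensorMod.LocFree.of_isInvertible hF))
        ω (2 - p) ≪≫ₗ
      Curves.LES.isoK k (FundLocal.InvHom.homIso' e ω ≪≫ comm ω F') (2 - p)
    rw [← j.finrank_eq, Subspace.dual_finrank_eq]
  simp only [FGA.eulerCharLE, Finset.sum_range_succ, Finset.sum_range_zero,
    h 0 (by norm_num), h 1 (by norm_num), h 2 le_rfl]
  ring

/-- `h^p(F) = h^{2-p}(F⁻¹ ⊗ ω)`. -/
theorem finrank_duality (hι : ι ≫ CohB1.ProjSpace.toSpec r k = X ↘ Spec (CommRingCat.of k))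
    (hdepth : ∀ x : X, IsClosed ({x} : Set X) →
      (2 : ℕ∞) ≤ LocCoh.depth (X.presheaf.stalk x) (X.presheaf.stalk x))
    {ω : X.Modules} (hω : Coh.IsCoh ω) {t : Coh.HH X ω 2 →ₗ[k] k}
    (ht : ProjCoh.DualityCM.IsDualizing ω t) {F F' : X.Modules} (hF : PicF.IsInvertible F)
    (e : CohB1.tensorMod F F' ≅ Coh.structureModule X) {p q : ℕ} (hpq : p + q = 2) :
    Module.finrank k (Coh.HH X F p) = Module.finrank k (Coh.HH X (CohB1.tensorMod F' ω) q) := by
  haveI : HasExt.{u} X.Modules := hasExt_of_enoughInjectives _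
  haveI := ProjCoh.ClosedSub.isLocallyNoetherian ι
  haveI : IsProper (X ↘ Spec (CommRingCat.of k)) := by
    rw [← hι]
    infer_instance
  haveI : CompactSpace X := QuasiCompact.compactSpace_of_compactSpace (X ↘ Spec (CommRingCat.of k))
  haveI := FundLocal.InvHom.hasSheafHom e
  obtain ⟨i⟩ := ProjCoh.DualityCM.nonempty_equiv (t := t) ht
    (ProjCoh.DualityCM.hasEff ι ω hω (n := 2) hdepth) q p (by omega) F
    (Ample.GG.isCoh_of_isInvertible hF)
  have j := i.symm ≪≫ₗ
    ExtHH.SheafHom.extLinearEquiv k (TensorMod.LocFree.of_rank (TensorMod.LocFree.of_isInvertible hF))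
      ω q ≪≫ₗ
    Curves.LES.isoK k (FundLocal.InvHom.homIso' e ω ≪≫ comm ω F') q
  rw [← j.finrank_eq, Subspace.dual_finrank_eq]

/-- Riemann–Roch on a projective Cohen–Macaulay surface with dualizing sheaf `ω`. -/
theorem riemannRoch_of_dualizing (hι : ι ≫ CohB1.ProjSpace.toSpec r k = X ↘ Spec (CommRingCat.of k))
    (hd : topologicalKrullDim X ≤ 2)
    (hdepth : ∀ x : X, IsClosed ({x} : Set X) →
      (2 : ℕ∞) ≤ LocCoh.depth (X.presheaf.stalk x) (X.presheaf.stalk x))
    {ω : X.Modules} (hω : Coh.IsCoh ω) {t : Coh.HH X ω 2 →ₗ[k] k}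
    (ht : ProjCoh.DualityCM.IsDualizing ω t) {L : X.Modules} (hL : PicF.IsInvertible L) :
    2 * Curv2.euler k X L =
      FGA.intNum k X 2 ![L, L] (Coh.structureModule X) -
        FGA.intNum k X 2 ![L, ω] (Coh.structureModule X) +
          2 * Curv2.euler k X (Coh.structureModule X) := by
  haveI : IsProper (X ↘ Spec (CommRingCat.of k)) := by
    rw [← hι]
    infer_instance
  haveI := Curves.GlobalSections.isNoetherian_of_proper k X
  exact riemannRoch (Snapper.Finite.cohFinite k X) hd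
    (fun F F' hF ⟨e⟩ => euler_duality ι hι hdepth hω ht hF e) hL

end Groth.Agent.Lib.SurfRR.Basic
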