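import Groth.Agent.Lib.SurfRR.Minimal

/-!
# Nef divisors of positive square are numerically connected
-/

set_option autoImplicit false
set_option linter.style.haveILetI false
universe u

open CategoryTheory CategoryTheory.Limits AlgebraicGeometry TopologicalSpace

noncomputable section

namespace Groth.Agent.Lib.SurfRR.Connected

open Groth.Agent.Lib

variable {k : Type u} [Field k] [Infinite k] {X : Scheme.{u}} [X.Over (Spec (CommRingCat.of k))]
  [IsProper (X ↘ Spec (CommRingCat.of k))] [Smooth (X ↘ Spec (CommRingCat.of k))]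
  [IsIntegral X] [IsNoetherian X] (hdim : topologicalKrullDim X = 2)

include k hdim

/-- Hodge index: a class of nonnegative square orthogonal to one of positive square is orthogonal to
everything. -/
theorem eq_zero_of_sq_nonneg {H D P : X.Modules} (hH : CohB1.IsAmple H) (hD : PicF.IsInvertible D)
    (hP : PicF.IsInvertible P) (hDD : 0 < FGA.intNum k X 2 ![D, D] (Coh.structureModule X))
    (hDP : FGA.intNum k X 2 ![D, P] (Coh.structureModule X) = 0)
    (hPP : 0 ≤ FGA.intNum k X 2 ![P, P] (Coh.structureModule X)) {Q : X.Modules}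
    (hQ : PicF.IsInvertible Q) : FGA.intNum k X 2 ![P, Q] (Coh.structureModule X) = 0 := by
  set d := FGA.intNum k X 2 ![D, D] (Coh.structureModule X) with hd
  obtain ⟨R, hR, hRlin⟩ := SurfInt.NefInt.exists_comb (k := k) hdim hQ hD d
    (-FGA.intNum k X 2 ![D, Q] (Coh.structureModule X))
  have hDR : FGA.intNum k X 2 ![D, R] (Coh.structureModule X) = 0 := by
    rw [Snapper.IntNum.intNum_pair_comm, hRlin D hD, Snapper.IntNum.intNum_pair_comm Q D, ← hd]
    ring
  set w := FGA.intNum k X 2 ![R, R] (Coh.structureModule X) with hw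
  set q := FGA.intNum k X 2 ![R, P] (Coh.structureModule X) with hq
  have hall : ∀ t : ℤ, 2 * t * q + w ≤ 0 := by
    intro t
    obtain ⟨M, hM, hMlin⟩ := SurfInt.NefInt.exists_comb (k := k) hdim hR hP 1 t
    have h0 : FGA.intNum k X 2 ![D, M] (Coh.structureModule X) = 0 := by
      rw [Snapper.IntNum.intNum_pair_comm, hMlin D hD, Snapper.IntNum.intNum_pair_comm R, hDR,
        Snapper.IntNum.intNum_pair_comm P, hDP]
      ring
    have h := SurfInt.ProjSurf.intNum_nonpos_of_pos (k := k) hdim hH hD hM hDD h0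
    rw [SurfInt.NefInt.sq_comb hdim hR hP hM 1 t hMlin] at h
    nlinarith [mul_self_nonneg t]
  have hq0 : q = 0 := by
    by_contra hne
    have h1 := hall ((|w| + 1) * q)
    have h2 : 1 ≤ q ^ 2 := by nlinarith [mul_self_pos.mpr hne]
    have h3 : 2 * (|w| + 1) * 1 ≤ 2 * (|w| + 1) * q ^ 2 :=
      mul_le_mul_of_nonneg_left h2 (by positivity)
    nlinarith [neg_abs_le w, abs_nonneg w]
  rw [hq, hRlin P hP, hDP, mul_zero, add_zero, Snapper.IntNum.intNum_pair_comm Q P] at hq0
  exact (mul_eq_zero.mp hq0).resolve_left hDD.ne'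

/-- Half of the numerical connectedness argument. -/
theorem pos_of_pos {D₁ D₂ : X.IdealSheafData} (h₁ : BlowUp.IsEffCartierIdeal D₁)
    (h₂ : BlowUp.IsEffCartierIdeal D₂) (hne : D₂ ≠ ⊤)
    (ha : 0 < FGA.intNum k X 2 ![_root_.ClSub.idealMod D₁, _root_.ClSub.idealMod D₁] (Coh.structureModule X) +
      FGA.intNum k X 2 ![_root_.ClSub.idealMod D₁, _root_.ClSub.idealMod D₂] (Coh.structureModule X))
    (hc : 0 ≤ FGA.intNum k X 2 ![_root_.ClSub.idealMod D₂, _root_.ClSub.idealMod D₂] (Coh.structureModule X) +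
      FGA.intNum k X 2 ![_root_.ClSub.idealMod D₁, _root_.ClSub.idealMod D₂] (Coh.structureModule X)) :
    0 < FGA.intNum k X 2 ![_root_.ClSub.idealMod D₁, _root_.ClSub.idealMod D₂] (Coh.structureModule X) := by
  obtain ⟨r, ι, hcl, hι⟩ := Proper.exists_embedding (k := k) (X := X) hdim
  haveI := hcl
  have hH := SurfInt.ProjSurf.isAmple ι
  have hfin := Snapper.Finite.cohFinite k X
  have hI₁ := SurfInt.Effective.isInvertible_idealMod h₁
  have hI₂ := SurfInt.Effective.isInvertible_idealMod h₂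
  set a := FGA.intNum k X 2 ![_root_.ClSub.idealMod D₁, _root_.ClSub.idealMod D₁] (Coh.structureModule X) with hae
  set b := FGA.intNum k X 2 ![_root_.ClSub.idealMod D₁, _root_.ClSub.idealMod D₂] (Coh.structureModule X) with hbe
  set c := FGA.intNum k X 2 ![_root_.ClSub.idealMod D₂, _root_.ClSub.idealMod D₂] (Coh.structureModule X) with hce
  by_contra hb
  push Not at hb
  have ha' : 0 < a := by omega
  obtain ⟨M, hM, hMlin⟩ := SurfInt.NefInt.exists_comb (k := k) hdim hI₂ hI₁ a (-b)
  have h0 : FGA.intNum k X 2 ![_root_.ClSub.idealMod D₁, M] (Coh.structureModule X) = 0 := by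
    rw [Snapper.IntNum.intNum_pair_comm, hMlin _ hI₁, Snapper.IntNum.intNum_pair_comm, ← hbe, ← hae]
    ring
  have hMM := SurfInt.ProjSurf.intNum_nonpos_of_pos (k := k) hdim hH hI₁ hM ha' h0
  rw [SurfInt.NefInt.sq_comb hdim hI₂ hI₁ hM a (-b) hMlin,
    Snapper.IntNum.intNum_pair_comm (_root_.ClSub.idealMod D₂) (_root_.ClSub.idealMod D₁), ← hae, ← hbe, ← hce] at hMM
  have hle : a * c - b ^ 2 ≤ 0 := by nlinarith
  rcases hb.lt_or_eq with hb' | hb'
  · nlinarith [mul_pos ha (neg_pos.mpr hb'), mul_le_mul_of_nonneg_left (show -b ≤ c by omega) ha'.le]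
  · have hc0 : 0 ≤ c := by omega
    have hPH := eq_zero_of_sq_nonneg (k := k) hdim hH hI₁ hI₂ ha' (by rw [← hbe, hb']) hc0 hH.1
    have := SurfInt.NegDef.intNum_eff_ample_neg hfin hdim
      (SurfInt.NegDef.regular_of_smooth (k := k)) hH h₂ hne
    omega

end Groth.Agent.Lib.SurfRR.Connected
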