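import Groth.Agent.Lib.SurfRR.Fundamental
import Groth.Agent.Lib.SurfInt.AffineBoundary
import Groth.Agent.Lib.SurfInt.Pencil
import Groth.Agent.Lib.Ample.Basis
import Mathlib.Tactic.FieldSimp

/-!
# Curves contracted to a normal point have negative definite intersection matrix
-/

set_option autoImplicit false
set_option linter.style.haveILetI false
universe u

open CategoryTheory CategoryTheory.Limits AlgebraicGeometry TopologicalSpace Opposite

noncomputable section

namespace Groth.Agent.Lib.SurfRR.Contraction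

open Groth.Agent.Lib Groth.Agent.Lib.TensorMod.Basic
open Groth.Agent.Lib.Ideal.Prime (stalkIdeal stalkIdeal_eq)
open Groth.Agent.Lib.SurfRR.Ramanujam (le_of_mul_left le_of_mul_right)

/-- A matrix with nonnegative off-diagonal entries, a positive vector with nonpositive image which is
somewhere negative, and connected graph, is negative definite. -/
theorem negDef_of_vector {r : ℕ} (G : Fin r → Fin r → ℤ) (hsym : ∀ i j, G i j = G j i)
    (hoff : ∀ i j, i ≠ j → 0 ≤ G i j) (m : Fin r → ℕ) (hm : ∀ i, 0 < m i)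
    (hrow : ∀ i, ∑ j, G i j * (m j : ℤ) ≤ 0) (hstrict : ∃ i, ∑ j, G i j * (m j : ℤ) < 0)
    (hconn : ∀ S : Finset (Fin r), S.Nonempty → Sᶜ.Nonempty → ∃ i ∈ S, ∃ j ∈ Sᶜ, 0 < G i j)
    (a : Fin r → ℤ) (ha : a ≠ 0) : ∑ i, ∑ j, a i * a j * G i j < 0 := by
  classical
  let M : Fin r → ℚ := fun i => (m i : ℚ)
  let g : Fin r → Fin r → ℚ := fun i j => (G i j : ℚ)
  let b : Fin r → ℚ := fun i => (a i : ℚ) / M i
  have hM : ∀ i, 0 < M i := fun i => Nat.cast_pos.2 (hm i)
  let R : Fin r → ℚ := fun i => ∑ j, g i j * M j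
  have hR : ∀ i, R i ≤ 0 := fun i => by
    have : R i = ((∑ j, G i j * (m j : ℤ) : ℤ) : ℚ) := by push_cast; rfl
    rw [this]; exact_mod_cast hrow i
  let E : Fin r → Fin r → ℚ := fun i j => g i j * M i * M j * (b i - b j) ^ 2
  have hE : ∀ i j, 0 ≤ E i j := fun i j => by
    by_cases h : i = j
    · subst h; simp [E]
    · exact mul_nonneg (mul_nonneg (mul_nonneg (Int.cast_nonneg (hoff i j h)) (hM i).le) (hM j).le)
        (sq_nonneg _)
  have key : ((∑ i, ∑ j, a i * a j * G i j : ℤ) : ℚ) =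
      ∑ i, b i ^ 2 * M i * R i - (1 / 2) * ∑ i, ∑ j, E i j := by
    have hswap : ∑ i, ∑ j, g i j * M i * M j * b j ^ 2 = ∑ i, ∑ j, g i j * M i * M j * b i ^ 2 := by
      rw [Finset.sum_comm]
      refine Finset.sum_congr rfl fun i _ => Finset.sum_congr rfl fun j _ => ?_
      simp only [g, hsym j i]
      ring
    have hexp : ∑ i, ∑ j, E i j = ∑ i, ∑ j, g i j * M i * M j * b i ^ 2 +
        ∑ i, ∑ j, g i j * M i * M j * b j ^ 2 -
        2 * ∑ i, ∑ j, g i j * M i * M j * (b i * b j) := by
      simp only [Finset.mul_sum, ← Finset.sum_add_distrib, ← Finset.sum_sub_distrib]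
      exact Finset.sum_congr rfl fun i _ => Finset.sum_congr rfl fun j _ => by simp only [E]; ring
    have hlhs : ((∑ i, ∑ j, a i * a j * G i j : ℤ) : ℚ) =
        ∑ i, ∑ j, g i j * M i * M j * (b i * b j) := by
      push_cast
      refine Finset.sum_congr rfl fun i _ => Finset.sum_congr rfl fun j _ => ?_
      have h1 := (hM i).ne'
      have h2 := (hM j).ne'
      simp only [b, g]
      field_simp
    have hd : ∑ i, b i ^ 2 * M i * R i = ∑ i, ∑ j, g i j * M i * M j * b i ^ 2 := by
      simp only [R, Finset.mul_sum]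
      exact Finset.sum_congr rfl fun i _ => Finset.sum_congr rfl fun j _ => by ring
    rw [hlhs, hd, hexp, hswap]
    ring
  have hA : ∀ i, b i ^ 2 * M i * R i ≤ 0 := fun i =>
    mul_nonpos_of_nonneg_of_nonpos (mul_nonneg (sq_nonneg _) (hM i).le) (hR i)
  have hEs : 0 ≤ ∑ i, ∑ j, E i j := Finset.sum_nonneg fun i _ => Finset.sum_nonneg fun j _ => hE i j
  have hAs : ∑ i, b i ^ 2 * M i * R i ≤ 0 := Finset.sum_nonpos fun i _ => hA i
  by_contra hcon
  push Not at hcon
  have hcon' : (0 : ℚ) ≤ ((∑ i, ∑ j, a i * a j * G i j : ℤ) : ℚ) := by exact_mod_cast hcon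
  have hA0 := (Finset.sum_eq_zero_iff_of_nonpos fun i _ => hA i).1
    (le_antisymm hAs (by linarith))
  have hE0 : ∀ i j, E i j = 0 := fun i j => by
    have h1 := (Finset.sum_eq_zero_iff_of_nonneg fun i _ => Finset.sum_nonneg fun j _ => hE i j).1
      (le_antisymm (by linarith) hEs) i (Finset.mem_univ _)
    exact (Finset.sum_eq_zero_iff_of_nonneg fun j _ => hE i j).1 h1 j (Finset.mem_univ _)
  obtain ⟨i₀, hi₀⟩ := hstrict
  have hb0 : b i₀ = 0 := by
    have h1 := hA0 i₀ (Finset.mem_univ _)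
    have h2 : R i₀ ≠ 0 := by
      have : R i₀ = ((∑ j, G i₀ j * (m j : ℤ) : ℤ) : ℚ) := by push_cast; rfl
      rw [this]; exact_mod_cast hi₀.ne
    rcases mul_eq_zero.1 h1 with h1 | h1
    · rcases mul_eq_zero.1 h1 with h1 | h1
      · exact pow_eq_zero_iff two_ne_zero |>.1 h1
      · exact absurd h1 (hM i₀).ne'
    · exact absurd h1 h2
  let S := Finset.univ.filter fun i => b i = 0
  by_cases hS : Sᶜ.Nonempty
  · obtain ⟨i, hi, j, hj, hij⟩ := hconn S ⟨i₀, by simp [S, hb0]⟩ hS
    simp only [S, Finset.mem_compl, Finset.mem_filter, Finset.mem_univ, true_and] at hi hj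
    have h1 := hE0 i j
    simp only [E, hi, zero_sub, neg_sq, mul_eq_zero] at h1
    rcases h1 with ((h1 | h1) | h1) | h1
    · exact hij.ne' (Int.cast_eq_zero.1 h1)
    · exact (hM i).ne' h1
    · exact (hM j).ne' h1
    · exact hj (pow_eq_zero_iff two_ne_zero |>.1 h1)
  · refine ha (funext fun i => ?_)
    rw [Finset.not_nonempty_iff_eq_empty, Finset.compl_eq_empty_iff] at hS
    have : b i = 0 := by
      have := hS ▸ Finset.mem_univ i
      simpa [S] using this
    rcases div_eq_zero_iff.1 this with h | h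
    · exact_mod_cast h
    · exact absurd h (hM i).ne'

variable {X : Scheme.{u}} [IsIntegral X]

open Groth.Agent.Lib.Ample.GenLocus in
/-- Two sections of an invertible module whose ratio is a regular function on `W`. -/
theorem stalkIdeal_zeroScheme_mul {M : X.Modules} (hM : PicF.IsInvertible M)
    (t u : Coh.structureModule X ⟶ M) (ht : t ≠ 0) (hu : u ≠ 0) {W : X.Opens} (g : Γ(X, W))
    (hgen : ∃ hz : genericPoint X ∈ W, SurfInt.Div.germOne M t (genericPoint X) =
      X.presheaf.germ W _ hz g • SurfInt.Div.germOne M u (genericPoint X))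
    {x : X} (hx : x ∈ W) :
    stalkIdeal (PicF2.zeroScheme M t) x =
      _root_.Ideal.span {X.presheaf.germ W x hx g} * stalkIdeal (PicF2.zeroScheme M u) x := by
  obtain ⟨hz, hgen⟩ := hgen
  obtain ⟨F, hxF, -⟩ := H95.ZeroSch.exists_frame hM (show x ∈ (⊤ : X.Opens) from trivial)
  let a := H95.ZeroSch.coord F (SecTwist.val t F.V.1)
  let b := H95.ZeroSch.coord F (SecTwist.val u F.V.1)
  have hzF : genericPoint X ∈ F.V.1 :=
    (genericPoint_specializes x).mem_open F.V.1.isOpen hxF
  have hone : ∀ (s : Coh.structureModule X ⟶ M) {y : X} (hy : y ∈ F.V.1),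
      SurfInt.Div.germOne M s y = X.presheaf.germ F.V.1 y hy (H95.ZeroSch.coord F (SecTwist.val s F.V.1)) •
        M.presheaf.germ F.V.1 y hy F.e := fun s y hy => by
    rw [SurfInt.Div.germOne_eq M s hy, ← Groth.Agent.Lib.Modules.StalkModule.germ_smul,
      H95.ZeroSch.coord_smul]
  have h1 : X.presheaf.germ F.V.1 _ hzF a = X.presheaf.germ W _ hz g * X.presheaf.germ F.V.1 _ hzF b :=
    sub_eq_zero.1 ((SurfInt.Div.span_germ_eq_top F.he hzF).2 _ (by
      rw [sub_smul, mul_smul, ← hone t hzF, ← hone u hzF, hgen, sub_self]))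
  let V := F.V.1 ⊓ W
  have h2 : X.presheaf.map (homOfLE (inf_le_left : V ≤ F.V.1)).op a =
      X.presheaf.map (homOfLE (inf_le_right : V ≤ W)).op g *
        X.presheaf.map (homOfLE (inf_le_left : V ≤ F.V.1)).op b := by
    haveI : Nonempty V := ⟨⟨x, hxF, hx⟩⟩
    refine germ_injective_of_isIntegral X (genericPoint X) (show genericPoint X ∈ V from ⟨hzF, hz⟩) ?_
    rw [map_mul]
    simp only [TopCat.Presheaf.germ_res_apply]
    exact h1
  have h3 : X.presheaf.germ F.V.1 x hxF a = X.presheaf.germ W x hx g * X.presheaf.germ F.V.1 x hxF b := by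
    have := congrArg (X.presheaf.germ V x ⟨hxF, hx⟩) h2
    rw [map_mul] at this
    simpa only [TopCat.Presheaf.germ_res_apply] using this
  obtain ⟨he, hfree⟩ := SurfInt.Div.span_germ_eq_top F.he hxF
  rw [SurfInt.Pencil.stalkIdeal_zeroScheme hM t ht he hfree (hone t hxF),
    SurfInt.Pencil.stalkIdeal_zeroScheme hM u hu he hfree (hone u hxF),
    _root_.Ideal.span_singleton_mul_span_singleton]
  exact congrArg (fun c => _root_.Ideal.span {c}) h3

variable {k : Type u} [Field k] [IsAlgClosed k] [X.Over (Spec (CommRingCat.of k))]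
  [IsProper (X ↘ Spec (CommRingCat.of k))] [Smooth (X ↘ Spec (CommRingCat.of k))]
  [AlgebraicGeometry.IsNoetherian X] (hdim : topologicalKrullDim X = 2)

include k hdim

open TensorMod TensorMod.Free TensorMod.Dual TensorMod.Gen TensorMod.LocIso TensorMod.Pullback Ample.GenLocus Ample.Extend in
/-- The divisors of a function regular near given points, with the same class. -/
theorem exists_divisors {W : X.Opens} (g : Γ(X, W)) (hg : g ≠ 0) :
    ∃ T U : X.IdealSheafData, BlowUp.IsEffCartierIdeal T ∧ BlowUp.IsEffCartierIdeal U ∧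
      (∀ P : X.Modules, PicF.IsInvertible P →
        FGA.intNum k X 2 ![_root_.ClSub.idealMod T, P] (Coh.structureModule X) =
          FGA.intNum k X 2 ![_root_.ClSub.idealMod U, P] (Coh.structureModule X)) ∧
      ∀ (x : X) (hx : x ∈ W), stalkIdeal T x =
        _root_.Ideal.span {X.presheaf.germ W x hx g} * stalkIdeal U x := by
  have hfin := Snapper.Finite.cohFinite k X
  obtain ⟨r, ι, hc, hι⟩ := Proper.exists_embedding (k := k) (X := X) hdim
  haveI := hc
  have hH0 := SurfInt.ProjSurf.isAmple ι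
  obtain ⟨H, hH⟩ : ∃ H : X.Modules, CohB1.IsAmple H := ⟨_, hH0⟩
  have hne : (W : Set X).Nonempty := by
    rcases Set.eq_empty_or_nonempty (W : Set X) with h | h
    · exfalso
      have hW : W = ⊥ := SetLike.ext' h
      subst hW
      exact hg (Subsingleton.elim _ _)
    · exact h
  have hzW : genericPoint X ∈ W := ((genericPoint_spec X).mem_open_set_iff W.isOpen).2 (by simpa using hne)
  obtain ⟨n, hn, s, hzs, hsW, -⟩ :=
    Ample.Basis.exists_locus_of_finite hH {genericPoint X} (Set.finite_singleton _) W (by simpa using hzW)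
  let N := CohB1.tensorPow H n
  have hN : PicF.IsInvertible N := TensorMod.Invertible.isInvertible_tensorPow hH.1 n
  let G := CohB1.genLocus N s
  have hzG : genericPoint X ∈ G := hzs rfl
  haveI := TensorMod.QCohInv.isQCoh_structureModule X
  let f : Γ(X, G) := X.presheaf.map (homOfLE hsW).op g
  obtain ⟨m, ⟨t', ht'⟩, ⟨u', hu'⟩⟩ :=
    ((Ample.Extend.eventually_extension (F := Coh.structureModule X) hN s f).and
      (Ample.Extend.eventually_extension (F := Coh.structureModule X) hN s (1 : Γ(X, G)))).exists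
  obtain ⟨t, ht⟩ := exists_hom_of_sec t'
  obtain ⟨u, hu⟩ := exists_hom_of_sec u'
  let M := CohB1.tensorMod (Coh.structureModule X) (CohB1.tensorPow N m)
  have hM : PicF.IsInvertible M := TensorMod.Invertible.isInvertible_tensorMod
    (PicLoc.isInvertible_structureModule X) (TensorMod.Invertible.isInvertible_tensorPow hN m)
  obtain ⟨e, he, hval⟩ : ∃ e : Γ(M, G), IsGen M G e ∧
      SecTwist.val t G = f • e ∧ SecTwist.val u G = (1 : Γ(X, G)) • e := by
    refine ⟨_, Ample.GenLocus.isGen_tmul (isGen_one G)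
      (Ample.Extend.isGen_powSec (Ample.Basis.isGen_genLocus s) m), ?_, ?_⟩
    · rw [show SecTwist.val t G = sv t G from rfl, ← rs_sv t (le_top : G ≤ ⊤), ht, ht',
          Ample.Extend.twist_eq (a := 1) (e := sv s G) (one_smul _ _).symm, one_pow, one_smul,
          ← pairM_id, ← pairM_id]
      exact (congrArg (fun z => pairM (𝟙 _) z (powSec (sv s G) m)) (smul_one_eq f)).trans
        (pairM_smul_left _ _ _ _)
    · rw [show SecTwist.val u G = sv u G from rfl, ← rs_sv u (le_top : G ≤ ⊤), hu, hu',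
          Ample.Extend.twist_eq (a := 1) (e := sv s G) (one_smul _ _).symm, one_pow, one_smul,
          one_smul]
  obtain ⟨-, hfree⟩ := SurfInt.Div.span_germ_eq_top he hzG
  have hg0 : X.presheaf.germ W _ hzW g ≠ 0 := fun h0 =>
    hg (germ_injective_of_isIntegral X _ hzW (h0.trans (map_zero _).symm))
  have hone : SurfInt.Div.germOne M u (genericPoint X) = M.presheaf.germ G _ hzG e := by
    rw [SurfInt.Div.germOne_eq M u hzG, hval.2, one_smul]
  have hgen : SurfInt.Div.germOne M t (genericPoint X) =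
      X.presheaf.germ W _ hzW g • SurfInt.Div.germOne M u (genericPoint X) := by
    rw [hone, SurfInt.Div.germOne_eq M t hzG, hval.1, Groth.Agent.Lib.Modules.StalkModule.germ_smul]
    simp only [f, TopCat.Presheaf.germ_res_apply]
  have hz0 : SurfInt.Div.germOne M (0 : Coh.structureModule X ⟶ M) (genericPoint X) = 0 := by
    simp [SurfInt.Div.germOne, Groth.Agent.Lib.Modules.StalkModule.stalkMapₗ_zero]
  have hu0 : u ≠ 0 := fun h0 => one_ne_zero (hfree 1 (by rw [one_smul, ← hone, h0, hz0]))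
  have ht0 : t ≠ 0 := fun h0 => hg0 (hfree _ (by rw [← hone, ← hgen, h0, hz0]))
  obtain ⟨hT, ⟨eT⟩, -, -⟩ := SurfInt.Div.divisor_spec hM t ht0
  obtain ⟨hU, ⟨eU⟩, -, -⟩ := SurfInt.Div.divisor_spec hM u hu0
  refine ⟨_, _, hT, hU, fun P hP => ?_,
    fun x hx => stalkIdeal_zeroScheme_mul hM t u ht0 hu0 g ⟨hzW, hgen⟩ hx⟩
  rw [Snapper.IntNum.intNum_pair_inverse hfin hdim.le hM (SurfInt.Effective.isInvertible_idealMod hT) eT hP
      (Snapper.Twist.isCoh_structureModule X),
    Snapper.IntNum.intNum_pair_inverse hfin hdim.le hM (SurfInt.Effective.isInvertible_idealMod hU) eU hP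
      (Snapper.Twist.isCoh_structureModule X)]

theorem stalkIdeal_le_maximalIdeal {I : X.IdealSheafData} {x : X} (hx : x ∈ I.support) :
    stalkIdeal I x ≤ IsLocalRing.maximalIdeal _ := by
  clear hdim
  obtain ⟨U, hU, hxU, -⟩ := exists_isAffineOpen_mem_and_subset (show x ∈ (⊤ : X.Opens) from trivial)
  have hp := (Ideal.Prime.mem_support_iff_le_prime I ⟨U, hU⟩ hxU).1 hx
  rw [stalkIdeal_eq I ⟨U, hU⟩ hxU]
  letI algx := X.presheaf.algebra_section_stalk ⟨x, hxU⟩
  haveI := hU.isLocalization_stalk ⟨x, hxU⟩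
  exact _root_.Ideal.map_le_iff_le_comap.mpr (hp.trans
    (IsLocalization.AtPrime.under_maximalIdeal (X.presheaf.stalk x) _).ge)

theorem mem_support_of_stalkIdeal_le {I : X.IdealSheafData} {x : X}
    (h : stalkIdeal I x ≤ IsLocalRing.maximalIdeal _) : x ∈ I.support := by
  clear hdim
  obtain ⟨U, hU, hxU, -⟩ := exists_isAffineOpen_mem_and_subset (show x ∈ (⊤ : X.Opens) from trivial)
  rw [Ideal.Prime.mem_support_iff_le_prime I ⟨U, hU⟩ hxU]
  rw [stalkIdeal_eq I ⟨U, hU⟩ hxU, _root_.Ideal.map_le_iff_le_comap] at h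
  letI algx := X.presheaf.algebra_section_stalk ⟨x, hxU⟩
  haveI := hU.isLocalization_stalk ⟨x, hxU⟩
  exact h.trans (IsLocalization.AtPrime.under_maximalIdeal (X.presheaf.stalk x) _).le

/-- An effective divisor missing a set can be found with the same intersection numbers on it. -/
theorem exists_clean {W : X.Opens} (g : Γ(X, W)) (hg : g ≠ 0) (Φ : Set X) (hΦ : Φ ⊆ W)
    (U : X.IdealSheafData) (hU : BlowUp.IsEffCartierIdeal U) :
    ∀ T : X.IdealSheafData, BlowUp.IsEffCartierIdeal T →
      (∀ P : X.Modules, PicF.IsInvertible P →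
        FGA.intNum k X 2 ![_root_.ClSub.idealMod T, P] (Coh.structureModule X) =
          FGA.intNum k X 2 ![_root_.ClSub.idealMod U, P] (Coh.structureModule X)) →
      (∀ (x : X) (hx : x ∈ W), stalkIdeal T x =
        _root_.Ideal.span {X.presheaf.germ W x hx g} * stalkIdeal U x) →
      ∃ T' U' : X.IdealSheafData, BlowUp.IsEffCartierIdeal T' ∧ BlowUp.IsEffCartierIdeal U' ∧
      (U'.support : Set X) ∩ Φ = ∅ ∧
      (∀ P : X.Modules, PicF.IsInvertible P →
        FGA.intNum k X 2 ![_root_.ClSub.idealMod T', P] (Coh.structureModule X) =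
          FGA.intNum k X 2 ![_root_.ClSub.idealMod U', P] (Coh.structureModule X)) ∧
      ∀ (x : X) (hx : x ∈ W), stalkIdeal T' x =
        _root_.Ideal.span {X.presheaf.germ W x hx g} * stalkIdeal U' x := by
  have hfin := Snapper.Finite.cohFinite k X
  have hreg := SurfInt.NegDef.regular_of_smooth (k := k) (X := X)
  haveI := FinCond.wellFoundedGT_idealSheafData (X := X)
  induction U using (inferInstance : WellFoundedGT X.IdealSheafData).wf.induction with
  | _ U ih =>
    intro T hT hnum hst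
    by_cases hem : (U.support : Set X) ∩ Φ = ∅
    · exact ⟨T, U, hT, hU, hem, hnum, hst⟩
    obtain ⟨x, hxU, hxΦ⟩ := Set.nonempty_iff_ne_empty.2 hem
    obtain ⟨D, hint, hDd, hUD, hxD⟩ : ∃ (D : X.IdealSheafData) (_ : IsIntegral D.subscheme),
        topologicalKrullDim (D.support : Set X) = 1 ∧ U ≤ D ∧ x ∈ D.support :=
      SurfInt.Mul.induction (X ↘ Spec (CommRingCat.of k)) hdim hreg
        (P := fun G => U ≤ G → x ∈ G.support → ∃ (D : X.IdealSheafData) (_ : IsIntegral D.subscheme),
          topologicalKrullDim (D.support : Set X) = 1 ∧ U ≤ D ∧ x ∈ D.support)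
        (fun _ hx => by
          rw [Scheme.IdealSheafData.support_top] at hx
          exact hx.elim)
        (fun D hint G hDd hG ihG hle hx => by
          rw [Scheme.IdealSheafData.support_mul] at hx
          rcases hx with hx | hx
          · exact ⟨D, hint, hDd, hle.trans (le_of_mul_left rfl), hx⟩
          · exact ihG (hle.trans (le_of_mul_right rfl)) hx) hU le_rfl hxU
    haveI := hint
    have hgW : Ideal.Prime.gen D ∈ W :=
      (Ideal.Prime.gen_specializes D hxD).mem_open W.isOpen (hΦ hxΦ)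
    obtain ⟨U', hU', hUmul, hlt⟩ := SurfInt.Mul.exists_residual (X ↘ Spec (CommRingCat.of k)) hdim
      hreg hU D hDd (Scheme.IdealSheafData.support_antitone hUD)
    have hgT : Ideal.Prime.gen D ∈ T.support := mem_support_of_stalkIdeal_le (k := k) hdim (by
      rw [hst _ hgW]
      exact _root_.Ideal.mul_le_right.trans (stalkIdeal_le_maximalIdeal (k := k) hdim
        (Scheme.IdealSheafData.support_antitone hUD (Ideal.Prime.gen_mem D))))
    have hDT : (D.support : Set X) ⊆ (T.support : Set X) := fun z hz =>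
      (Ideal.Prime.gen_specializes D hz).mem_closed T.support.isClosed hgT
    obtain ⟨T', hT', hTmul, -⟩ := SurfInt.Mul.exists_residual (X ↘ Spec (CommRingCat.of k)) hdim
      hreg hT D hDd hDT
    have hDE := Fundamental.isEff (k := k) hdim hDd
    refine ih U' hlt hU' T' hT' (fun P hP => ?_) fun z hz => ?_
    · have h := hnum P hP
      rw [← hTmul, ← hUmul, SurfInt.NegDef.intNum_mul hfin hdim hDE hT' hP,
        SurfInt.NegDef.intNum_mul hfin hdim hDE hU' hP] at h
      linarith
    · obtain ⟨V, hzV, d, hd, hDV⟩ := hDE z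
      have hd' := Ideal.EffCartier.germ_mem_nonZeroDivisors V.2 hd z hzV
      have h := hst z hz
      rw [← hTmul, ← hUmul, SurfInt.Mul.stalkIdeal_mul, SurfInt.Mul.stalkIdeal_mul,
        show stalkIdeal D z = _root_.Ideal.span {X.presheaf.germ V.1 z hzV d} by
          rw [stalkIdeal_eq D V hzV, hDV, _root_.Ideal.map_span, Set.image_singleton],
        mul_left_comm] at h
      exact (_root_.Ideal.span_singleton_mul_right_inj (nonZeroDivisors.ne_zero hd')).1 h

/-- Removing the curves of a configuration from a divisor. -/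
theorem exists_decomp {r : ℕ} (C : Fin r → X.IdealSheafData)
    (hCi : ∀ i, IsIntegral (C i).subscheme)
    (hCd : ∀ i, topologicalKrullDim ((C i).support : Set X) = 1) (T : X.IdealSheafData)
    (hT : BlowUp.IsEffCartierIdeal T) :
    ∃ (m : Fin r → ℕ) (A : X.IdealSheafData), BlowUp.IsEffCartierIdeal A ∧
      (∀ i, ¬ ((C i).support : Set X) ⊆ (A.support : Set X)) ∧
      (∀ x ∈ T.support, x ∈ A.support ∨ ∃ i, 0 < m i ∧ x ∈ (C i).support) ∧
      ∀ P : X.Modules, PicF.IsInvertible P →
        FGA.intNum k X 2 ![_root_.ClSub.idealMod T, P] (Coh.structureModule X) =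
          ∑ i, (m i : ℤ) * FGA.intNum k X 2 ![_root_.ClSub.idealMod (C i), P] (Coh.structureModule X) +
            FGA.intNum k X 2 ![_root_.ClSub.idealMod A, P] (Coh.structureModule X) := by
  classical
  have hfin := Snapper.Finite.cohFinite k X
  have hreg := SurfInt.NegDef.regular_of_smooth (k := k) (X := X)
  haveI := FinCond.wellFoundedGT_idealSheafData (X := X)
  induction T using (inferInstance : WellFoundedGT X.IdealSheafData).wf.induction with
  | _ T ih =>
    by_cases hno : ∀ i, ¬ ((C i).support : Set X) ⊆ (T.support : Set X)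
    · exact ⟨0, T, hT, hno, fun x hx => Or.inl hx, fun P hP => by simp⟩
    push Not at hno
    obtain ⟨i, hi⟩ := hno
    haveI := hCi i
    obtain ⟨T', hT', hmul, hlt⟩ := SurfInt.Mul.exists_residual (X ↘ Spec (CommRingCat.of k)) hdim
      hreg hT (C i) (hCd i) hi
    obtain ⟨m, A, hA, hAC, hsupp, hnum⟩ := ih T' hlt hT'
    refine ⟨m + Pi.single i 1, A, hA, hAC, fun x hx => ?_, fun P hP => ?_⟩
    · rw [← hmul, Scheme.IdealSheafData.support_mul] at hx
      rcases hx with hx | hx
      · exact Or.inr ⟨i, by simp, hx⟩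
      · rcases hsupp x hx with h | ⟨j, hj, hxj⟩
        · exact Or.inl h
        · exact Or.inr ⟨j, by simp only [Pi.add_apply]; omega, hxj⟩
    · rw [← hmul, SurfInt.NegDef.intNum_mul hfin hdim (Fundamental.isEff (k := k) hdim (hCd i)) hT' hP,
        hnum P hP]
      have hsum : ∑ j, (((Pi.single i 1 : Fin r → ℕ) j : ℕ) : ℤ) *
          FGA.intNum k X 2 ![_root_.ClSub.idealMod (C j), P] (Coh.structureModule X) =
          FGA.intNum k X 2 ![_root_.ClSub.idealMod (C i), P] (Coh.structureModule X) := by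
        rw [Finset.sum_eq_single i (fun j _ hji => by rw [Pi.single_eq_of_ne hji]; simp)
          (fun h => absurd (Finset.mem_univ i) h), Pi.single_eq_same, Nat.cast_one, one_mul]
      simp only [Pi.add_apply, Nat.cast_add, add_mul, Finset.sum_add_distrib, hsum]
      ring

/-- Disjoint divisors do not meet. -/
theorem intNum_eq_zero_of_disjoint (C : X.IdealSheafData) [IsIntegral C.subscheme]
    (hCd : topologicalKrullDim (C.support : Set X) = 1) {U : X.IdealSheafData}
    (hU : BlowUp.IsEffCartierIdeal U) (h : (C.support : Set X) ∩ (U.support : Set X) = ∅) :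
    FGA.intNum k X 2 ![_root_.ClSub.idealMod C, _root_.ClSub.idealMod U] (Coh.structureModule X) = 0 := by
  have hfin := Snapper.Finite.cohFinite k X
  have hreg := SurfInt.NegDef.regular_of_smooth (k := k) (X := X)
  have hsupp : ((C ⊔ U).support : Set X) = ∅ := by
    rw [Scheme.IdealSheafData.support_sup]; exact h
  rw [SurfInt.Effective.intNum_ideals_of_finite hfin hdim.le (SurfInt.Surface.forall_component hdim)
    (fun x => haveI := hreg x; JacCrit.FlatRegular.isCohenMacaulayLocalRing _)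
    (Fundamental.isEff (k := k) hdim hCd) hU (hsupp ▸ Set.finite_empty)]
  have hz : IsZero (_root_.ClSub.quotMod (C ⊔ U)) := by
    rw [← Groth.Agent.Lib.Modules.Support.support_eq_empty_iff,
      Groth.Agent.Lib.ClSub.Quot.support_quotMod, hsupp]
  haveI : Subsingleton (Coh.HH X (_root_.ClSub.quotMod (C ⊔ U)) 0) := by
    haveI : Subsingleton ((_root_.ClSub.quotMod (C ⊔ U)).val.obj (op ⊤) : Type u) :=
      subsingleton_of_forall_eq 0 fun z => by
        have h1 : (𝟙 (_root_.ClSub.quotMod (C ⊔ U))) = 0 := hz.eq_of_src _ _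
        have h2 := congrArg (fun φ : _root_.ClSub.quotMod (C ⊔ U) ⟶ _root_.ClSub.quotMod (C ⊔ U) =>
          φ.app ⊤ z) h1
        exact h2
    exact (Curves.GlobalSections.h0Equiv _).toEquiv.subsingleton
  simp [Module.finrank_zero_of_subsingleton]

/-- The intersection matrix is negative definite given a function vanishing on the configuration and
on a further point specializing to it. -/
theorem negDef {r : ℕ} (hr : 0 < r) (C : Fin r → X.IdealSheafData) (hC : Function.Injective C)
    (hCi : ∀ i, IsIntegral (C i).subscheme)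
    (hCd : ∀ i, topologicalKrullDim ((C i).support : Set X) = 1)
    (hconn : _root_.IsConnected (⋃ i, ((C i).support : Set X)))
    {W : X.Opens} (g : Γ(X, W)) (hg : g ≠ 0) (hW : (⋃ i, ((C i).support : Set X)) ⊆ W)
    (hg0 : ∀ x ∈ ⋃ i, ((C i).support : Set X), ∀ hx : x ∈ W,
      X.presheaf.germ W x hx g ∈ IsLocalRing.maximalIdeal _)
    {η : X} (hηW : η ∈ W) (hηC : η ∉ ⋃ i, ((C i).support : Set X))
    (hηg : X.presheaf.germ W η hηW g ∈ IsLocalRing.maximalIdeal _)
    (hηsp : (closure ({η} : Set X) ∩ ⋃ i, ((C i).support : Set X)).Nonempty)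
    (a : Fin r → ℤ) (ha : a ≠ 0) :
    ∑ i, ∑ j, a i * a j * FGA.intNum k X 2 ![_root_.ClSub.idealMod (C i), _root_.ClSub.idealMod (C j)]
      (Coh.structureModule X) < 0 := by
  classical
  have hfin := Snapper.Finite.cohFinite k X
  have hreg := SurfInt.NegDef.regular_of_smooth (k := k) (X := X)
  obtain ⟨T₀, U₀, hT₀, hU₀, hnum₀, hst₀⟩ := exists_divisors (k := k) hdim g hg
  obtain ⟨T, U, hT, hU, hdisj, hnum, hst⟩ :=
    exists_clean (k := k) hdim g hg _ hW U₀ hU₀ T₀ hT₀ hnum₀ hst₀
  obtain ⟨m, A, hA, hAC, hsupp, hdec⟩ := exists_decomp (k := k) hdim C hCi hCd T hT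
  have hTmem : ∀ x (hx : x ∈ W), X.presheaf.germ W x hx g ∈ IsLocalRing.maximalIdeal _ → x ∈ T.support :=
    fun x hx hm => mem_support_of_stalkIdeal_le (k := k) hdim (by
      rw [hst x hx]
      exact _root_.Ideal.mul_le_left.trans ((_root_.Ideal.span_singleton_le_iff_mem _).2 hm))
  have hm : ∀ i, 0 < m i := fun i => by
    haveI := hCi i
    have hgi : Ideal.Prime.gen (C i) ∈ ⋃ j, ((C j).support : Set X) :=
      Set.mem_iUnion.2 ⟨i, Ideal.Prime.gen_mem (C i)⟩
    rcases hsupp _ (hTmem _ (hW hgi) (hg0 _ hgi (hW hgi))) with h | ⟨j, hj, hij⟩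
    · exact absurd (fun z hz => (Ideal.Prime.gen_specializes (C i) hz).mem_closed A.support.isClosed h) (hAC i)
    · haveI := hCi j
      have : C i = C j := by
        refine SurfInt.Curve.eq_of_gen_eq (C i) (C j) ?_
        refine (VarDim.Basic.eq_of_pdim_le (X ↘ Spec (CommRingCat.of k))
          (Ideal.Prime.gen_specializes (C j) hij) ?_).symm
        rw [SurfInt.Curve.pdim_gen _ (C i) (hCd i), SurfInt.Curve.pdim_gen _ (C j) (hCd j)]
      exact (hC this) ▸ hj
  have hηA : η ∈ A.support := by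
    rcases hsupp η (hTmem η hηW hηg) with h | ⟨j, -, hj⟩
    · exact h
    · exact absurd (Set.mem_iUnion.2 ⟨j, hj⟩) hηC
  obtain ⟨x₀, hx₀η, hx₀⟩ := hηsp
  obtain ⟨i₀, hi₀⟩ := Set.mem_iUnion.1 hx₀
  have hx₀A : x₀ ∈ (A.support : Set X) :=
    A.support.isClosed.closure_subset_iff.2 (Set.singleton_subset_iff.2 hηA) hx₀η
  have hrowAC : ∀ i, ∑ j, FGA.intNum k X 2
      ![_root_.ClSub.idealMod (C i), _root_.ClSub.idealMod (C j)] (Coh.structureModule X) * (m j : ℤ) =
      - FGA.intNum k X 2 ![_root_.ClSub.idealMod (C i), _root_.ClSub.idealMod A] (Coh.structureModule X) := by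
    intro i
    haveI := hCi i
    have hI := SurfInt.Effective.isInvertible_idealMod (Fundamental.isEff (k := k) hdim (hCd i))
    have h0 := intNum_eq_zero_of_disjoint (k := k) hdim (C i) (hCd i) hU
      (Set.eq_empty_of_forall_notMem fun z hz => Set.eq_empty_iff_forall_notMem.1 hdisj z
        ⟨hz.2, Set.mem_iUnion.2 ⟨i, hz.1⟩⟩)
    have h1 := hdec _ hI
    rw [hnum _ hI, Snapper.IntNum.intNum_pair_comm, h0,
      Snapper.IntNum.intNum_pair_comm (_root_.ClSub.idealMod A)] at h1
    rw [Finset.sum_congr rfl fun j _ => (show FGA.intNum k X 2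
      ![_root_.ClSub.idealMod (C i), _root_.ClSub.idealMod (C j)] (Coh.structureModule X) * (m j : ℤ) =
      (m j : ℤ) * FGA.intNum k X 2 ![_root_.ClSub.idealMod (C j), _root_.ClSub.idealMod (C i)]
        (Coh.structureModule X) by rw [mul_comm, Snapper.IntNum.intNum_pair_comm])]
    linarith
  refine negDef_of_vector _ (fun i j => Snapper.IntNum.intNum_pair_comm _ _ _)
    (SurfInt.NegDef.offDiag hfin hdim hreg C hC hCi hCd) m hm (fun i => ?_) ⟨i₀, ?_⟩ (fun S hS hS' => ?_)
    a ha
  · haveI := hCi i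
    rw [hrowAC i]
    linarith [SurfInt.Surface.intNum_nonneg hfin hdim hreg (C i) (hCd i) hA (hAC i)]
  · haveI := hCi i₀
    rw [hrowAC i₀]
    linarith [SurfInt.AffineBoundary.intNum_pos (k := k) hdim hreg (C i₀) (hCd i₀) hA (hAC i₀)
      ⟨x₀, hi₀, hx₀A⟩]
  · have hcl : ∀ S' : Finset (Fin r), IsClosed (⋃ i ∈ S', ((C i).support : Set X)) := fun S' =>
      isClosed_biUnion_finset fun i _ => (C i).support.isClosed
    have hsub : (⋃ i, ((C i).support : Set X)) ⊆
        (⋃ i ∈ S, ((C i).support : Set X)) ∪ ⋃ i ∈ Sᶜ, ((C i).support : Set X) := by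
      intro z hz
      obtain ⟨i, hi⟩ := Set.mem_iUnion.1 hz
      by_cases h : i ∈ S
      · exact Or.inl (Set.mem_iUnion₂.2 ⟨i, h, hi⟩)
      · exact Or.inr (Set.mem_iUnion₂.2 ⟨i, Finset.mem_compl.2 h, hi⟩)
    have hne : ∀ S' : Finset (Fin r), S'.Nonempty →
        ((⋃ i, ((C i).support : Set X)) ∩ ⋃ i ∈ S', ((C i).support : Set X)).Nonempty := by
      rintro S' ⟨i, hi⟩
      haveI := hCi i
      exact ⟨Ideal.Prime.gen (C i), Set.mem_iUnion.2 ⟨i, Ideal.Prime.gen_mem (C i)⟩,
        Set.mem_iUnion₂.2 ⟨i, hi, Ideal.Prime.gen_mem (C i)⟩⟩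
    obtain ⟨z, -, hz1, hz2⟩ := isPreconnected_closed_iff.1 hconn.isPreconnected _ _ (hcl S) (hcl Sᶜ)
      hsub (hne S hS) (hne Sᶜ hS')
    obtain ⟨i, hi, hzi⟩ := Set.mem_iUnion₂.1 hz1
    obtain ⟨j, hj, hzj⟩ := Set.mem_iUnion₂.1 hz2
    haveI := hCi i
    haveI := hCi j
    refine ⟨i, hi, j, hj, SurfInt.AffineBoundary.intNum_pos (k := k) hdim hreg (C i) (hCd i)
      (Fundamental.isEff (k := k) hdim (hCd j)) (fun hsub' => ?_) ⟨z, hzi, hzj⟩⟩
    have : C i = C j := by
      refine SurfInt.Curve.eq_of_gen_eq (C i) (C j) ?_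
      refine (VarDim.Basic.eq_of_pdim_le (X ↘ Spec (CommRingCat.of k))
        (Ideal.Prime.gen_specializes (C j) (hsub' (Ideal.Prime.gen_mem (C i)))) ?_).symm
      rw [SurfInt.Curve.pdim_gen _ (C i) (hCd i), SurfInt.Curve.pdim_gen _ (C j) (hCd j)]
    exact Finset.mem_compl.1 hj (hC this ▸ hi)

end Groth.Agent.Lib.SurfRR.Contraction
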