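import Groth.Agent.Lib.SurfRR.Proper
import Groth.Agent.Lib.SurfInt.H2Basic
import Groth.Agent.Lib.SurfInt.NegDef
import Groth.Agent.Lib.SurfInt.Bound
import Groth.Agent.Lib.SurfInt.H2Vanish

/-!
# Serre duality and effective classes on smooth proper connected surfaces
-/

set_option autoImplicit false
set_option linter.style.haveILetI false
universe u

open CategoryTheory CategoryTheory.Limits AlgebraicGeometry TopologicalSpace

noncomputable section

namespace Groth.Agent.Lib.SurfRR.Duality

open Groth.Agent.Lib Groth.Agent.Lib.TensorMod.Basic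

variable {k : Type u} [Field k] {X : Scheme.{u}} [X.Over (Spec (CommRingCat.of k))]
  [IsProper (X ↘ Spec (CommRingCat.of k))] [Smooth (X ↘ Spec (CommRingCat.of k))]
  [IsIntegral X] (hdim : topologicalKrullDim X = 2)

include hdim

theorem isInvertible_canonical {W : X.Modules}
    (hW : ExtPow.IsExtPow 2 (Omega.sheaf (X ↘ Spec (CommRingCat.of k))) W) :
    PicF.IsInvertible W := by
  haveI := Proper.smoothOfRelativeDimension (k := k) 2 (X := X) (by rw [hdim]; rfl)
  exact Regular.isInvertible_canonical (k := k) hW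

/-- Serre duality for invertible modules. -/
theorem finrank_duality {W : X.Modules}
    (hW : ExtPow.IsExtPow 2 (Omega.sheaf (X ↘ Spec (CommRingCat.of k))) W)
    {F F' : X.Modules} (hF : PicF.IsInvertible F)
    (e : CohB1.tensorMod F F' ≅ Coh.structureModule X) {p q : ℕ} (hpq : p + q = 2) :
    Module.finrank k (Coh.HH X F p) = Module.finrank k (Coh.HH X (CohB1.tensorMod F' W) q) := by
  haveI := Proper.smoothOfRelativeDimension (k := k) 2 (X := X) (by rw [hdim]; rfl)
  obtain ⟨r, ι, hc, hι⟩ := Proper.exists_embedding (k := k) (X := X) hdim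
  haveI := hc
  haveI := ProjCoh.ClosedSub.isLocallyNoetherian ι
  obtain ⟨t, ht⟩ := Groth.Agent.S11924.result k r 2 X ι hι W hW
  refine Basic.finrank_duality ι hι (fun x hx => ?_)
    (Ample.GG.isCoh_of_isInvertible (Regular.isInvertible_canonical (k := k) hW)) ht hF e hpq
  have := WeilExt.Basic.isRegularLocalRing_stalk (X ↘ Spec (CommRingCat.of k)) x
  exact_mod_cast ProjCoh.DualityCM.depth_of_cm (n := 2)
    (JacCrit.FlatRegular.isCohenMacaulayLocalRing _)
    (ProjSpace.SmoothDimEq.ringKrullDim_stalk_closed k (X ↘ Spec (CommRingCat.of k)) 2 hx)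

/-- `h²(O) = h⁰(W)`. -/
theorem finrank_h2_structure {W : X.Modules}
    (hW : ExtPow.IsExtPow 2 (Omega.sheaf (X ↘ Spec (CommRingCat.of k))) W) :
    Module.finrank k (Coh.HH X (Coh.structureModule X) 2) = Module.finrank k (Coh.HH X W 0) :=
  (finrank_duality hdim hW (PicLoc.isInvertible_structureModule X) (leftUnit _) (q := 0) rfl).trans
    (Curves.LES.isoK k (leftUnit W) 0).finrank_eq

/-- An effective class which is orthogonal to an ample one is trivial. -/
theorem nonempty_iso_of_inter_ample_eq_zero {H L : X.Modules} (hH : CohB1.IsAmple H)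
    (hL : PicF.IsInvertible L) (h : Module.finrank k (Coh.HH X L 0) ≠ 0)
    (h0 : FGA.intNum k X 2 ![L, H] (Coh.structureModule X) = 0) :
    Nonempty (L ≅ Coh.structureModule X) := by
  haveI := Curves.GlobalSections.isNoetherian_of_proper k X
  have hfin := Snapper.Finite.cohFinite k X
  obtain ⟨s, hs⟩ := SurfInt.Bound.exists_hom_of_finrank_ne_zero (k := k) L h
  obtain ⟨hD, ⟨e⟩, -, -⟩ := SurfInt.Div.divisor_spec hL s hs
  have hZ := SurfInt.Bound.intNum_zeroScheme hfin hdim hL s hs hH.1
  rw [h0, neg_zero] at hZ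
  have htop : PicF2.zeroScheme L s = ⊤ := by
    by_contra hne
    have := SurfInt.NegDef.intNum_eff_ample_neg hfin hdim
      (SurfInt.NegDef.regular_of_smooth (k := k)) hH hD hne
    omega
  rw [htop] at e
  obtain ⟨i⟩ := SurfInt.H2Vanish.nonempty_idealMod_top (X := X)
  exact ⟨(rightUnit L).symm ≪≫ tensorIso (Iso.refl L) i.symm ≪≫ e⟩

end Groth.Agent.Lib.SurfRR.Duality
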