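import Groth.Agent.Lib.SurfRR.Adjunction
import Groth.Agent.Lib.SurfRR.Duality
import Groth.Agent.Lib.SurfInt.Curve
import Groth.Agent.Lib.Curves.Degree

/-!
# Adjunction for integral curves on smooth proper integral surfaces
-/

set_option autoImplicit false
set_option linter.style.haveILetI false
universe u

open CategoryTheory CategoryTheory.Limits AlgebraicGeometry TopologicalSpace

noncomputable section

namespace Groth.Agent.Lib.SurfRR.Curve

open Groth.Agent.Lib

variable {k : Type u} [Field k] [IsAlgClosed k] {X : Scheme.{u}} [X.Over (Spec (CommRingCat.of k))]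
  [IsProper (X ↘ Spec (CommRingCat.of k))] [Smooth (X ↘ Spec (CommRingCat.of k))]
  [IsIntegral X] (hdim : topologicalKrullDim X = 2)

include hdim

/-- `(C·C) + (C·K) = 2g - 2` in the form `(I·I) - (I·W) = 2g - 2`. -/
theorem adjunction (C : X.IdealSheafData) [IsIntegral C.subscheme]
    (hC1 : topologicalKrullDim (C.support : Set X) = 1) {W : X.Modules}
    (hW : ExtPow.IsExtPow 2 (Omega.sheaf (X ↘ Spec (CommRingCat.of k))) W) :
    letI := SurfInt.Surface.overSub (k := k) C
    PicF.IsInvertible (_root_.ClSub.idealMod C) ∧
    FGA.intNum k X 2 ![_root_.ClSub.idealMod C, _root_.ClSub.idealMod C] (Coh.structureModule X) -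
        FGA.intNum k X 2 ![_root_.ClSub.idealMod C, W] (Coh.structureModule X) =
      2 * (Curv2.genus k C.subscheme : ℤ) - 2 := by
  letI := SurfInt.Surface.overSub (k := k) C
  haveI := Curves.GlobalSections.isNoetherian_of_proper k X
  have hI := SurfInt.Effective.isInvertible_idealMod
    (SurfInt.Curve.isEffCartier (X ↘ Spec (CommRingCat.of k)) hdim
      (SurfInt.NegDef.regular_of_smooth (k := k)) C hC1)
  have hk : C.subschemeι.ker = C := C.ker_subschemeι
  have h := Adjunction.adjunction (k := k) C.subschemeι (Snapper.Finite.cohFinite k X) hdim.le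
    (W := W) (by rw [hk]; exact hI) (Proper.riemannRoch hdim hW (by rw [hk]; exact hI))
  rw [hk] at h
  haveI : IsProper (C.subscheme ↘ Spec (CommRingCat.of k)) :=
    inferInstanceAs (IsProper (C.subschemeι ≫ (X ↘ Spec (CommRingCat.of k))))
  have hd : topologicalKrullDim C.subscheme ≤ 1 :=
    ((SurfInt.Surface.dim_subscheme C).trans hC1).le
  have hg : Curv2.euler k C.subscheme (Coh.structureModule C.subscheme) =
      1 - (Curv2.genus k C.subscheme : ℤ) :=
    Curves.Degree.euler_structureModule (k := k) hd
      (Curves.GlobalSections.finrank_h0_structure k C.subscheme)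
  refine ⟨hI, ?_⟩
  have h' : FGA.intNum k X 2 ![_root_.ClSub.idealMod C, _root_.ClSub.idealMod C] (Coh.structureModule X) -
        FGA.intNum k X 2 ![_root_.ClSub.idealMod C, W] (Coh.structureModule X) =
      -2 * Curv2.euler k C.subscheme (Coh.structureModule C.subscheme) := h
  linarith

end Groth.Agent.Lib.SurfRR.Curve
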