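import Groth.Agent.Lib.SurfRR.Curve
import Groth.Agent.Lib.SurfInt.ProjSurf
import Groth.Agent.Lib.TensorMod.TensorInv

/-!
# Vanishing for the ideal of a curve; numerically trivial modules on K3 surfaces
-/

set_option autoImplicit false
set_option linter.style.haveILetI false
universe u

open CategoryTheory CategoryTheory.Limits AlgebraicGeometry TopologicalSpace

noncomputable section

namespace Groth.Agent.Lib.SurfRR.K3

open Groth.Agent.Lib Groth.Agent.Lib.TensorMod.Basic

variable {k : Type u} [Field k] [IsAlgClosed k] {X : Scheme.{u}} [X.Over (Spec (CommRingCat.of k))]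
  [IsProper (X ↘ Spec (CommRingCat.of k))] [Smooth (X ↘ Spec (CommRingCat.of k))]
  [IsIntegral X] (hdim : topologicalKrullDim X = 2)

include k hdim

/-- The ideal of a curve has no global section. -/
theorem subsingleton_h0_idealMod (C : X.IdealSheafData) [IsIntegral C.subscheme]
    (hC1 : topologicalKrullDim (C.support : Set X) = 1) :
    Subsingleton (Coh.HH X (_root_.ClSub.idealMod C) 0) := by
  haveI := Curves.GlobalSections.isNoetherian_of_proper k X
  obtain ⟨r, ι, hc, hι⟩ := Proper.exists_embedding (k := k) (X := X) hdim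
  haveI := hc
  have hH := SurfInt.ProjSurf.isAmple ι
  have hfin := Snapper.Finite.cohFinite k X
  have hreg := SurfInt.NegDef.regular_of_smooth (k := k) (X := X)
  have hE := SurfInt.Curve.isEffCartier (X ↘ Spec (CommRingCat.of k)) hdim hreg C hC1
  have hI := SurfInt.Effective.isInvertible_idealMod hE
  haveI := hfin _ (Ample.GG.isCoh_of_isInvertible hI) 0
  rw [← Module.finrank_zero_iff (R := k)]
  by_contra h
  obtain ⟨s, hs⟩ := SurfInt.Bound.exists_hom_of_finrank_ne_zero (k := k) _ h
  have hD := (SurfInt.Div.divisor_spec hI s hs).1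
  have h1 := SurfInt.Bound.intNum_zeroScheme hfin hdim hI s hs hH.1
  have h2 := SurfInt.NegDef.intNum_eff_ample_neg hfin hdim hreg hH hE fun htop => by
    rw [htop] at hC1
    haveI := Set.isEmpty_coe_sort.2 ((Scheme.IdealSheafData.support_top (X := X) ▸ rfl) :
      ((⊤ : X.IdealSheafData).support : Set X) = ∅)
    haveI : IsEmpty (IrreducibleCloseds ((⊤ : X.IdealSheafData).support : Set X)) :=
      ⟨fun Z => isEmptyElim Z.isIrreducible.nonempty.some⟩
    have h0 : topologicalKrullDim ((⊤ : X.IdealSheafData).support : Set X) = ⊥ :=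
      Order.krullDim_eq_bot
    rw [h0] at hC1
    exact WithBot.bot_ne_one hC1
  have h3 : FGA.intNum k X 2 ![_root_.ClSub.idealMod (PicF2.zeroScheme (_root_.ClSub.idealMod C) s),
      (Scheme.Modules.pullback ι).obj (Twist.twistProjSpace r k 1)] (Coh.structureModule X) ≤ 0 := by
    by_cases htop : PicF2.zeroScheme (_root_.ClSub.idealMod C) s = ⊤
    · rw [htop, SurfInt.NegDef.intNum_top hfin hdim hH.1]
    · exact (SurfInt.NegDef.intNum_eff_ample_neg hfin hdim hreg hH hD htop).le
  omega

/-- If `H¹(O) = 0` the ideal of an integral curve has no `H¹`. -/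
theorem subsingleton_h1_idealMod (C : X.IdealSheafData) [IsIntegral C.subscheme]
    (hC1 : topologicalKrullDim (C.support : Set X) = 1)
    (hq : Subsingleton (Coh.HH X (Coh.structureModule X) 1)) :
    Subsingleton (Coh.HH X (_root_.ClSub.idealMod C) 1) := by
  haveI := Curves.GlobalSections.isNoetherian_of_proper k X
  haveI := subsingleton_h0_idealMod (k := k) hdim C hC1
  haveI := hq
  letI := SurfInt.Surface.overSub (k := k) C
  haveI : IsProper (C.subscheme ↘ Spec (CommRingCat.of k)) :=
    inferInstanceAs (IsProper (C.subschemeι ≫ (X ↘ Spec (CommRingCat.of k))))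
  haveI := TensorMod.QCohInv.isQCoh_structureModule C.subscheme
  have hS := Groth.Agent.Lib.ClSub.Quot.idealSeq_shortExact C
  let f := Curves.LES.mapK k (Groth.Agent.Lib.ClSub.Quot.idealSeq C).f 0
  let g := Curves.LES.mapK k (Groth.Agent.Lib.ClSub.Quot.idealSeq C).g 0
  have hinj : Function.Injective g := by
    rw [injective_iff_map_eq_zero]
    intro x hx
    obtain ⟨y, rfl⟩ := (Curves.LES.exactK₂ k hS 0 x).1 hx
    haveI : Subsingleton (Coh.HH X (Groth.Agent.Lib.ClSub.Quot.idealSeq C).X₁ 0) :=
      subsingleton_h0_idealMod (k := k) hdim C hC1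
    rw [Subsingleton.elim y 0, map_zero]
  have h1 : Module.finrank k (Coh.HH X (Groth.Agent.Lib.ClSub.Quot.idealSeq C).X₂ 0) = 1 :=
    Curves.GlobalSections.finrank_h0_structure k X
  have h2 : Module.finrank k (Coh.HH X (Groth.Agent.Lib.ClSub.Quot.idealSeq C).X₃ 0) = 1 :=
    (SurfInt.Push.finrank_push (k := k) C.subschemeι rfl (Coh.structureModule C.subscheme) 0).trans
      (Curves.GlobalSections.finrank_h0_structure k C.subscheme)
  haveI : FiniteDimensional k (Coh.HH X (Groth.Agent.Lib.ClSub.Quot.idealSeq C).X₂ 0) :=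
    Module.finite_of_finrank_eq_succ h1
  haveI : FiniteDimensional k (Coh.HH X (Groth.Agent.Lib.ClSub.Quot.idealSeq C).X₃ 0) :=
    Module.finite_of_finrank_eq_succ h2
  have hsurj : Function.Surjective g :=
    (LinearMap.injective_iff_surjective_of_finrank_eq_finrank (h1.trans h2.symm)).1 hinj
  refine subsingleton_of_forall_eq 0 fun z => ?_
  obtain ⟨y, hy⟩ := (Curves.LES.exactK₁ k hS 0 1 rfl z).1
    (Subsingleton.elim (α := Coh.HH X (Coh.structureModule X) 1) _ _)
  obtain ⟨x, rfl⟩ := hsurj y
  rw [← hy]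
  exact (Curves.LES.exactK₃ k hS 0 1 rfl (g x)).2 ⟨x, rfl⟩

variable (hK : ExtPow.IsExtPow 2 (Omega.sheaf (X ↘ Spec (CommRingCat.of k))) (Coh.structureModule X))
  (hq : Subsingleton (Coh.HH X (Coh.structureModule X) 1))

include hK hq

/-- `χ(O) = 2` on a K3 surface. -/
theorem euler_structure : FGA.eulerCharLE k X (Coh.structureModule X) 2 = 2 := by
  have h0 := Curves.GlobalSections.finrank_h0_structure k X
  have h2 := Duality.finrank_h2_structure hdim hK
  haveI := hq
  have h1 : Module.finrank k (Coh.HH X (Coh.structureModule X) 1) = 0 :=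
    Module.finrank_zero_of_subsingleton
  rw [h0] at h2
  simp [FGA.eulerCharLE, Finset.sum_range_succ, h0, h1, h2]

/-- `2 χ(L) = (L·L) + 4`. -/
theorem two_mul_euler {L : X.Modules} (hL : PicF.IsInvertible L) :
    2 * FGA.eulerCharLE k X L 2 = FGA.intNum k X 2 ![L, L] (Coh.structureModule X) + 4 := by
  haveI := Curves.GlobalSections.isNoetherian_of_proper k X
  have hd : topologicalKrullDim X ≤ ((2 : ℕ) : WithBot ℕ∞) := by exact_mod_cast hdim.le
  have h := Proper.riemannRoch hdim hK hL
  rw [Snapper.Chi.euler_eq_eulerCharLE hd, Snapper.Chi.euler_eq_eulerCharLE hd,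
    euler_structure hdim hK hq, Snapper.IntNum.intNum_pair_comm L (Coh.structureModule X),
    Snapper.IntNum.intNum_pair (Coh.structureModule X), Snapper.IntNum.sym_structure] at h
  linarith

/-- A numerically trivial invertible module on a K3 surface is trivial. -/
theorem nonempty_iso_of_numTrivial {L : X.Modules} (hL : PicF.IsInvertible L)
    (hnum : ∀ M : X.Modules, PicF.IsInvertible M →
      FGA.intNum k X 2 ![L, M] (Coh.structureModule X) = 0) :
    Nonempty (L ≅ Coh.structureModule X) := by
  haveI := Curves.GlobalSections.isNoetherian_of_proper k X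
  obtain ⟨r, ι, hc, hι⟩ := Proper.exists_embedding (k := k) (X := X) hdim
  haveI := hc
  have hH := SurfInt.ProjSurf.isAmple ι
  have hL' := TensorMod.Invertible.isInvertible_dual hL
  let e := TensorMod.Invertible.tensorDualIso hL
  have h := two_mul_euler hdim hK hq hL
  rw [hnum L hL] at h
  have hdual : Module.finrank k (Coh.HH X L 2) =
      Module.finrank k (Coh.HH X (TensorMod.Dual.dual L) 0) :=
    (Duality.finrank_duality hdim hK hL e (q := 0) rfl).trans
      (Curves.LES.isoK k (rightUnit (TensorMod.Dual.dual L)) 0).finrank_eq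
  have hor : Module.finrank k (Coh.HH X L 0) ≠ 0 ∨
      Module.finrank k (Coh.HH X (TensorMod.Dual.dual L) 0) ≠ 0 := by
    by_contra hc'
    push Not at hc'
    simp only [FGA.eulerCharLE, Finset.sum_range_succ, Finset.sum_range_zero, hdual, hc'.1, hc'.2] at h
    push_cast at h
    omega
  rcases hor with h0 | h0
  · exact Duality.nonempty_iso_of_inter_ample_eq_zero hdim hH hL h0 (hnum _ hH.1)
  · obtain ⟨i⟩ := Duality.nonempty_iso_of_inter_ample_eq_zero hdim hH hL' h0 (by
      rw [Snapper.IntNum.intNum_pair_inverse (Snapper.Finite.cohFinite k X) hdim.le hL hL' e hH.1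
        (Snapper.Twist.isCoh_structureModule X), hnum _ hH.1, neg_zero])
    exact ⟨(rightUnit L).symm ≪≫ tensorIso (Iso.refl L) i.symm ≪≫ e⟩

end Groth.Agent.Lib.SurfRR.K3
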