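import Groth.Agent.Lib.SurfRR.MinusOne
import Groth.Agent.Lib.SurfInt.NefInt
import Groth.Agent.Lib.SurfInt.Nakai
import Groth.Agent.Lib.SurfInt.ProjSurf
import Groth.Agent.Lib.TensorMod.TensorInv

/-!
# Curves with negative intersection against an effective or nef class
-/

set_option autoImplicit false
set_option linter.style.haveILetI false
universe u

open CategoryTheory CategoryTheory.Limits AlgebraicGeometry TopologicalSpace

noncomputable section

namespace Groth.Agent.Lib.SurfRR.Minimal

open Groth.Agent.Lib

variable {k : Type u} [Field k] [IsAlgClosed k] {X : Scheme.{u}} [X.Over (Spec (CommRingCat.of k))]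
  [IsProper (X ↘ Spec (CommRingCat.of k))] [Smooth (X ↘ Spec (CommRingCat.of k))]
  [IsIntegral X] [IsNoetherian X] (hdim : topologicalKrullDim X = 2)

include k hdim

/-- The degree of a module on a curve as an intersection number. -/
theorem intNum_eq (C : X.IdealSheafData) [IsIntegral C.subscheme]
    (hC1 : topologicalKrullDim (C.support : Set X) = 1) {M : X.Modules} (hM : PicF.IsInvertible M) :
    FGA.intNum k X 2 ![_root_.ClSub.idealMod C, M] (Coh.structureModule X) =
      -(Curv2.euler k X (CohB1.tensorMod (_root_.ClSub.quotMod C) M) -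
        Curv2.euler k X (_root_.ClSub.quotMod C)) := by
  have hd : topologicalKrullDim X ≤ ((2 : ℕ) : WithBot ℕ∞) := by exact_mod_cast hdim.le
  have hI := SurfInt.Effective.isInvertible_idealMod
    (SurfInt.Curve.isEffCartier (X ↘ Spec (CommRingCat.of k)) hdim
      (SurfInt.NegDef.regular_of_smooth (k := k)) C hC1)
  rw [SurfInt.Effective.intNum_ideal (Snapper.Finite.cohFinite k X) hd hI hM,
    Snapper.Chi.euler_eq_eulerCharLE hd, Snapper.Chi.euler_eq_eulerCharLE hd,
    Snapper.Chi.eulerCharLE_of_iso (TensorMod.Basic.comm (_root_.ClSub.quotMod C) M) 2]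
  ring

/-- A curve of negative degree on an effective divisor has negative square. -/
theorem sq_neg_of_effective (C : X.IdealSheafData) [IsIntegral C.subscheme]
    (hC1 : topologicalKrullDim (C.support : Set X) = 1) {F : X.IdealSheafData}
    (hF : BlowUp.IsEffCartierIdeal F)
    (h : FGA.intNum k X 2 ![_root_.ClSub.idealMod F, _root_.ClSub.idealMod C] (Coh.structureModule X) < 0) :
    FGA.intNum k X 2 ![_root_.ClSub.idealMod C, _root_.ClSub.idealMod C] (Coh.structureModule X) < 0 := by
  have hfin := Snapper.Finite.cohFinite k X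
  have hreg := SurfInt.NegDef.regular_of_smooth (k := k) (X := X)
  have hE := SurfInt.NegDef.isEff hfin hdim hreg C hC1
  have hI := SurfInt.Effective.isInvertible_idealMod hE
  by_contra hc
  push Not at hc
  have key := SurfInt.Mul.induction (X ↘ Spec (CommRingCat.of k)) hdim hreg
    (P := fun G => 0 ≤ FGA.intNum k X 2 ![_root_.ClSub.idealMod G, _root_.ClSub.idealMod C]
      (Coh.structureModule X))
    (SurfInt.NegDef.intNum_top hfin hdim hI).ge
    (fun D hint G hDd hG ih => by
      haveI := hint
      rw [SurfInt.NegDef.intNum_mul hfin hdim (SurfInt.NegDef.isEff hfin hdim hreg D hDd) hG hI]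
      rcases eq_or_ne D C with rfl | hne
      · linarith
      · linarith [SurfInt.NegDef.intNum_curves_nonneg hfin hdim hreg D C hDd hC1 hne]) hF
  omega

/-- A curve orthogonal to a class of positive square has negative square. -/
theorem sq_neg_of_orth (C : X.IdealSheafData) [IsIntegral C.subscheme]
    (hC1 : topologicalKrullDim (C.support : Set X) = 1) {D : X.Modules} (hD : PicF.IsInvertible D)
    (hDD : 0 < FGA.intNum k X 2 ![D, D] (Coh.structureModule X))
    (h : FGA.intNum k X 2 ![_root_.ClSub.idealMod C, D] (Coh.structureModule X) = 0) :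
    FGA.intNum k X 2 ![_root_.ClSub.idealMod C, _root_.ClSub.idealMod C] (Coh.structureModule X) < 0 := by
  obtain ⟨r, ι, hc, hι⟩ := Proper.exists_embedding (k := k) (X := X) hdim
  haveI := hc
  have hH := SurfInt.ProjSurf.isAmple ι
  have hfin := Snapper.Finite.cohFinite k X
  have hreg := SurfInt.NegDef.regular_of_smooth (k := k) (X := X)
  have hI := SurfInt.Effective.isInvertible_idealMod (SurfInt.NegDef.isEff hfin hdim hreg C hC1)
  have hneg := SurfInt.ProjSurf.intNum_nonpos_of_pos (k := k) hdim hH hD hI hDD
    (by rw [Snapper.IntNum.intNum_pair_comm]; exact h)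
  rcases hneg.lt_or_eq with h' | h'
  · exact h'
  have hN := TensorMod.Invertible.isInvertible_dual hI
  let e := TensorMod.Invertible.tensorDualIso hI
  have hO := Snapper.Twist.isCoh_structureModule X
  have h0 := SurfInt.NefInt.eq_zero_of_orth (k := k) hdim hD hN hH (fun E hint hEd => by
    haveI := hint
    have hJ := SurfInt.Effective.isInvertible_idealMod (SurfInt.NegDef.isEff hfin hdim hreg E hEd)
    rw [Snapper.IntNum.intNum_pair_comm, Snapper.IntNum.intNum_pair_inverse hfin hdim.le hI hN e hJ hO,
      Snapper.IntNum.intNum_pair_comm]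
    rcases eq_or_ne E C with rfl | hne
    · linarith
    · linarith [SurfInt.NegDef.intNum_curves_nonneg hfin hdim hreg E C hEd hC1 hne]) hDD
    (by rw [Snapper.IntNum.intNum_pair_comm,
      Snapper.IntNum.intNum_pair_inverse hfin hdim.le hI hN e hD hO, h, neg_zero]) hH.1
  rw [Snapper.IntNum.intNum_pair_comm,
    Snapper.IntNum.intNum_pair_inverse hfin hdim.le hI hN e hH.1 hO] at h0
  have := SurfInt.Surface.intNum_ample_neg (k := k) hfin hdim hreg C hC1 hH
  omega

/-- The dual of the ideal has degree `(C·C)` on the curve. -/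
theorem intNum_inverse (C : X.IdealSheafData) [IsIntegral C.subscheme]
    (hC1 : topologicalKrullDim (C.support : Set X) = 1) {N : X.Modules}
    (hN : _root_.ClSub.IsInverseOf N (_root_.ClSub.idealMod C)) :
    Curv2.euler k X (CohB1.tensorMod (_root_.ClSub.quotMod C) N) - Curv2.euler k X (_root_.ClSub.quotMod C) =
      FGA.intNum k X 2 ![_root_.ClSub.idealMod C, _root_.ClSub.idealMod C] (Coh.structureModule X) := by
  obtain ⟨e⟩ := hN
  have hNi : PicF.IsInvertible N := TensorMod.TensorInv.isInvertible_of_tensor_iso e
  have hI := SurfInt.Effective.isInvertible_idealMod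
    (SurfInt.Curve.isEffCartier (X ↘ Spec (CommRingCat.of k)) hdim
      (SurfInt.NegDef.regular_of_smooth (k := k)) C hC1)
  have h := intNum_eq (k := k) hdim C hC1 hNi
  rw [Snapper.IntNum.intNum_pair_comm, Snapper.IntNum.intNum_pair_inverse (Snapper.Finite.cohFinite k X)
    hdim.le hI hNi (TensorMod.Basic.comm _ N ≪≫ e) hI (Snapper.Twist.isCoh_structureModule X)] at h
  linarith

end Groth.Agent.Lib.SurfRR.Minimal
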