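import Groth.Agent.Lib.SurfRR.MulIncl
import Groth.Agent.Lib.SurfRR.K3
import Groth.Agent.Lib.SurfRR.Minimal
import Groth.Agent.Lib.Curves.Clifford

/-!
# `H¹` of effective divisors whose subdivisors have positive Euler characteristic
-/

set_option autoImplicit false
set_option linter.style.haveILetI false
universe u

open CategoryTheory CategoryTheory.Limits AlgebraicGeometry TopologicalSpace

noncomputable section

namespace Groth.Agent.Lib.SurfRR.Cycles

open Groth.Agent.Lib Groth.Agent.Lib.TensorMod.Basic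
open Groth.Agent.Lib.Curves.LES (mapK exactK₁ exactK₂ exactK₃ isoK)

variable {k : Type u} [Field k] {X : Scheme.{u}} [X.Over (Spec (CommRingCat.of k))]

/-- An isomorphism is bijective in cohomology. -/
theorem bijective_mapK {M N : X.Modules} (e : M ≅ N) (n : ℕ) :
    Function.Bijective (mapK k e.hom n) :=
  (isoK k e n).bijective

include k in
/-- `H¹(O_{C+A}) = 0` from `H¹(O_A) = 0` and `H¹(C, O(-A)|_C) = 0`. -/
theorem subsingleton_h1_mul {C A : X.IdealSheafData} (hC : BlowUp.IsEffCartierIdeal C)
    (hA : BlowUp.IsEffCartierIdeal A)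
    (h₁ : Subsingleton (Coh.HH X (_root_.ClSub.quotMod A) 1))
    (h₂ : Subsingleton (Coh.HH X
      (CohB1.tensorMod (_root_.ClSub.idealMod A) (_root_.ClSub.quotMod C)) 1)) :
    Subsingleton (Coh.HH X (_root_.ClSub.quotMod (C * A)) 1) := by
  obtain ⟨φ, hφ⟩ := MulIncl.exists_idealMod_mul hC A
  have hAi := SurfInt.Effective.isInvertible_idealMod hA
  let IA := _root_.ClSub.idealMod A
  let IC := _root_.ClSub.idealMod C
  have hT := Snapper.Twist.twistSeq_shortExact hAi (Groth.Agent.Lib.ClSub.Quot.idealSeq_shortExact C)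
  let t : CohB1.tensorMod IA IC ⟶ CohB1.tensorMod IA (Coh.structureModule X) :=
    tmap (𝟙 IA) (_root_.ClSub.idealModι C)
  have ht₁ : Function.Surjective (mapK k t 1) := fun y =>
    (exactK₂ k hT 1 y).1 (@Subsingleton.elim _ h₂ _ _)
  have ht₂ : Function.Injective (mapK k t 2) := (injective_iff_map_eq_zero _).2 fun y hy => by
    obtain ⟨z, rfl⟩ := (exactK₁ k hT 1 2 rfl y).1 hy
    exact (congrArg _ (@Subsingleton.elim _ h₂ z (0 : Coh.HH X (Snapper.Twist.twistSeq IA (Groth.Agent.Lib.ClSub.Quot.idealSeq C)).X₃ 1))).trans (map_zero _)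
  have hS := Groth.Agent.Lib.ClSub.Quot.idealSeq_shortExact A
  let ιA : IA ⟶ Coh.structureModule X := _root_.ClSub.idealModι A
  have hA₁ : Function.Surjective (mapK k ιA 1) := fun y =>
    (exactK₂ k hS 1 y).1 (@Subsingleton.elim _ h₁ _ _)
  have hA₂ : Function.Injective (mapK k ιA 2) := (injective_iff_map_eq_zero _).2 fun y hy => by
    obtain ⟨z, rfl⟩ := (exactK₁ k hS 1 2 rfl y).1 hy
    exact (congrArg _ (@Subsingleton.elim _ h₁ z (0 : Coh.HH X (Groth.Agent.Lib.ClSub.Quot.idealSeq A).X₃ 1))).trans (map_zero _)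
  let ι' := _root_.ClSub.idealModι (C * A)
  let u := (comm (Coh.structureModule X) IA).symm ≪≫ leftUnit IA
  have hfac : φ.hom ≫ ι' = (((comm IC IA).hom ≫ t) ≫ u.hom) ≫ ιA := by
    rw [hφ, ← comm_natural]
    simp [SurfInt.Stalk.act, u, ιA, IA, IC]
  have hmap : ∀ n, mapK k ι' n ∘ₗ mapK k φ.hom n =
      mapK k ιA n ∘ₗ mapK k u.hom n ∘ₗ mapK k t n ∘ₗ mapK k (comm IC IA).hom n := fun n => by
    rw [← Curves.LES.mapK_comp, hfac, Curves.LES.mapK_comp, Curves.LES.mapK_comp,
      Curves.LES.mapK_comp]
  have h1 : Function.Surjective (mapK k ι' 1) := by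
    have hs : Function.Surjective
        (mapK k ιA 1 ∘ₗ mapK k u.hom 1 ∘ₗ mapK k t 1 ∘ₗ mapK k (comm IC IA).hom 1) :=
      hA₁.comp ((bijective_mapK (k := k) u 1).2.comp (ht₁.comp (bijective_mapK (k := k) (comm IC IA) 1).2))
    rw [← hmap 1] at hs
    exact Function.Surjective.of_comp hs
  have h2 : Function.Injective (mapK k ι' 2) := by
    have hi : Function.Injective
        (mapK k ιA 2 ∘ₗ mapK k u.hom 2 ∘ₗ mapK k t 2 ∘ₗ mapK k (comm IC IA).hom 2) :=
      hA₂.comp ((bijective_mapK (k := k) u 2).1.comp (ht₂.comp (bijective_mapK (k := k) (comm IC IA) 2).1))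
    rw [← hmap 2] at hi
    exact Function.Injective.of_comp_right hi (bijective_mapK φ 2).2
  have hS' := Groth.Agent.Lib.ClSub.Quot.idealSeq_shortExact (C * A)
  refine subsingleton_of_forall_eq 0 fun y => ?_
  have hy : Curves.LES.δK k hS' 1 2 rfl y = 0 :=
    h2 (((exactK₁ k hS' 1 2 rfl _).2 ⟨y, rfl⟩).trans (map_zero (mapK k ι' 2)).symm)
  obtain ⟨z, rfl⟩ := (exactK₃ k hS' 1 2 rfl y).1 hy
  obtain ⟨w, rfl⟩ := h1 z
  exact (exactK₂ k hS' 1 _).2 ⟨w, rfl⟩

section Surface

variable [IsAlgClosed k] [IsProper (X ↘ Spec (CommRingCat.of k))]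
  [Smooth (X ↘ Spec (CommRingCat.of k))] [IsIntegral X] [IsNoetherian X]
  (hdim : topologicalKrullDim X = 2)

include k hdim

/-- Adjunction for effective divisors. -/
theorem adjunction {F : X.IdealSheafData} (hF : BlowUp.IsEffCartierIdeal F) {W : X.Modules}
    (hW : ExtPow.IsExtPow 2 (Omega.sheaf (X ↘ Spec (CommRingCat.of k))) W) :
    FGA.intNum k X 2 ![_root_.ClSub.idealMod F, _root_.ClSub.idealMod F] (Coh.structureModule X) -
        FGA.intNum k X 2 ![_root_.ClSub.idealMod F, W] (Coh.structureModule X) =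
      -2 * Curv2.euler k X (_root_.ClSub.quotMod F) := by
  have hd : topologicalKrullDim X ≤ ((2 : ℕ) : WithBot ℕ∞) := by exact_mod_cast hdim.le
  have hI := SurfInt.Effective.isInvertible_idealMod hF
  have h := SurfInt.Effective.chi_quot (Snapper.Finite.cohFinite k X) hd hI
  simp only [← Snapper.Chi.euler_eq_eulerCharLE hd] at h
  linarith [Proper.riemannRoch hdim hW hI]

/-- `χ(O_D) ≥ 1` when `H¹(O_D) = 0`. -/
theorem one_le_euler {F : X.IdealSheafData} (hF : BlowUp.IsEffCartierIdeal F) (hne : F ≠ ⊤)
    (h1 : Subsingleton (Coh.HH X (_root_.ClSub.quotMod F) 1)) :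
    1 ≤ Curv2.euler k X (_root_.ClSub.quotMod F) := by
  have hd : topologicalKrullDim X ≤ ((2 : ℕ) : WithBot ℕ∞) := by exact_mod_cast hdim.le
  have hfin := Snapper.Finite.cohFinite k X
  haveI h2 : Subsingleton (Coh.HH X (_root_.ClSub.quotMod F) 2) :=
    @Equiv.subsingleton _ _ (isoK k (leftUnit (_root_.ClSub.quotMod F)) 2).symm.toEquiv
      (SurfInt.H2Basic.subsingleton_h2_quot (k := k) hdim hF (PicLoc.isInvertible_structureModule X))
  haveI := h1
  obtain ⟨C, hint, hCd, hsub⟩ := SurfInt.Mul.exists_curve (X ↘ Spec (CommRingCat.of k)) hdim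
    (SurfInt.NegDef.regular_of_smooth (k := k)) hF hne
  haveI := hint
  obtain ⟨F', -, hmul, hlt⟩ := SurfInt.Mul.exists_residual (X ↘ Spec (CommRingCat.of k)) hdim
    (SurfInt.NegDef.regular_of_smooth (k := k)) hF C hCd hsub
  have hle : F ≤ C := fun U => by
    rw [← hmul, Scheme.IdealSheafData.ideal_mul, Pi.mul_apply]
    exact _root_.Ideal.mul_le_left
  obtain ⟨π, hπ⟩ := SurfInt.Seq.exists_descend hle
  have h0 : Module.finrank k (Coh.HH X (_root_.ClSub.quotMod F) 0) ≠ 0 := by
    intro h0
    haveI := hfin _ (SurfInt.Effective.isCoh_quotMod F) 0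
    haveI := Module.finrank_zero_iff.1 h0
    haveI := K3.subsingleton_h0_idealMod (k := k) hdim C hCd
    have hz : mapK k (_root_.ClSub.toSubscheme C) 0 = 0 := by
      rw [← hπ, Curves.LES.mapK_comp]
      ext x
      rw [LinearMap.comp_apply, Subsingleton.elim (mapK k (_root_.ClSub.toSubscheme F) 0 x) 0,
        map_zero, LinearMap.zero_apply]
    have hS := Groth.Agent.Lib.ClSub.Quot.idealSeq_shortExact C
    have hsub0 : Subsingleton (Coh.HH X (Coh.structureModule X) 0) := subsingleton_of_forall_eq 0 fun x => by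
      obtain ⟨y, rfl⟩ := (exactK₂ k hS 0 x).1 (LinearMap.congr_fun hz x)
      exact (congrArg _ (@Subsingleton.elim _ (K3.subsingleton_h0_idealMod (k := k) hdim C hCd) y (0 : Coh.HH X (Groth.Agent.Lib.ClSub.Quot.idealSeq C).X₁ 0))).trans (map_zero _)
    have hone := Curves.GlobalSections.finrank_h0_structure k X
    haveI := hsub0
    rw [Module.finrank_zero_of_subsingleton (R := k)] at hone
    exact zero_ne_one hone
  rw [Snapper.Chi.euler_eq_eulerCharLE hd]
  simp only [FGA.eulerCharLE, Finset.sum_range_succ, Finset.sum_range_zero,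
    Module.finrank_zero_of_subsingleton (R := k) (M := Coh.HH X (_root_.ClSub.quotMod F) 1),
    Module.finrank_zero_of_subsingleton (R := k) (M := Coh.HH X (_root_.ClSub.quotMod F) 2)]
  push_cast
  omega

/-- `H¹` of a module of degree `≥ -1` on a rational curve vanishes. -/
theorem subsingleton_h1_twist (C : X.IdealSheafData) [IsIntegral C.subscheme]
    (hCd : topologicalKrullDim (C.support : Set X) = 1)
    (hg : 1 ≤ Curv2.euler k X (_root_.ClSub.quotMod C)) {M : X.Modules} (hM : PicF.IsInvertible M)
    (hdeg : FGA.intNum k X 2 ![_root_.ClSub.idealMod C, M] (Coh.structureModule X) ≤ 1) :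
    Subsingleton (Coh.HH X (CohB1.tensorMod M (_root_.ClSub.quotMod C)) 1) := by
  letI := SurfInt.Surface.overSub (k := k) C
  haveI : IsProper (C.subscheme ↘ Spec (CommRingCat.of k)) :=
    inferInstanceAs (IsProper (C.subschemeι ≫ (X ↘ Spec (CommRingCat.of k))))
  have hd : topologicalKrullDim C.subscheme ≤ 1 :=
    ((SurfInt.Surface.dim_subscheme C).trans hCd).le
  have h0 := Curves.GlobalSections.finrank_h0_structure k C.subscheme
  have hχ := Curves.Degree.euler_structureModule (k := k) hd h0
  rw [SurfInt.Surface.euler_quot, hχ] at hg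
  let P := (Scheme.Modules.pullback C.subschemeι).obj M
  have hP : PicF.IsInvertible P := PicLoc.isInvertible_pullback C.subschemeι hM
  have hI := Minimal.intNum_eq (k := k) hdim C hCd hM
  rw [Curves.Euler.euler_eq_of_iso (comm (_root_.ClSub.quotMod C) M),
    SurfInt.Surface.euler_twist_quot C hM, SurfInt.Surface.euler_quot] at hI
  have hsub : Subsingleton (Coh.HH C.subscheme P 1) :=
    Curves.Clifford.subsingleton_one_of_deg k hd h0 hP (by
      simp only [Curv2.deg, P]
      push_cast
      omega)
  haveI := hsub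
  haveI : P.IsQuasicoherent := TensorMod.QCohInv.isQCoh_of_isInvertible hP
  have hE := Modules.DualBasis.hasDBases_of_isFinLocFree
    (TensorMod.LocFree.of_rank (TensorMod.LocFree.of_isInvertible hM))
  have e : CohB1.tensorMod M (_root_.ClSub.quotMod C) ≅ (Coh.push C.subschemeι).obj P :=
    (Modules.ProjFormula.projIso C.subschemeι hE).app (Coh.structureModule C.subscheme) ≪≫
      (Coh.push C.subschemeι).mapIso (rightUnit P)
  haveI : Subsingleton (Coh.HH X ((Coh.push C.subschemeι).obj P) 1) :=
    (ZarCoh.Morph.affineEquiv C.subschemeι P 1).toEquiv.subsingleton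
  exact (isoK k e 1).toEquiv.subsingleton

/-- The key induction. -/
theorem subsingleton_h1 {W : X.Modules}
    (hW : ExtPow.IsExtPow 2 (Omega.sheaf (X ↘ Spec (CommRingCat.of k))) W)
    (Z : X.IdealSheafData) (hZ : BlowUp.IsEffCartierIdeal Z) (hne : Z ≠ ⊤)
    (hχ : ∀ Z' J : X.IdealSheafData, BlowUp.IsEffCartierIdeal Z' → BlowUp.IsEffCartierIdeal J →
      Z' ≠ ⊤ → Z = Z' * J → 1 ≤ Curv2.euler k X (_root_.ClSub.quotMod Z')) :
    Subsingleton (Coh.HH X (_root_.ClSub.quotMod Z) 1) := by
  have hfin := Snapper.Finite.cohFinite k X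
  have hreg := SurfInt.NegDef.regular_of_smooth (k := k) (X := X)
  have hWi := Duality.isInvertible_canonical (k := k) hdim hW
  haveI := FinCond.wellFoundedGT_idealSheafData (X := X)
  induction Z using (inferInstance : WellFoundedGT X.IdealSheafData).wf.induction with
  | _ Z ih =>
    -- a component on which the residual divisor has degree at most one
    obtain ⟨C, hint, hCd, A, hA, hmul, hlt, hdeg⟩ : ∃ (C : X.IdealSheafData) (_ : IsIntegral C.subscheme)
        (_ : topologicalKrullDim (C.support : Set X) = 1) (A : X.IdealSheafData),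
        BlowUp.IsEffCartierIdeal A ∧ C * A = Z ∧ Z < A ∧
        FGA.intNum k X 2 ![_root_.ClSub.idealMod C, _root_.ClSub.idealMod A] (Coh.structureModule X) ≤ 1 := by
      by_contra hno
      push Not at hno
      have key := SurfInt.Mul.induction (X ↘ Spec (CommRingCat.of k)) hdim hreg
        (P := fun G => (∃ G', BlowUp.IsEffCartierIdeal G' ∧ G * G' = Z) →
          FGA.intNum k X 2 ![_root_.ClSub.idealMod G, W] (Coh.structureModule X) ≤
            FGA.intNum k X 2 ![_root_.ClSub.idealMod G, _root_.ClSub.idealMod Z] (Coh.structureModule X))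
        (fun _ => by
          rw [SurfInt.NegDef.intNum_top hfin hdim hWi,
            SurfInt.NegDef.intNum_top hfin hdim (SurfInt.Effective.isInvertible_idealMod hZ)])
        (fun C hint G hCd hG ihG => by
          rintro ⟨G', hG', hGG⟩
          haveI := hint
          have hCE := SurfInt.NegDef.isEff hfin hdim hreg C hCd
          have hIC := SurfInt.Effective.isInvertible_idealMod hCE
          have ihG' := ihG ⟨C * G', Groth.Agent.Lib.Ideal.EffCartier.isEffCartier_mul hCE hG', by
            rw [← hGG]; ac_rfl⟩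
          have hCdiv : C * (G * G') = Z := by rw [← hGG]; ac_rfl
          have hsub : (C.support : Set X) ⊆ (Z.support : Set X) :=
            Scheme.IdealSheafData.support_antitone (show Z ≤ C from fun U => by
              rw [← hCdiv, Scheme.IdealSheafData.ideal_mul, Pi.mul_apply]
              exact _root_.Ideal.mul_le_left)
          obtain ⟨A, hA, hmul, hlt⟩ :=
            SurfInt.Mul.exists_residual (X ↘ Spec (CommRingCat.of k)) hdim hreg hZ C hCd hsub
          have hdeg := hno C hint hCd A hA hmul hlt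
          have hne' : C ≠ ⊤ := by
            rintro rfl
            have h1 := SurfInt.NegDef.intNum_top (k := k) hfin hdim
              (SurfInt.Effective.isInvertible_idealMod hA)
            omega
          have hgC := hχ C A hCE hA hne' hmul.symm
          have hadj := adjunction (k := k) hdim hCE hW
          have hle1 : Curv2.euler k X (_root_.ClSub.quotMod C) ≤ 1 := by
            letI := SurfInt.Surface.overSub (k := k) C
            haveI : IsProper (C.subscheme ↘ Spec (CommRingCat.of k)) :=
              inferInstanceAs (IsProper (C.subschemeι ≫ (X ↘ Spec (CommRingCat.of k))))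
            rw [SurfInt.Surface.euler_quot, Curves.Degree.euler_structureModule (k := k)
              ((SurfInt.Surface.dim_subscheme C).trans hCd).le
              (Curves.GlobalSections.finrank_h0_structure k C.subscheme)]
            omega
          have hCZ : FGA.intNum k X 2 ![_root_.ClSub.idealMod C, _root_.ClSub.idealMod Z] (Coh.structureModule X) =
              FGA.intNum k X 2 ![_root_.ClSub.idealMod C, _root_.ClSub.idealMod C] (Coh.structureModule X) +
              FGA.intNum k X 2 ![_root_.ClSub.idealMod C, _root_.ClSub.idealMod A] (Coh.structureModule X) := by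
            rw [← hmul, Snapper.IntNum.intNum_pair_comm, SurfInt.NegDef.intNum_mul hfin hdim hCE hA hIC,
              Snapper.IntNum.intNum_pair_comm (_root_.ClSub.idealMod A)]
          rw [SurfInt.NegDef.intNum_mul hfin hdim hCE hG hWi,
            SurfInt.NegDef.intNum_mul hfin hdim hCE hG (SurfInt.Effective.isInvertible_idealMod hZ)]
          omega) hZ ⟨⊤, Ideal.EffCartier.isEffCartier_top, ?_⟩
      · have hadj := adjunction (k := k) hdim hZ hW
        have hge := hχ Z ⊤ hZ Ideal.EffCartier.isEffCartier_top hne ?_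
        · omega
        · exact (Scheme.IdealSheafData.ext (funext fun U => by
            rw [Scheme.IdealSheafData.ideal_mul, Pi.mul_apply, Scheme.IdealSheafData.ideal_top,
              Pi.top_apply]
            exact (_root_.Ideal.mul_top _).symm))
      · exact Scheme.IdealSheafData.ext (funext fun U => by
          rw [Scheme.IdealSheafData.ideal_mul, Pi.mul_apply, Scheme.IdealSheafData.ideal_top,
            Pi.top_apply]
          exact _root_.Ideal.mul_top _)
    haveI := hint
    have hCE := SurfInt.NegDef.isEff hfin hdim hreg C hCd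
    have hAi := SurfInt.Effective.isInvertible_idealMod hA
    have hC1 : C ≠ ⊤ := by
      rintro rfl
      haveI : IsEmpty ((⊤ : X.IdealSheafData).support : Set X) :=
        Set.isEmpty_coe_sort.2 ((Scheme.IdealSheafData.support_top (X := X) ▸ rfl) :
          ((⊤ : X.IdealSheafData).support : Set X) = ∅)
      haveI : IsEmpty (IrreducibleCloseds ((⊤ : X.IdealSheafData).support : Set X)) :=
        ⟨fun Z => isEmptyElim Z.isIrreducible.nonempty.some⟩
      have h0 : topologicalKrullDim ((⊤ : X.IdealSheafData).support : Set X) = ⊥ := Order.krullDim_eq_bot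
      rw [h0] at hCd
      exact WithBot.bot_ne_one hCd
    subst hmul
    refine subsingleton_h1_mul (k := k) hCE hA ?_
      (subsingleton_h1_twist hdim C hCd (hχ C A hCE hA hC1 rfl) hAi hdeg)
    by_cases hAtop : A = ⊤
    · subst hAtop
      have hS := Groth.Agent.Lib.ClSub.Quot.idealSeq_shortExact (⊤ : X.IdealSheafData)
      have hz : IsZero (_root_.ClSub.quotMod (⊤ : X.IdealSheafData)) := by
        rw [← Modules.Support.support_eq_empty_iff, Groth.Agent.Lib.ClSub.Quot.support_quotMod]
        exact Scheme.IdealSheafData.support_top (X := X) ▸ rfl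
      refine subsingleton_of_forall_eq 0 fun x => ?_
      have h1 : mapK k (𝟙 (_root_.ClSub.quotMod (⊤ : X.IdealSheafData))) 1 x = x := by
        rw [Curves.LES.mapK_id]; rfl
      rw [← h1, hz.eq_of_src (𝟙 _) 0]
      show Sheaf.H.map (Curves.LES.toAbMap
        (0 : _root_.ClSub.quotMod (⊤ : X.IdealSheafData) ⟶ _)) 1 x = 0
      rw [Curves.LES.toAbMap, Functor.map_zero]
      show Abelian.Ext.comp x (Abelian.Ext.mk₀ 0) (add_zero 1) = 0
      rw [Abelian.Ext.mk₀_zero, Abelian.Ext.comp_zero]
    · exact ih A hlt hA hAtop fun Z' J hZ' hJ hne' he =>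
        hχ Z' (C * J) hZ' (Groth.Agent.Lib.Ideal.EffCartier.isEffCartier_mul hCE hJ) hne'
          (by rw [he]; ac_rfl)

end Surface

end Groth.Agent.Lib.SurfRR.Cycles
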