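import Groth.Agent.Lib.SurfRR.Transform
import Groth.Agent.Lib.SurfInt.JPow
import Groth.Agent.Lib.ModelFibre.StalkIdeal

/-!
# Divisors with a multiple cut out by a function: one-connectedness of the primitive divisor
-/

set_option autoImplicit false
set_option linter.style.haveILetI false
universe u

open CategoryTheory CategoryTheory.Limits AlgebraicGeometry TopologicalSpace Opposite

noncomputable section

namespace Groth.Agent.Lib.SurfRR.Fibre

open Groth.Agent.Lib
open Groth.Agent.Lib.Ideal.Prime (stalkIdeal stalkIdeal_eq gen gen_mem gen_specializes)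
open Groth.Agent.Lib.SurfRR.Ramanujam (le_of_mul_left le_of_mul_right)

/-- A semidefinite quadratic form with connected graph and a positive kernel vector. -/
theorem quad_neg_or_prop {r : ℕ} (G : Fin r → Fin r → ℤ) (hsym : ∀ i j, G i j = G j i)
    (hoff : ∀ i j, i ≠ j → 0 ≤ G i j) (e : Fin r → ℕ) (he : ∀ i, 0 < e i)
    (hker : ∀ i, ∑ j, G i j * (e j : ℤ) = 0)
    (hconn : ∀ S : Finset (Fin r), S.Nonempty → Sᶜ.Nonempty → ∃ i ∈ S, ∃ j ∈ Sᶜ, 0 < G i j)
    (a : Fin r → ℤ) (i₀ : Fin r) (h : 0 ≤ ∑ i, ∑ j, a i * a j * G i j) (j : Fin r) :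
    (e i₀ : ℤ) * a j = a i₀ * (e j : ℤ) := by
  classical
  by_contra hne
  let b : Fin r → ℤ := fun i => (e i₀ : ℤ) * a i - a i₀ * (e i : ℤ)
  have hb0 : b i₀ = 0 := by simp only [b]; ring
  have hb : b ≠ 0 := fun h0 => hne (by have := congrFun h0 j; simp only [b, Pi.zero_apply] at this; linarith)
  let d : Fin r → Fin r → ℤ := fun i l => if i = i₀ ∧ l = i₀ then 1 else 0
  have hd : ∀ (c : Fin r → ℤ) (i : Fin r), ∑ l, d i l * c l = if i = i₀ then c i₀ else 0 := by
    intro c i
    by_cases hi : i = i₀ <;> simp [d, hi]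
  let G' : Fin r → Fin r → ℤ := fun i l => G i l - d i l
  have hrow : ∀ i, ∑ l, G' i l * (e l : ℤ) = - if i = i₀ then (e i₀ : ℤ) else 0 := fun i => by
    simp only [G', sub_mul, Finset.sum_sub_distrib, hker, hd (fun l => (e l : ℤ)), zero_sub]
  have hd0 : ∀ {i l : Fin r}, i ≠ l → d i l = 0 := fun {i l} hil => by
    simp only [d]; exact if_neg fun hh => hil (hh.1.trans hh.2.symm)
  have hneg := Contraction.negDef_of_vector G'
    (fun i l => by simp only [G', d, hsym i l, and_comm])
    (fun i l hil => by simp only [G', hd0 hil, sub_zero]; exact hoff i l hil) e he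
    (fun i => by
      rw [hrow]
      split_ifs <;> simp)
    ⟨i₀, by rw [hrow, if_pos rfl]; have := he i₀; omega⟩
    (fun S h1 h2 => by
      obtain ⟨i, hi, l, hl, hil⟩ := hconn S h1 h2
      exact ⟨i, hi, l, hl, by
        simp only [G', hd0 (fun hh : i = l => Finset.mem_compl.1 hl (hh ▸ hi)), sub_zero]; exact hil⟩)
    b hb
  have hbb : ∀ i, ∑ l, b i * b l * d i l = 0 := fun i => by
    have h2 := hd (fun l => b i * b l) i
    rw [hb0, mul_zero, ite_self] at h2
    rw [← h2]
    exact Finset.sum_congr rfl fun l _ => by ring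
  have h1 : ∑ i, ∑ l, b i * b l * G' i l = ∑ i, ∑ l, b i * b l * G i l := by
    simp only [G', mul_sub, Finset.sum_sub_distrib, hbb, sub_zero]
  have hx : ∀ c : Fin r → ℤ, ∑ i, ∑ l, c i * (e l : ℤ) * G i l = 0 := fun c =>
    Finset.sum_eq_zero fun i _ => by
      rw [Finset.sum_congr rfl fun l _ => (show c i * (e l : ℤ) * G i l = c i * (G i l * (e l : ℤ)) by ring),
        ← Finset.mul_sum, hker, mul_zero]
  have hy : ∀ c : Fin r → ℤ, ∑ i, ∑ l, (e i : ℤ) * c l * G i l = 0 := fun c => by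
    rw [Finset.sum_comm]
    refine Eq.trans ?_ (hx c)
    exact Finset.sum_congr rfl fun i _ => Finset.sum_congr rfl fun l _ => by rw [hsym l i]; ring
  have h2 : ∑ i, ∑ l, b i * b l * G i l = (e i₀ : ℤ) ^ 2 * ∑ i, ∑ l, a i * a l * G i l := by
    have h3 : ∀ i l, b i * b l * G i l = (e i₀ : ℤ) ^ 2 * (a i * a l * G i l) -
        (e i₀ : ℤ) * a i₀ * (a i * (e l : ℤ) * G i l) - a i₀ * ((e i : ℤ) * b l * G i l) :=
      fun i l => by simp only [b]; ring
    simp only [h3, Finset.sum_sub_distrib, ← Finset.mul_sum, hx, hy, mul_zero, sub_zero]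
  rw [h1, h2] at hneg
  nlinarith [sq_nonneg (e i₀ : ℤ)]

variable {X : Scheme.{u}}

theorem exists_mem_support_of_mem_prod {r : ℕ} (C : Fin r → X.IdealSheafData) (e : Fin r → ℕ) {x : X}
    (hx : x ∈ (∏ j, C j ^ e j).support) : ∃ j, 0 < e j ∧ x ∈ (C j).support := by
  by_contra hcon
  push Not at hcon
  have htop : stalkIdeal (∏ j, C j ^ e j) x = ⊤ := by
    rw [ModelFibre.StalkIdeal.stalkIdeal_prod, ← _root_.Ideal.one_eq_top]
    refine Finset.prod_eq_one fun j _ => ?_
    rw [ModelFibre.StalkIdeal.stalkIdeal_pow]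
    rcases Nat.eq_zero_or_pos (e j) with h | h
    · rw [h, pow_zero]
    · rw [Transform.stalkIdeal_eq_top (hcon j h), _root_.Ideal.top_pow, _root_.Ideal.one_eq_top]
  obtain ⟨U, hU, hxU, -⟩ := exists_isAffineOpen_mem_and_subset (show x ∈ (⊤ : X.Opens) from trivial)
  have hp := (Ideal.Prime.mem_support_iff_le_prime _ ⟨U, hU⟩ hxU).1 hx
  rw [stalkIdeal_eq _ ⟨U, hU⟩ hxU] at htop
  letI algx := X.presheaf.algebra_section_stalk ⟨x, hxU⟩
  haveI := hU.isLocalization_stalk ⟨x, hxU⟩
  exact (IsLocalRing.maximalIdeal.isMaximal _).ne_top (top_le_iff.1 (htop ▸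
    _root_.Ideal.map_le_iff_le_comap.mpr (hp.trans
      (IsLocalization.AtPrime.under_maximalIdeal (X.presheaf.stalk x) _).ge)))

theorem isEffCartier_prod {r : ℕ} (C : Fin r → X.IdealSheafData)
    (hC : ∀ j, BlowUp.IsEffCartierIdeal (C j)) (n : Fin r → ℕ) :
    BlowUp.IsEffCartierIdeal (∏ j, C j ^ n j) :=
  Finset.prod_induction _ BlowUp.IsEffCartierIdeal (fun _ _ => Ideal.EffCartier.isEffCartier_mul)
    Ideal.EffCartier.isEffCartier_top fun j _ => Ideal.EffCartier.isEffCartier_pow (hC j) _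

variable {k : Type u} [Field k] [IsAlgClosed k] [IsIntegral X] [X.Over (Spec (CommRingCat.of k))]
  [IsProper (X ↘ Spec (CommRingCat.of k))] [Smooth (X ↘ Spec (CommRingCat.of k))]
  [AlgebraicGeometry.IsNoetherian X] (hdim : topologicalKrullDim X = 2)

include k hdim

theorem eq_of_gen_mem (C D : X.IdealSheafData) [IsIntegral C.subscheme] [IsIntegral D.subscheme]
    (hC : topologicalKrullDim (C.support : Set X) = 1)
    (hD : topologicalKrullDim (D.support : Set X) = 1) (h : gen C ∈ D.support) : C = D :=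
  SurfInt.Curve.eq_of_gen_eq C D (VarDim.Basic.eq_of_pdim_le (X ↘ Spec (CommRingCat.of k))
    (gen_specializes D h)
    (by rw [SurfInt.Curve.pdim_gen _ C hC, SurfInt.Curve.pdim_gen _ D hD])).symm

/-- An effective divisor has finitely many curves in its support. -/
theorem exists_finset_curves {F : X.IdealSheafData} (hF : BlowUp.IsEffCartierIdeal F) :
    ∃ s : Finset X.IdealSheafData, ∀ (C : X.IdealSheafData) [IsIntegral C.subscheme],
      topologicalKrullDim (C.support : Set X) = 1 → (C.support : Set X) ⊆ F.support → C ∈ s := by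
  classical
  refine SurfInt.Mul.induction (X ↘ Spec (CommRingCat.of k)) hdim
    (SurfInt.NegDef.regular_of_smooth (k := k) (X := X))
    (P := fun F => ∃ s : Finset X.IdealSheafData, ∀ (C : X.IdealSheafData) [IsIntegral C.subscheme],
      topologicalKrullDim (C.support : Set X) = 1 → (C.support : Set X) ⊆ F.support → C ∈ s)
    ⟨∅, fun C _ _ hsub => ?_⟩ (fun E hint F hEd hF ih => ?_) hF
  · have := hsub (gen_mem C)
    rw [Scheme.IdealSheafData.support_top] at this
    exact this.elim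
  · haveI := hint
    obtain ⟨s, hs⟩ := ih
    refine ⟨insert E s, fun C _ hCd hsub => ?_⟩
    have h := hsub (gen_mem C)
    rw [Scheme.IdealSheafData.support_mul] at h
    rcases h with h | h
    · exact Finset.mem_insert.2 (Or.inl (eq_of_gen_mem (k := k) hdim C E hCd hEd h))
    · exact Finset.mem_insert_of_mem (hs C hCd fun z hz =>
        (gen_specializes C hz).mem_closed F.support.isClosed h)

/-- The configuration of curves of a decomposed divisor with connected support, a multiple of which is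
cut out by a function: the intersection form is semidefinite with the multiplicities in its kernel. -/
theorem exists_factor_config {IE IA IB : X.IdealSheafData} {m : ℕ} (hm : 1 ≤ m)
    (hIE : BlowUp.IsEffCartierIdeal IE) {W : X.Opens} (g : Γ(X, W)) (hg : g ≠ 0)
    (hW : (IE.support : Set X) ⊆ W)
    (hst : ∀ (y : X) (_ : y ∈ IE.support) (hy : y ∈ W),
      stalkIdeal (IE ^ m) y = _root_.Ideal.span {X.presheaf.germ W y hy g})
    (hconn : _root_.IsPreconnected (IE.support : Set X)) (hAB : IA * IB = IE) :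
    ∃ (r : ℕ) (C : Fin r → X.IdealSheafData) (α β : Fin r → ℕ) (G : Fin r → Fin r → ℤ),
      (∀ i, IsIntegral (C i).subscheme ∧ topologicalKrullDim ((C i).support : Set X) = 1 ∧
        ((C i).support : Set X) ⊆ IE.support) ∧
      (∀ (E : X.IdealSheafData) [IsIntegral E.subscheme],
        topologicalKrullDim (E.support : Set X) = 1 → (E.support : Set X) ⊆ IE.support → ∃ j, E = C j) ∧
      IA = ∏ j, C j ^ α j ∧ IB = ∏ j, C j ^ β j ∧ IE = ∏ j, C j ^ (α j + β j) ∧
      (∀ i, 0 < α i + β i) ∧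
      (∀ P : X.Modules, PicF.IsInvertible P →
        FGA.intNum k X 2 ![_root_.ClSub.idealMod IB, P] (Coh.structureModule X) =
          ∑ j, (β j : ℤ) * FGA.intNum k X 2 ![_root_.ClSub.idealMod (C j), P] (Coh.structureModule X)) ∧
      (∀ i j, G i j = G j i) ∧ (∀ i j, i ≠ j → 0 ≤ G i j) ∧
      (∀ i, ∑ j, G i j * ((α j + β j : ℕ) : ℤ) = 0) ∧
      (∀ S : Finset (Fin r), S.Nonempty → Sᶜ.Nonempty → ∃ i ∈ S, ∃ j ∈ Sᶜ, 0 < G i j) ∧
      FGA.intNum k X 2 ![_root_.ClSub.idealMod IA, _root_.ClSub.idealMod IB] (Coh.structureModule X) =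
        - ∑ i, ∑ j, (α i : ℤ) * (α j : ℤ) * G i j := by
  classical
  have hfin := Snapper.Finite.cohFinite k X
  have hreg := SurfInt.NegDef.regular_of_smooth (k := k) (X := X)
  have hIA : BlowUp.IsEffCartierIdeal IA := Ideal.EffCartier.isEffCartier_factor_left (hAB.symm ▸ hIE)
  have hIB : BlowUp.IsEffCartierIdeal IB := Ideal.EffCartier.isEffCartier_factor_right (hAB.symm ▸ hIE)
  obtain ⟨s, hs⟩ := exists_finset_curves (k := k) hdim hIE
  let t := s.filter fun C => IsIntegral C.subscheme ∧ topologicalKrullDim (C.support : Set X) = 1 ∧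
    (C.support : Set X) ⊆ IE.support
  let C : Fin t.card → X.IdealSheafData := fun i => (t.equivFin.symm i).1
  have hCt : ∀ i, IsIntegral (C i).subscheme ∧ topologicalKrullDim ((C i).support : Set X) = 1 ∧
      ((C i).support : Set X) ⊆ IE.support := fun i => (Finset.mem_filter.1 (t.equivFin.symm i).2).2
  have hCi := fun i => (hCt i).1
  have hCd := fun i => (hCt i).2.1
  have hinj : Function.Injective C := fun i j h => t.equivFin.symm.injective (Subtype.ext h)
  have hall : ∀ (E : X.IdealSheafData) [IsIntegral E.subscheme],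
      topologicalKrullDim (E.support : Set X) = 1 → (E.support : Set X) ⊆ IE.support →
      ∃ j, E = C j := fun E hE hd hsub =>
    ⟨t.equivFin ⟨E, Finset.mem_filter.2 ⟨hs E hd hsub, hE, hd, hsub⟩⟩, by simp [C]⟩
  have hAs : (IA.support : Set X) ⊆ IE.support :=
    Scheme.IdealSheafData.support_antitone (le_of_mul_left hAB)
  have hBs : (IB.support : Set X) ⊆ IE.support :=
    Scheme.IdealSheafData.support_antitone (le_of_mul_right hAB)
  obtain ⟨α, hα, hnA⟩ := Transform.exists_pow_decomp (k := k) hdim C hIA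
    fun E _ hd hsub => hall E hd (hsub.trans hAs)
  obtain ⟨β, hβ, hnB⟩ := Transform.exists_pow_decomp (k := k) hdim C hIB
    fun E _ hd hsub => hall E hd (hsub.trans hBs)
  let e : Fin t.card → ℕ := fun i => α i + β i
  have hE : IE = ∏ j, C j ^ e j := by
    simp only [e, pow_add, Finset.prod_mul_distrib, ← hα, ← hβ, hAB]
  have hsupp : (IE.support : Set X) = ⋃ i, ((C i).support : Set X) := by
    refine Set.Subset.antisymm (fun x hx => ?_) (Set.iUnion_subset fun i => (hCt i).2.2)
    obtain ⟨j, -, hj⟩ := exists_mem_support_of_mem_prod C e (hE ▸ hx)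
    exact Set.mem_iUnion.2 ⟨j, hj⟩
  have he : ∀ i, 0 < e i := fun i => by
    haveI := hCi i
    obtain ⟨j, hj, hij⟩ := exists_mem_support_of_mem_prod C e (hE ▸ (hCt i).2.2 (gen_mem (C i)))
    haveI := hCi j
    rwa [hinj (eq_of_gen_mem (k := k) hdim (C i) (C j) (hCd i) (hCd j) hij)]
  let G : Fin t.card → Fin t.card → ℤ := fun i j =>
    FGA.intNum k X 2 ![_root_.ClSub.idealMod (C i), _root_.ClSub.idealMod (C j)] (Coh.structureModule X)
  have hsym : ∀ i j, G i j = G j i := fun i j => Snapper.IntNum.intNum_pair_comm _ _ _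
  have hinv : ∀ i, PicF.IsInvertible (_root_.ClSub.idealMod (C i)) := fun i => by
    haveI := hCi i
    exact SurfInt.Effective.isInvertible_idealMod (Fundamental.isEff (k := k) hdim (hCd i))
  have hker : ∀ i, ∑ j, G i j * (e j : ℤ) = 0 := fun i => by
    haveI := hCi i
    have h0 := Transform.intNum_eq_zero_of_principal (k := k) hdim (C i) (hCd i)
      (Ideal.EffCartier.isEffCartier_pow hIE m) g hg ((hCt i).2.2.trans hW)
      fun y hy hyW => hst y ((hCt i).2.2 hy) hyW
    obtain ⟨n, rfl⟩ : ∃ n, m = n + 1 := ⟨m - 1, by omega⟩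
    rw [SurfInt.JPow.intNum_pow hfin hdim hIE (hinv i)] at h0
    have h1 := (mul_eq_zero.1 h0).resolve_left (by omega)
    rw [← hAB, SurfInt.NegDef.intNum_mul hfin hdim hIA hIB (hinv i), hnA _ (hinv i), hnB _ (hinv i),
      ← Finset.sum_add_distrib] at h1
    rw [← h1]
    refine Finset.sum_congr rfl fun j _ => ?_
    rw [hsym i j]
    simp only [G, e, Nat.cast_add]
    ring
  have hconn' : ∀ S : Finset (Fin t.card), S.Nonempty → Sᶜ.Nonempty →
      ∃ i ∈ S, ∃ j ∈ Sᶜ, 0 < G i j := by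
    intro S hS hS'
    have hcl : ∀ S' : Finset (Fin t.card), IsClosed (⋃ i ∈ S', ((C i).support : Set X)) := fun S' =>
      isClosed_biUnion_finset fun i _ => (C i).support.isClosed
    have hsub : (IE.support : Set X) ⊆
        (⋃ i ∈ S, ((C i).support : Set X)) ∪ ⋃ i ∈ Sᶜ, ((C i).support : Set X) := by
      rw [hsupp]
      refine Set.iUnion_subset fun i z hz => ?_
      by_cases h : i ∈ S
      · exact Or.inl (Set.mem_iUnion₂.2 ⟨i, h, hz⟩)
      · exact Or.inr (Set.mem_iUnion₂.2 ⟨i, Finset.mem_compl.2 h, hz⟩)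
    have hne : ∀ S' : Finset (Fin t.card), S'.Nonempty →
        ((IE.support : Set X) ∩ ⋃ i ∈ S', ((C i).support : Set X)).Nonempty := by
      rintro S' ⟨i, hi⟩
      haveI := hCi i
      exact ⟨gen (C i), (hCt i).2.2 (gen_mem (C i)), Set.mem_iUnion₂.2 ⟨i, hi, gen_mem (C i)⟩⟩
    obtain ⟨z, -, hz1, hz2⟩ := isPreconnected_closed_iff.1 hconn _ _ (hcl S) (hcl Sᶜ) hsub
      (hne S hS) (hne Sᶜ hS')
    obtain ⟨i, hi, hzi⟩ := Set.mem_iUnion₂.1 hz1
    obtain ⟨j, hj, hzj⟩ := Set.mem_iUnion₂.1 hz2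
    haveI := hCi i
    haveI := hCi j
    refine ⟨i, hi, j, hj, SurfInt.AffineBoundary.intNum_pos (k := k) hdim hreg (C i) (hCd i)
      (Fundamental.isEff (k := k) hdim (hCd j)) (fun hsub' => ?_) ⟨z, hzi, hzj⟩⟩
    exact Finset.mem_compl.1 hj
      (hinj (eq_of_gen_mem (k := k) hdim (C i) (C j) (hCd i) (hCd j) (hsub' (gen_mem (C i)))) ▸ hi)
  -- `A · B = -A²`
  have hexp : FGA.intNum k X 2 ![_root_.ClSub.idealMod IA, _root_.ClSub.idealMod IB]
      (Coh.structureModule X) = - ∑ i, ∑ j, (α i : ℤ) * (α j : ℤ) * G i j := by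
    rw [hnA _ (SurfInt.Effective.isInvertible_idealMod hIB), ← Finset.sum_neg_distrib]
    refine Finset.sum_congr rfl fun i _ => ?_
    rw [Snapper.IntNum.intNum_pair_comm, hnB _ (hinv i), Finset.mul_sum, eq_neg_iff_add_eq_zero,
      ← Finset.sum_add_distrib]
    refine Eq.trans ?_ ((congrArg ((α i : ℤ) * ·) (hker i)).trans (mul_zero _))
    rw [Finset.mul_sum]
    refine Finset.sum_congr rfl fun j _ => ?_
    rw [hsym i j]
    simp only [G, e, Nat.cast_add]
    ring
  exact ⟨t.card, C, α, β, G, hCt, hall, hα, hβ, hE, he, hnB, hsym,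
    SurfInt.NegDef.offDiag hfin hdim hreg C hinj hCi hCd, hker, hconn', hexp⟩

/-- A primitive divisor with connected support, a multiple of which is cut out by a function, is
one-connected. -/
theorem one_le_intNum {IE IA IB : X.IdealSheafData} {m : ℕ} (hm : 1 ≤ m)
    (hIE : BlowUp.IsEffCartierIdeal IE) {W : X.Opens} (g : Γ(X, W)) (hg : g ≠ 0)
    (hW : (IE.support : Set X) ⊆ W)
    (hst : ∀ (y : X) (_ : y ∈ IE.support) (hy : y ∈ W),
      stalkIdeal (IE ^ m) y = _root_.Ideal.span {X.presheaf.germ W y hy g})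
    (hconn : _root_.IsPreconnected (IE.support : Set X))
    (hprim : ∀ n : ℕ, 2 ≤ n → ∀ J : X.IdealSheafData, BlowUp.IsEffCartierIdeal J → J ^ n ≠ IE)
    (hA : IA ≠ ⊤) (hB : IB ≠ ⊤) (hAB : IA * IB = IE) :
    1 ≤ FGA.intNum k X 2 ![_root_.ClSub.idealMod IA, _root_.ClSub.idealMod IB]
      (Coh.structureModule X) := by
  classical
  obtain ⟨r, C, α, β, G, hCt, hall, hα, hβ, hE, he, -, hsym, hoff, hker, hconn', hexp⟩ :=
    exists_factor_config (k := k) hdim hm hIE g hg hW hst hconn hAB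
  let e : Fin r → ℕ := fun i => α i + β i
  by_contra hlt
  have hq : 0 ≤ ∑ i, ∑ j, (α i : ℤ) * (α j : ℤ) * G i j := by omega
  obtain ⟨i₀, hi₀⟩ : ∃ i, α i ≠ 0 := by
    by_contra h
    push Not at h
    exact hA (hα.trans (Finset.prod_eq_one fun j _ => by rw [h j, pow_zero]))
  have hprop := quad_neg_or_prop G hsym hoff e he
    hker hconn' (fun i => (α i : ℤ)) i₀ hq
  have hprop' : ∀ j, e i₀ * α j = α i₀ * e j := fun j => by exact_mod_cast hprop j
  obtain ⟨n, c, hcop, hn, hc⟩ := Nat.exists_coprime (e i₀) (α i₀)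
  set d := Nat.gcd (e i₀) (α i₀) with hddef
  have hd0 : 0 < d := Nat.gcd_pos_of_pos_left _ (he i₀)
  have hdiv : ∀ j, n ∣ e j := fun j => by
    refine hcop.dvd_of_dvd_mul_left ⟨α j, ?_⟩
    refine Nat.eq_of_mul_eq_mul_right hd0 ?_
    calc c * e j * d = α i₀ * e j := by rw [hc]; ring
      _ = e i₀ * α j := (hprop' j).symm
      _ = n * α j * d := by rw [hn]; ring
  rcases lt_or_ge n 2 with hn2 | hn2
  · have h1 : e i₀ = d := by
      have : n ≠ 0 := fun h0 => (he i₀).ne' (by show e i₀ = 0; rw [hn, h0, zero_mul])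
      rw [hn, show n = 1 by omega, one_mul]
    have hcd : α i₀ ≤ d := h1 ▸ Nat.le_add_right _ _
    have hc1 : c = 1 := by
      have h3 : c ≠ 0 := fun h0 => hi₀ (by rw [hc, h0, zero_mul])
      have h4 : c * d ≤ 1 * d := by rw [one_mul, ← hc]; exact hcd
      have := Nat.le_of_mul_le_mul_right h4 hd0
      omega
    refine hB (hβ.trans (Finset.prod_eq_one fun j _ => ?_))
    have h5 := hprop' j
    rw [h1, hc, hc1, one_mul] at h5
    have := Nat.eq_of_mul_eq_mul_left hd0 h5
    simp only [e] at this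
    rw [show β j = 0 by omega, pow_zero]
  · refine hprim n hn2 (∏ j, C j ^ (e j / n)) (isEffCartier_prod C (fun j => by
      haveI := (hCt j).1
      exact Fundamental.isEff (k := k) hdim (hCt j).2.1) _) ?_
    rw [← Finset.prod_pow, hE]
    exact Finset.prod_congr rfl fun j _ => by rw [← pow_mul, Nat.div_mul_cancel (hdiv j)]

end Groth.Agent.Lib.SurfRR.Fibre
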