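import Groth.Agent.Lib.SurfRR.Fibre
import Groth.Agent.Lib.Cyc.Dev.Scheme
import Groth.Agent.Lib.ModelFibre.EulerStep

/-!
# Homomorphisms into the structure sheaf of a multiple fibre
-/

set_option autoImplicit false
set_option linter.style.haveILetI false
universe u

open CategoryTheory CategoryTheory.Limits AlgebraicGeometry TopologicalSpace Opposite

noncomputable section

namespace Groth.Agent.Lib.SurfRR.FibreVanish

open Groth.Agent.Lib Groth.Agent.Lib.TensorMod.Basic
open Groth.Agent.Lib.Ideal.Prime (stalkIdeal stalkIdeal_eq gen gen_mem gen_specializes)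
open Groth.Agent.Lib.SurfRR.Ramanujam (le_of_mul_left le_of_mul_right)

/-- A semidefinite form is nonpositive. -/
theorem quad_nonpos {r : ℕ} (G : Fin r → Fin r → ℤ) (hsym : ∀ i j, G i j = G j i)
    (hoff : ∀ i j, i ≠ j → 0 ≤ G i j) (e : Fin r → ℕ) (he : ∀ i, 0 < e i)
    (hker : ∀ i, ∑ j, G i j * (e j : ℤ) = 0)
    (hconn : ∀ S : Finset (Fin r), S.Nonempty → Sᶜ.Nonempty → ∃ i ∈ S, ∃ j ∈ Sᶜ, 0 < G i j)
    (a : Fin r → ℤ) : ∑ i, ∑ j, a i * a j * G i j ≤ 0 := by
  by_contra hq
  push Not at hq
  rcases Nat.eq_zero_or_pos r with rfl | hr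
  · simp at hq
  let i₀ : Fin r := ⟨0, hr⟩
  have hprop := Fibre.quad_neg_or_prop G hsym hoff e he hker hconn a i₀ hq.le
  have h0 : (e i₀ : ℤ) ^ 2 * ∑ i, ∑ j, a i * a j * G i j = 0 := by
    rw [Finset.mul_sum]
    refine Finset.sum_eq_zero fun i _ => ?_
    refine Eq.trans ?_ ((congrArg ((e i₀ : ℤ) * a i * a i₀ * ·) (hker i)).trans (mul_zero _))
    rw [Finset.mul_sum, Finset.mul_sum]
    refine Finset.sum_congr rfl fun j _ => ?_
    calc (e i₀ : ℤ) ^ 2 * (a i * a j * G i j) = (e i₀ : ℤ) * a i * ((e i₀ : ℤ) * a j) * G i j := by ring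
      _ = (e i₀ : ℤ) * a i * a i₀ * (G i j * (e j : ℤ)) := by rw [hprop j]; ring
  rcases mul_eq_zero.1 h0 with h | h
  · exact (he i₀).ne' (by exact_mod_cast pow_eq_zero_iff two_ne_zero |>.1 h)
  · omega

variable {X : Scheme.{u}}

/-- A morphism between modules is zero if it becomes zero after twisting by an invertible module. -/
theorem eq_zero_of_dual {N : X.Modules} (hN : PicF.IsInvertible N) {L : X.Modules}
    (e : CohB1.tensorMod N L ≅ Coh.structureModule X)
    (h : ∀ u : L ⟶ Coh.structureModule X, u = 0) (s : Coh.structureModule X ⟶ N) : s = 0 := by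
  have h1 : tmap (𝟙 L) s = 0 := by
    have h0 := h ((rightUnit L).inv ≫ tmap (𝟙 L) s ≫ (comm L N ≪≫ e).hom)
    rw [← cancel_epi (rightUnit L).inv, ← cancel_mono (comm L N ≪≫ e).hom, Category.assoc, h0]
    simp
  have h2 : tmap (𝟙 N) (tmap (𝟙 L) s) = 0 := by
    rw [h1]
    exact ((tensorFunctor X).obj N).map_zero _ _
  have h3 : tmap (𝟙 (CohB1.tensorMod N L)) s = 0 := by
    have h4 := assoc_natural (𝟙 N) (𝟙 L) s
    rw [h2, comp_zero, tmap_id] at h4
    exact (cancel_mono _).1 (h4.trans zero_comp.symm)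
  have h5 : tmap (𝟙 (Coh.structureModule X)) s = 0 := by
    have h6 : tmap e.hom (𝟙 _) ≫ tmap (𝟙 (Coh.structureModule X)) s =
        tmap (𝟙 (CohB1.tensorMod N L)) s ≫ tmap e.hom (𝟙 _) := by
      rw [← tmap_comp, ← tmap_comp, Category.comp_id, Category.id_comp, Category.comp_id, Category.id_comp]
    rw [h3, zero_comp] at h6
    haveI : IsIso (tmap e.hom (𝟙 (Coh.structureModule X))) :=
      inferInstanceAs (IsIso (tensorIso e (Iso.refl _)).hom)
    exact (cancel_epi _).1 (h6.trans comp_zero.symm)
  have h7 := leftUnit_natural s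
  rw [h5, zero_comp] at h7
  exact (cancel_epi (leftUnit (Coh.structureModule X)).hom).1 (h7.symm.trans comp_zero.symm)

variable {k : Type u} [Field k] [IsAlgClosed k] [IsIntegral X] [X.Over (Spec (CommRingCat.of k))]
  [IsProper (X ↘ Spec (CommRingCat.of k))] [Smooth (X ↘ Spec (CommRingCat.of k))]
  [AlgebraicGeometry.IsNoetherian X] (hdim : topologicalKrullDim X = 2)

include k hdim

/-- A nonzero map from a module on a thickening to a twisted curve bounds the degree. -/
theorem intNum_le_neg_deg {D : Scheme.{u}} (ιD : D ⟶ X) [IsClosedImmersion ιD] {L : D.Modules}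
    (hL : PicF.IsInvertible L) (C : X.IdealSheafData) [IsIntegral C.subscheme]
    (hCd : topologicalKrullDim (C.support : Set X) = 1) (hle : ιD.ker ≤ C.subschemeι.ker)
    {M : X.Modules} (hM : PicF.IsInvertible M)
    (v : (Coh.push ιD).obj L ⟶ CohB1.tensorMod M (_root_.ClSub.quotMod C)) (hv : v ≠ 0) :
    letI := SurfInt.Surface.overSub (k := k) C
    FGA.intNum k X 2 ![_root_.ClSub.idealMod C, M] (Coh.structureModule X) ≤
      - Curv2.deg k C.subscheme
          ((Scheme.Modules.pullback (IsClosedImmersion.lift ιD C.subschemeι hle)).obj L) 1 := by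
  letI := SurfInt.Surface.overSub (k := k) C
  haveI : IsProper (C.subscheme ↘ Spec (CommRingCat.of k)) :=
    inferInstanceAs (IsProper (C.subschemeι ≫ (X ↘ Spec (CommRingCat.of k))))
  set j := IsClosedImmersion.lift ιD C.subschemeι hle with hj
  have hjι : j ≫ ιD = C.subschemeι := IsClosedImmersion.lift_fac _ _ _
  set P := (Scheme.Modules.pullback C.subschemeι).obj M
  let α : CohB1.tensorMod M (_root_.ClSub.quotMod C) ≅ (Coh.push ιD).obj ((Coh.push j).obj P) :=
    Ramanujam.quotPush hM C ≪≫ (Scheme.Modules.pushforwardCongr hjι.symm).app P ≪≫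
      ((Scheme.Modules.pushforwardComp j ιD).symm).app P
  let adjD := Scheme.Modules.pullbackPushforwardAdjunction ιD
  haveI : ∀ N, IsIso (adjD.counit.app N) := fun N => Cyc.Dev.SchemeCase.isIso_counit ιD N
  haveI : IsIso adjD.counit := NatIso.isIso_of_isIso_app _
  let ff : (Scheme.Modules.pushforward ιD).FullyFaithful := adjD.fullyFaithfulROfIsIsoCounit
  let w : L ⟶ (Coh.push j).obj P := ff.preimage (v ≫ α.hom)
  have hw : (Coh.push ιD).map w = v ≫ α.hom := ff.map_preimage _
  let φ := ((Scheme.Modules.pullbackPushforwardAdjunction j).homEquiv L P).symm w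
  have hφ : φ ≠ 0 := fun h0 => hv (by
    have h1 : w = 0 := by
      have h2 := congrArg ((Scheme.Modules.pullbackPushforwardAdjunction j).homEquiv L P) h0
      rw [Equiv.apply_symm_apply] at h2
      rw [h2, Adjunction.homEquiv_unit, Functor.map_zero, comp_zero]
    rw [← cancel_mono α.hom, ← hw, h1, zero_comp, Functor.map_zero])
  haveI := Curves.GlobalSections.noetherianSpace_of_proper k C.subscheme
  have hd := ((SurfInt.Surface.dim_subscheme C).trans hCd).le
  have hP := PicLoc.isInvertible_pullback C.subschemeι hM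
  have hL' := PicLoc.isInvertible_pullback j hL
  have h1 := Curves.Positivity.deg_le_of_ne_zero hd hL' hP (Curves.Degree.isGood (k := k) hd hL')
    (Curves.Degree.isGood (k := k) hd hP) hφ
  rw [Minimal.intNum_eq hdim C hCd hM,
    Curves.Euler.euler_eq_of_iso (comm (_root_.ClSub.quotMod C) M),
    SurfInt.Surface.euler_twist_quot C hM, SurfInt.Surface.euler_quot]
  simp only [Curv2.deg] at h1 ⊢
  push_cast at h1 ⊢
  omega

/-- No nonzero map from `G` into the structure sheaf of a multiple fibre, given degree bounds. -/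
theorem hom_eq_zero {Z : X.IdealSheafData} (hZ : BlowUp.IsEffCartierIdeal Z) {W : X.Opens}
    (g : Γ(X, W)) (hg : g ≠ 0) (hW : (Z.support : Set X) ⊆ W)
    (hst : ∀ (y : X) (_ : y ∈ Z.support) (hy : y ∈ W),
      stalkIdeal Z y = _root_.Ideal.span {X.presheaf.germ W y hy g})
    (hconn : _root_.IsPreconnected (Z.support : Set X)) {G : X.Modules}
    (δ : X.IdealSheafData → ℤ)
    (hcrit : ∀ (C : X.IdealSheafData) [IsIntegral C.subscheme],
      topologicalKrullDim (C.support : Set X) = 1 → Z ≤ C → ∀ M : X.Modules, PicF.IsInvertible M →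
      ∀ v : G ⟶ CohB1.tensorMod M (_root_.ClSub.quotMod C), v ≠ 0 →
      FGA.intNum k X 2 ![_root_.ClSub.idealMod C, M] (Coh.structureModule X) ≤ δ C)
    (hδ0 : ∀ (C : X.IdealSheafData) [IsIntegral C.subscheme],
      topologicalKrullDim (C.support : Set X) = 1 → Z ≤ C → δ C ≤ 0)
    (hne : ∃ (C : X.IdealSheafData) (_ : IsIntegral C.subscheme),
      topologicalKrullDim (C.support : Set X) = 1 ∧ (C.support : Set X) ⊆ Z.support ∧ δ C < 0)
    (v : G ⟶ _root_.ClSub.quotMod Z) : v = 0 := by
  classical
  have hfin := Snapper.Finite.cohFinite k X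
  have hreg := SurfInt.NegDef.regular_of_smooth (k := k) (X := X)
  have hd : topologicalKrullDim X ≤ 2 := hdim.le
  have hO := PicLoc.isInvertible_structureModule X
  suffices key : ∀ (F A : X.IdealSheafData), BlowUp.IsEffCartierIdeal F →
      BlowUp.IsEffCartierIdeal A → A * F = Z → ∀ M : X.Modules, PicF.IsInvertible M →
      (∀ B : X.IdealSheafData, BlowUp.IsEffCartierIdeal B →
        FGA.intNum k X 2 ![_root_.ClSub.idealMod B, M] (Coh.structureModule X) =
          FGA.intNum k X 2 ![_root_.ClSub.idealMod B, _root_.ClSub.idealMod A] (Coh.structureModule X)) →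
      ∀ u : G ⟶ CohB1.tensorMod M (_root_.ClSub.quotMod F), u = 0 by
    have h := key Z ⊤ hZ Ideal.EffCartier.isEffCartier_top (one_mul Z) _ hO (fun B hB => by
      have hBi := SurfInt.Effective.isInvertible_idealMod hB
      have h2 := Snapper.IntNum.intNum_pair_tensor_left hfin hd hO hO hBi
        (Snapper.Twist.isCoh_structureModule X)
      rw [SurfInt.NegDef.intNum_congr_left (leftUnit (Coh.structureModule X))] at h2
      rw [Snapper.IntNum.intNum_pair_comm (_root_.ClSub.idealMod B) (_root_.ClSub.idealMod ⊤),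
        SurfInt.NegDef.intNum_top hfin hdim hBi, Snapper.IntNum.intNum_pair_comm]
      linarith) (v ≫ (leftUnit (_root_.ClSub.quotMod Z)).inv)
    rw [← cancel_mono (leftUnit (_root_.ClSub.quotMod Z)).inv, h, zero_comp]
  intro F
  haveI := FinCond.wellFoundedGT_idealSheafData (X := X)
  induction F using (inferInstance : WellFoundedGT X.IdealSheafData).wf.induction with
  | _ F ih =>
    intro A hF hA hAF M hM hnum u
    by_cases hF0 : F = ⊤
    · subst hF0
      have h0 : (𝟙 (CohB1.tensorMod M (_root_.ClSub.quotMod (⊤ : X.IdealSheafData)))) = 0 := by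
        rw [← tmap_id, ModelFibre.EulerStep.id_quotMod_top]
        exact ((tensorFunctor X).obj M).map_zero _ _
      rw [← Category.comp_id u, h0, comp_zero]
    have hZF : Z ≤ F := le_of_mul_right hAF
    by_cases hex : ∃ (C : X.IdealSheafData) (_ : IsIntegral C.subscheme),
        topologicalKrullDim (C.support : Set X) = 1 ∧ F ≤ C ∧
        ∀ w : G ⟶ CohB1.tensorMod M (_root_.ClSub.quotMod C), w = 0
    · obtain ⟨C, hint, hCd, hFC, hC0⟩ := hex
      haveI := hint
      obtain ⟨F', hF', hmul, hlt⟩ := SurfInt.Mul.exists_residual (X ↘ Spec (CommRingCat.of k)) hdim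
        hreg hF C hCd (Scheme.IdealSheafData.support_antitone hFC)
      have hCE := Fundamental.isEff (k := k) hdim hCd
      have hCi := SurfInt.Effective.isInvertible_idealMod hCE
      subst hmul
      obtain ⟨f, π, w, -, hseq⟩ := MulSeq.exists_seq hCE hF'
      have hh := MulSeq.twist_shortExact hM hseq
      obtain ⟨l, hl⟩ := KernelFork.IsLimit.lift' hh.fIsKernel u (hC0 _)
      have hl0 : l ≫ (Ramanujam.regroup M (_root_.ClSub.idealMod C) (_root_.ClSub.quotMod F')).hom = 0 :=
        ih F' hlt (A * C) hF' (Ideal.EffCartier.isEffCartier_mul hA hCE)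
          (by rw [mul_assoc, hAF]) _ (TensorMod.Invertible.isInvertible_tensorMod hM hCi)
          (fun B hB => by
            have hBi := SurfInt.Effective.isInvertible_idealMod hB
            rw [Snapper.IntNum.intNum_pair_comm,
              Snapper.IntNum.intNum_pair_tensor_left hfin hd hM hCi hBi (Snapper.Twist.isCoh_structureModule X),
              Snapper.IntNum.intNum_pair_comm M, hnum B hB,
              Snapper.IntNum.intNum_pair_comm (_root_.ClSub.idealMod B) (_root_.ClSub.idealMod (A * C)),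
              SurfInt.NegDef.intNum_mul hfin hdim hA hCE hBi,
              Snapper.IntNum.intNum_pair_comm (_root_.ClSub.idealMod B)]) _
      have hl1 : l = 0 := by
        rw [← cancel_mono (Ramanujam.regroup M (_root_.ClSub.idealMod C) (_root_.ClSub.quotMod F')).hom,
          hl0, zero_comp]
      rw [← hl, hl1]
      exact zero_comp
    · exfalso
      push Not at hex
      obtain ⟨r, C, α, β, Gm, hCt, hall, -, hβ, -, he, hnF, hsym, hoff, hker, hconn', hexp⟩ :=
        Fibre.exists_factor_config (k := k) hdim (le_refl 1) hZ g hg hW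
          (fun y hy hyW => by rw [pow_one]; exact hst y hy hyW) hconn hAF
      have hb : ∀ j, 0 < β j → (β j : ℤ) * FGA.intNum k X 2
          ![_root_.ClSub.idealMod (C j), _root_.ClSub.idealMod A] (Coh.structureModule X) ≤
            (β j : ℤ) * δ (C j) ∧ δ (C j) ≤ 0 := by
        intro j hj
        haveI := (hCt j).1
        have hFC : F ≤ C j := by
          rw [hβ, ← Finset.mul_prod_erase _ _ (Finset.mem_univ j)]
          obtain ⟨n, hn⟩ : ∃ n, β j = n + 1 := ⟨β j - 1, by omega⟩
          rw [hn, pow_succ', mul_assoc]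
          exact le_of_mul_left rfl
        obtain ⟨w, hw⟩ := hex (C j) (hCt j).1 (hCt j).2.1 hFC
        refine ⟨mul_le_mul_of_nonneg_left ?_ (Int.natCast_nonneg _),
          hδ0 (C j) (hCt j).2.1 (hZF.trans hFC)⟩
        rw [← hnum _ (Fundamental.isEff (k := k) hdim (hCt j).2.1)]
        exact hcrit (C j) (hCt j).2.1 (hZF.trans hFC) M hM w hw
      have hterm : ∀ j, (β j : ℤ) * FGA.intNum k X 2
          ![_root_.ClSub.idealMod (C j), _root_.ClSub.idealMod A] (Coh.structureModule X) ≤
            (β j : ℤ) * δ (C j) ∧ (β j : ℤ) * δ (C j) ≤ 0 := by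
        intro j
        rcases Nat.eq_zero_or_pos (β j) with h | h
        · simp [h]
        · exact ⟨(hb j h).1, mul_nonpos_of_nonneg_of_nonpos (Int.natCast_nonneg _) (hb j h).2⟩
      have hq := quad_nonpos Gm hsym hoff (fun j => α j + β j) he hker hconn' (fun i => (α i : ℤ))
      rw [Snapper.IntNum.intNum_pair_comm, hnF _ (SurfInt.Effective.isInvertible_idealMod hA)] at hexp
      have h1 := Finset.sum_le_sum fun j (_ : j ∈ Finset.univ) => (hterm j).1
      have h2 : ∑ j, (β j : ℤ) * δ (C j) ≤ 0 := Finset.sum_nonpos fun j _ => (hterm j).2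
      have hS : ∑ j, (β j : ℤ) * δ (C j) = 0 := by omega
      have hS' := (Finset.sum_eq_zero_iff_of_nonpos fun j _ => (hterm j).2).1 hS
      obtain ⟨C₀, hint₀, hd₀, hsub₀, hlt₀⟩ := hne
      obtain ⟨j₀, rfl⟩ := hall C₀ hd₀ hsub₀
      have hβ0 : β j₀ = 0 := by
        have := (mul_eq_zero.1 (hS' j₀ (Finset.mem_univ _))).resolve_right hlt₀.ne
        exact_mod_cast this
      have hprop := Fibre.quad_neg_or_prop Gm hsym hoff (fun j => α j + β j) he hker hconn'
        (fun i => (α i : ℤ)) j₀ (by omega)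
      refine hF0 (hβ.trans (Finset.prod_eq_one fun j _ => ?_))
      have h3 := hprop j
      simp only [hβ0, add_zero, Nat.cast_add] at h3
      have hα0 : (α j₀ : ℤ) ≠ 0 := by
        have : 0 < α j₀ + β j₀ := he j₀
        omega
      have h4 := mul_left_cancel₀ hα0 h3
      rw [show β j = 0 by omega, pow_zero]

end Groth.Agent.Lib.SurfRR.FibreVanish
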