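import Groth.Agent.Lib.SurfRR.Ramanujam

/-!
# Fundamental cycles and Artin's criterion
-/

set_option autoImplicit false
set_option linter.style.haveILetI false
universe u

open CategoryTheory CategoryTheory.Limits AlgebraicGeometry TopologicalSpace

noncomputable section

namespace Groth.Agent.Lib.SurfRR.Fundamental

open Groth.Agent.Lib Groth.Agent.Lib.TensorMod.Basic
open Groth.Agent.Lib.Curves.LES (mapK exactK₁ exactK₂ isoK)
open Groth.Agent.Lib.SurfRR.Ramanujam (le_of_mul_left le_of_mul_right)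

/-- A divisor contains a power of a divisor with larger support. -/
theorem exists_pow_le {X : Scheme.{u}} [AlgebraicGeometry.IsNoetherian X] {I J : X.IdealSheafData}
    (h : J.support ≤ I.support) : ∃ n : ℕ, I ^ (n + 1) ≤ J := by
  have hle : I ≤ J.radical := by
    rw [← Scheme.IdealSheafData.vanishingIdeal_support]
    exact Scheme.IdealSheafData.le_support_iff_le_vanishingIdeal.1 h
  obtain ⟨t, ht⟩ := isCompact_univ.elim_finite_subcover (fun U : X.affineOpens => (U.1 : Set X))
    (fun U => U.1.2) (fun x _ => by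
      obtain ⟨U, hU, hxU, -⟩ := exists_isAffineOpen_mem_and_subset (show x ∈ (⊤ : X.Opens) from trivial)
      exact Set.mem_iUnion.2 ⟨⟨U, hU⟩, hxU⟩)
  have hex : ∀ U : X.affineOpens, ∃ n : ℕ, I.ideal U ^ n ≤ J.ideal U := fun U => by
    haveI : IsNoetherianRing Γ(X, U.1) := IsLocallyNoetherian.component_noetherian U
    exact _root_.Ideal.exists_pow_le_of_le_radical_of_fg (hle U) (IsNoetherian.noetherian _)
  choose n hn using hex
  refine ⟨t.sup n, Scheme.IdealSheafData.le_of_iSup_eq_top (fun U : t => U.1) ?_ fun U => ?_⟩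
  · refine top_le_iff.1 fun x _ => Opens.mem_iSup.2 ?_
    obtain ⟨U, hUt, hxU⟩ := Set.mem_iUnion₂.1 (ht (Set.mem_univ x))
    exact ⟨⟨U, hUt⟩, hxU⟩
  · rw [Scheme.IdealSheafData.ideal_pow, Pi.pow_apply]
    exact (_root_.Ideal.pow_le_pow_right ((Finset.le_sup U.2).trans (Nat.le_succ _))).trans (hn _)

variable {k : Type u} [Field k] {X : Scheme.{u}} [X.Over (Spec (CommRingCat.of k))]

include k in
theorem subsingleton_h1_of_ses {S : ShortComplex X.Modules} (hS : S.ShortExact)
    (h₁ : Subsingleton (Coh.HH X S.X₁ 1)) (h₃ : Subsingleton (Coh.HH X S.X₃ 1)) :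
    Subsingleton (Coh.HH X S.X₂ 1) :=
  subsingleton_of_forall_eq 0 fun y => by
    obtain ⟨z, rfl⟩ := (exactK₂ k hS 1 y).1 (@Subsingleton.elim _ h₃ _ _)
    rw [@Subsingleton.elim _ h₁ z 0, map_zero]

include k in
theorem subsingleton_h1_X₃ {S : ShortComplex X.Modules} (hS : S.ShortExact)
    (h₂ : Subsingleton (Coh.HH X S.X₂ 1)) (h₁ : Subsingleton (Coh.HH X S.X₁ 2)) :
    Subsingleton (Coh.HH X S.X₃ 1) :=
  subsingleton_of_forall_eq 0 fun y => by
    obtain ⟨z, rfl⟩ := (Curves.LES.exactK₃ k hS 1 2 rfl y).1 (@Subsingleton.elim _ h₁ _ _)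
    rw [@Subsingleton.elim _ h₂ z 0, map_zero]

include k in
theorem subsingleton_h1_mid {A B C : X.Modules} {f : A ⟶ B} {g : B ⟶ C} {w : f ≫ g = 0}
    (hS : (ShortComplex.mk f g w).ShortExact) (h₁ : Subsingleton (Coh.HH X A 1))
    (h₃ : Subsingleton (Coh.HH X C 1)) : Subsingleton (Coh.HH X B 1) :=
  subsingleton_h1_of_ses (k := k) hS h₁ h₃

include k in
theorem subsingleton_h1_right {A B C : X.Modules} {f : A ⟶ B} {g : B ⟶ C} {w : f ≫ g = 0}
    (hS : (ShortComplex.mk f g w).ShortExact) (h₂ : Subsingleton (Coh.HH X B 1))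
    (h₁ : Subsingleton (Coh.HH X A 2)) : Subsingleton (Coh.HH X C 1) :=
  subsingleton_h1_X₃ (k := k) hS h₂ h₁

variable [IsAlgClosed k] [IsProper (X ↘ Spec (CommRingCat.of k))]
  [Smooth (X ↘ Spec (CommRingCat.of k))] [IsIntegral X] [AlgebraicGeometry.IsNoetherian X]
  (hdim : topologicalKrullDim X = 2)

include k hdim

theorem isEff {C : X.IdealSheafData} [IsIntegral C.subscheme]
    (hCd : topologicalKrullDim (C.support : Set X) = 1) : BlowUp.IsEffCartierIdeal C :=
  SurfInt.NegDef.isEff (k := k) (Snapper.Finite.cohFinite k X) hdim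
    (SurfInt.NegDef.regular_of_smooth (k := k)) C hCd

theorem ne_top {C : X.IdealSheafData} (hCd : topologicalKrullDim (C.support : Set X) = 1) :
    C ≠ ⊤ := by
  clear hdim
  rintro rfl
  rw [Scheme.IdealSheafData.support_top] at hCd
  have : IsEmpty ((⊥ : Closeds X) : Set X) := Set.isEmpty_coe_sort.2 rfl
  haveI : IsEmpty (IrreducibleCloseds ((⊥ : Closeds X) : Set X)) :=
    ⟨fun Z => isEmptyElim Z.isIrreducible.nonempty.some⟩
  exact WithBot.bot_ne_one ((Order.krullDim_eq_bot
    (α := IrreducibleCloseds ((⊥ : Closeds X) : Set X))).symm.trans hCd)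

/-- A curve meets an effective divisor not containing it nonnegatively. -/
theorem intNum_nonneg {C : X.IdealSheafData} [IsIntegral C.subscheme]
    (hCd : topologicalKrullDim (C.support : Set X) = 1) {A : X.IdealSheafData}
    (hA : BlowUp.IsEffCartierIdeal A) (hCA : ¬ A ≤ C) :
    0 ≤ FGA.intNum k X 2 ![_root_.ClSub.idealMod C, _root_.ClSub.idealMod A]
      (Coh.structureModule X) := by
  refine SurfInt.Surface.intNum_nonneg (Snapper.Finite.cohFinite k X) hdim
    (SurfInt.NegDef.regular_of_smooth (k := k)) C hCd hA fun hsub => hCA ?_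
  obtain ⟨A', -, hmul, -⟩ := SurfInt.Mul.exists_residual (X ↘ Spec (CommRingCat.of k)) hdim
    (SurfInt.NegDef.regular_of_smooth (k := k)) hA C hCd hsub
  exact le_of_mul_left hmul

/-- `(A·L^n) = n (A·L)`. -/
theorem intNum_tensorPow {A L : X.Modules} (hA : PicF.IsInvertible A) (hL : PicF.IsInvertible L) :
    ∀ n : ℕ, FGA.intNum k X 2 ![A, CohB1.tensorPow L n] (Coh.structureModule X) =
      (n : ℤ) * FGA.intNum k X 2 ![A, L] (Coh.structureModule X)
  | 0 => by
    have hfin := Snapper.Finite.cohFinite k X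
    have hO := PicLoc.isInvertible_structureModule X
    have h := Snapper.IntNum.intNum_pair_inverse hfin hdim.le hO hO (leftUnit (Coh.structureModule X))
      hA (Snapper.Twist.isCoh_structureModule X)
    rw [Snapper.IntNum.intNum_pair_comm,
      show CohB1.tensorPow L 0 = Coh.structureModule X from rfl]
    push_cast
    linarith
  | n + 1 => by
    rw [show CohB1.tensorPow L (n + 1) = CohB1.tensorMod (CohB1.tensorPow L n) L from rfl,
      Snapper.IntNum.intNum_pair_comm, Snapper.IntNum.intNum_pair_tensor_left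
        (Snapper.Finite.cohFinite k X) hdim.le
        (TensorMod.Invertible.isInvertible_tensorPow hL n) hL hA (Snapper.Twist.isCoh_structureModule X),
      Snapper.IntNum.intNum_pair_comm (CohB1.tensorPow L n), intNum_tensorPow hA hL n,
      Snapper.IntNum.intNum_pair_comm L]
    push_cast
    ring

variable {Z₀ : X.IdealSheafData} (hZ₀ : BlowUp.IsEffCartierIdeal Z₀) (hZ₀0 : Z₀ ≠ ⊤)
  (hnef : ∀ C : X.IdealSheafData, IsIntegral C.subscheme →
    topologicalKrullDim (C.support : Set X) = 1 → Z₀ ≤ C →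
    FGA.intNum k X 2 ![_root_.ClSub.idealMod C, _root_.ClSub.idealMod Z₀] (Coh.structureModule X) ≤ 0)
  (hmin : ∀ Y : X.IdealSheafData, BlowUp.IsEffCartierIdeal Y → Y ≠ ⊤ → Z₀ ≤ Y → Y ≠ Z₀ →
    ∃ (C : X.IdealSheafData) (_ : IsIntegral C.subscheme),
      topologicalKrullDim (C.support : Set X) = 1 ∧ Z₀ ≤ C ∧
      0 < FGA.intNum k X 2 ![_root_.ClSub.idealMod C, _root_.ClSub.idealMod Y] (Coh.structureModule X))

include hZ₀ hZ₀0 hnef hmin

/-- Induction along a computation sequence of the fundamental cycle. -/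
theorem induction {Q : X.IdealSheafData → Prop}
    (init : ∀ C : X.IdealSheafData, IsIntegral C.subscheme →
      topologicalKrullDim (C.support : Set X) = 1 → Z₀ ≤ C → Q C)
    (step : ∀ Y C : X.IdealSheafData, BlowUp.IsEffCartierIdeal Y → IsIntegral C.subscheme →
      topologicalKrullDim (C.support : Set X) = 1 → Z₀ ≤ C →
      0 < FGA.intNum k X 2 ![_root_.ClSub.idealMod C, _root_.ClSub.idealMod Y] (Coh.structureModule X) →
      Q Y → Q (Y * C)) : Q Z₀ := by
  have hfin := Snapper.Finite.cohFinite k X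
  have hreg := SurfInt.NegDef.regular_of_smooth (k := k) (X := X)
  haveI := FinCond.wellFoundedGT_idealSheafData (X := X)
  suffices key : ∀ A Y : X.IdealSheafData, BlowUp.IsEffCartierIdeal A → BlowUp.IsEffCartierIdeal Y →
      Y ≠ ⊤ → Y * A = Z₀ → Q Y → Q Z₀ by
    obtain ⟨C, hint, hCd, hsub⟩ :=
      SurfInt.Mul.exists_curve (X ↘ Spec (CommRingCat.of k)) hdim hreg hZ₀ hZ₀0
    haveI := hint
    obtain ⟨A, hA, hmul, -⟩ :=
      SurfInt.Mul.exists_residual (X ↘ Spec (CommRingCat.of k)) hdim hreg hZ₀ C hCd hsub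
    exact key A C hA (isEff (k := k) hdim hCd) (ne_top (k := k) hdim hCd) hmul
      (init C hint hCd (le_of_mul_left hmul))
  intro A
  induction A using (inferInstance : WellFoundedGT X.IdealSheafData).wf.induction with
  | _ A ih =>
    intro Y hA hY hY0 hmul hQ
    by_cases hYZ : Y = Z₀
    · exact hYZ ▸ hQ
    obtain ⟨C, hint, hCd, hZC, hpos⟩ := hmin Y hY hY0 (le_of_mul_left hmul) hYZ
    haveI := hint
    have hCE := isEff (k := k) hdim hCd
    have hCi := SurfInt.Effective.isInvertible_idealMod hCE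
    have hneg : FGA.intNum k X 2 ![_root_.ClSub.idealMod C, _root_.ClSub.idealMod A]
        (Coh.structureModule X) < 0 := by
      have h1 := hnef C hint hCd hZC
      rw [← hmul, Snapper.IntNum.intNum_pair_comm, SurfInt.NegDef.intNum_mul hfin hdim hY hA hCi,
        Snapper.IntNum.intNum_pair_comm, Snapper.IntNum.intNum_pair_comm (_root_.ClSub.idealMod A)] at h1
      omega
    have hAC : A ≤ C := by
      by_contra hAC
      exact absurd (intNum_nonneg hdim hCd hA hAC) (not_le.2 hneg)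
    obtain ⟨A', hA', hmul', hlt⟩ := SurfInt.Mul.exists_residual (X ↘ Spec (CommRingCat.of k)) hdim
      hreg hA C hCd (Scheme.IdealSheafData.support_antitone hAC)
    refine ih A' hlt (Y * C) hA' (Groth.Agent.Lib.Ideal.EffCartier.isEffCartier_mul hY hCE)
      (fun h => hY0 (top_le_iff.1 (le_of_mul_left h))) (by rw [mul_assoc, hmul', hmul])
      (step Y C hY hint hCd hZC hpos hQ)

theorem finrank_h0_le_one : Module.finrank k (Coh.HH X (_root_.ClSub.quotMod Z₀) 0) ≤ 1 := by
  have hfin := Snapper.Finite.cohFinite k X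
  refine induction hdim hZ₀ hZ₀0 hnef hmin
    (Q := fun Y => Module.finrank k (Coh.HH X (_root_.ClSub.quotMod Y) 0) ≤ 1)
    (fun C hint hCd _ => ?_) fun Y C hY hint hCd _ hpos hQ => ?_
  · haveI := hint
    letI := SurfInt.Surface.overSub (k := k) C
    haveI : IsProper (C.subscheme ↘ Spec (CommRingCat.of k)) :=
      inferInstanceAs (IsProper (C.subschemeι ≫ (X ↘ Spec (CommRingCat.of k))))
    haveI := TensorMod.QCohInv.isQCoh_structureModule C.subscheme
    exact (le_of_eq ((SurfInt.Push.finrank_push C.subschemeι rfl (Coh.structureModule C.subscheme) 0).trans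
      (Curves.GlobalSections.finrank_h0_structure k C.subscheme)))
  · haveI := hint
    obtain ⟨f, π, w, -, hseq⟩ := MulSeq.exists_seq hY (isEff (k := k) hdim hCd)
    have h₁ : Subsingleton (Coh.HH X
        (CohB1.tensorMod (_root_.ClSub.idealMod Y) (_root_.ClSub.quotMod C)) 0) := by
      by_contra hns
      have := Ramanujam.intNum_nonpos_of_sections (k := k) hdim C hCd
        (SurfInt.Effective.isInvertible_idealMod hY) (not_subsingleton_iff_nontrivial.1 hns)
      omega
    haveI := hfin _ (SurfInt.Effective.isCoh_quotMod Y) 0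
    exact (LinearMap.finrank_le_finrank_of_injective (Ramanujam.injective_of_ses hseq h₁)).trans hQ

theorem euler_le_one_and (hχ : Curv2.euler k X (_root_.ClSub.quotMod Z₀) = 1)
    {M : X.Modules} (hM : PicF.IsInvertible M)
    (hdeg : ∀ C : X.IdealSheafData, IsIntegral C.subscheme →
      topologicalKrullDim (C.support : Set X) = 1 → Z₀ ≤ C →
      FGA.intNum k X 2 ![_root_.ClSub.idealMod C, M] (Coh.structureModule X) ≤ 0) :
    Subsingleton (Coh.HH X (CohB1.tensorMod M (_root_.ClSub.quotMod Z₀)) 1) := by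
  have hfin := Snapper.Finite.cohFinite k X
  have hd : topologicalKrullDim X ≤ ((2 : ℕ) : WithBot ℕ∞) := by exact_mod_cast hdim.le
  have hle : ∀ C : X.IdealSheafData, IsIntegral C.subscheme →
      topologicalKrullDim (C.support : Set X) = 1 → Curv2.euler k X (_root_.ClSub.quotMod C) ≤ 1 :=
    fun C hint hCd => by
      haveI := hint
      letI := SurfInt.Surface.overSub (k := k) C
      haveI : IsProper (C.subscheme ↘ Spec (CommRingCat.of k)) :=
        inferInstanceAs (IsProper (C.subschemeι ≫ (X ↘ Spec (CommRingCat.of k))))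
      rw [SurfInt.Surface.euler_quot, Curves.Degree.euler_structureModule (k := k)
        ((SurfInt.Surface.dim_subscheme C).trans hCd).le
        (Curves.GlobalSections.finrank_h0_structure k C.subscheme)]
      omega
  refine (induction hdim hZ₀ hZ₀0 hnef hmin
    (Q := fun Y => Curv2.euler k X (_root_.ClSub.quotMod Y) ≤ 1 ∧
      (Curv2.euler k X (_root_.ClSub.quotMod Y) = 1 →
        Subsingleton (Coh.HH X (CohB1.tensorMod M (_root_.ClSub.quotMod Y)) 1)))
    (fun C hint hCd hZC => ⟨hle C hint hCd, fun h1 => ?_⟩)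
    fun Y C hY hint hCd hZC hpos hQ => ?_).2 hχ
  · haveI := hint
    exact Cycles.subsingleton_h1_twist (k := k) hdim C hCd h1.ge hM ((hdeg C hint hCd hZC).trans zero_le_one)
  haveI := hint
  obtain ⟨f, π, w, -, hseq⟩ := MulSeq.exists_seq hY (isEff (k := k) hdim hCd)
  have hYi := SurfInt.Effective.isInvertible_idealMod hY
  have hadd := SurfInt.Effective.chi_ses hfin hd hseq rfl rfl rfl
    (Snapper.Twist.isCoh_twist hYi (SurfInt.Effective.isCoh_quotMod C))
    (SurfInt.Effective.isCoh_quotMod _) (SurfInt.Effective.isCoh_quotMod Y)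
  simp only [← Snapper.Chi.euler_eq_eulerCharLE hd] at hadd
  have hdegY := Minimal.intNum_eq (k := k) hdim C hCd hYi
  rw [Curves.Euler.euler_eq_of_iso (comm (_root_.ClSub.quotMod C) (_root_.ClSub.idealMod Y))] at hdegY
  have hC1 := hle C hint hCd
  refine ⟨by linarith [hQ.1], fun h1 => ?_⟩
  have hQ1 := hQ.2 (by linarith [hQ.1])
  refine subsingleton_h1_of_ses (k := k) (Snapper.Twist.twistSeq_shortExact hM hseq) ?_ hQ1
  have hsub := Cycles.subsingleton_h1_twist (k := k) hdim C hCd (by linarith [hQ.1])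
    (TensorMod.Invertible.isInvertible_tensorMod hM hYi) (by
      rw [Snapper.IntNum.intNum_pair_comm, Snapper.IntNum.intNum_pair_tensor_left hfin hdim.le hM hYi
        (SurfInt.Effective.isInvertible_idealMod (isEff (k := k) hdim hCd))
        (Snapper.Twist.isCoh_structureModule X),
        Snapper.IntNum.intNum_pair_comm M, Snapper.IntNum.intNum_pair_comm (_root_.ClSub.idealMod Y)]
      linarith [hdeg C hint hCd hZC, hQ.1])
  haveI := hsub
  exact (isoK k (Ramanujam.regroup M (_root_.ClSub.idealMod Y) (_root_.ClSub.quotMod C)) 1).toEquiv.subsingleton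

omit hmin in
theorem euler_eq_finrank (h1 : Subsingleton (Coh.HH X (_root_.ClSub.quotMod Z₀) 1)) :
    Curv2.euler k X (_root_.ClSub.quotMod Z₀) =
      Module.finrank k (Coh.HH X (_root_.ClSub.quotMod Z₀) 0) := by
  have hd : topologicalKrullDim X ≤ ((2 : ℕ) : WithBot ℕ∞) := by exact_mod_cast hdim.le
  haveI := h1
  haveI : Subsingleton (Coh.HH X (_root_.ClSub.quotMod Z₀) 2) :=
    @Equiv.subsingleton _ _ (isoK k (leftUnit (_root_.ClSub.quotMod Z₀)) 2).symm.toEquiv
      (SurfInt.H2Basic.subsingleton_h2_quot (k := k) hdim hZ₀ (PicLoc.isInvertible_structureModule X))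
  rw [Snapper.Chi.euler_eq_eulerCharLE hd]
  simp [FGA.eulerCharLE, Finset.sum_range_succ,
    Module.finrank_zero_of_subsingleton (R := k) (M := Coh.HH X (_root_.ClSub.quotMod Z₀) 1),
    Module.finrank_zero_of_subsingleton (R := k) (M := Coh.HH X (_root_.ClSub.quotMod Z₀) 2)]

theorem euler_eq_one (h1 : Subsingleton (Coh.HH X (_root_.ClSub.quotMod Z₀) 1)) :
    Curv2.euler k X (_root_.ClSub.quotMod Z₀) = 1 := by
  have ha := euler_eq_finrank hdim hZ₀ hZ₀0 hnef h1
  have hb := finrank_h0_le_one hdim hZ₀ hZ₀0 hnef hmin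
  have hc := Cycles.one_le_euler (k := k) hdim hZ₀ hZ₀0 h1
  omega

theorem subsingleton_h1_of_euler (hχ : Curv2.euler k X (_root_.ClSub.quotMod Z₀) = 1)
    {Z : X.IdealSheafData} (hZ : BlowUp.IsEffCartierIdeal Z) (hsub : Z.support ≤ Z₀.support) :
    Subsingleton (Coh.HH X (_root_.ClSub.quotMod Z) 1) := by
  have hfin := Snapper.Finite.cohFinite k X
  have key : ∀ n : ℕ, BlowUp.IsEffCartierIdeal (Z₀ ^ (n + 1)) ∧
      Subsingleton (Coh.HH X (_root_.ClSub.quotMod (Z₀ ^ (n + 1))) 1) ∧
      ∀ C : X.IdealSheafData, IsIntegral C.subscheme →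
        topologicalKrullDim (C.support : Set X) = 1 → Z₀ ≤ C →
        FGA.intNum k X 2 ![_root_.ClSub.idealMod C, _root_.ClSub.idealMod (Z₀ ^ (n + 1))]
          (Coh.structureModule X) ≤ 0 := by
    intro n
    induction n with
    | zero =>
      rw [zero_add, pow_one]
      refine ⟨hZ₀, ?_, hnef⟩
      haveI := euler_le_one_and hdim hZ₀ hZ₀0 hnef hmin hχ (PicLoc.isInvertible_structureModule X)
        (fun C hint hCd _ => by
          haveI := hint
          rw [Minimal.intNum_eq (k := k) hdim C hCd (PicLoc.isInvertible_structureModule X),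
            Curves.Euler.euler_eq_of_iso (rightUnit (_root_.ClSub.quotMod C)), sub_self, neg_zero])
      exact (isoK k (leftUnit (_root_.ClSub.quotMod Z₀)).symm 1).toEquiv.subsingleton
    | succ n ih =>
      obtain ⟨hE, h1, hint'⟩ := ih
      rw [pow_succ]
      refine ⟨Groth.Agent.Lib.Ideal.EffCartier.isEffCartier_mul hE hZ₀, ?_, fun C hint hCd hZC => ?_⟩
      · obtain ⟨f, π, w, -, hseq⟩ := MulSeq.exists_seq hE hZ₀
        exact subsingleton_h1_mid (k := k) hseq
          (euler_le_one_and hdim hZ₀ hZ₀0 hnef hmin hχ (SurfInt.Effective.isInvertible_idealMod hE)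
            hint') h1
      · haveI := hint
        rw [Snapper.IntNum.intNum_pair_comm, SurfInt.NegDef.intNum_mul hfin hdim hE hZ₀
          (SurfInt.Effective.isInvertible_idealMod (isEff (k := k) hdim hCd)),
          Snapper.IntNum.intNum_pair_comm, Snapper.IntNum.intNum_pair_comm (_root_.ClSub.idealMod Z₀)]
        linarith [hint' C hint hCd hZC, hnef C hint hCd hZC]
  obtain ⟨n, hn⟩ := exists_pow_le hsub
  obtain ⟨hE, h1, -⟩ := key n
  obtain ⟨A, hA⟩ : ∃ A, Z * A = Z₀ ^ (n + 1) := ⟨_, RelDiv.Diff.mul_colon hZ hn⟩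
  rw [← hA] at hE h1
  have hAe := Ideal.EffCartier.isEffCartier_factor_right hE
  obtain ⟨f, π, w, -, hseq⟩ := MulSeq.exists_seq hZ hAe
  exact subsingleton_h1_right (k := k) hseq h1
    (SurfInt.H2Basic.subsingleton_h2_quot (k := k) hdim hAe (SurfInt.Effective.isInvertible_idealMod hZ))


section Config

omit hZ₀ hZ₀0 hnef hmin in
theorem exists_eq {r : ℕ} (C : Fin r → X.IdealSheafData) (hCi : ∀ i, IsIntegral (C i).subscheme)
    (hCd : ∀ i, topologicalKrullDim ((C i).support : Set X) = 1) (D : X.IdealSheafData)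
    [IsIntegral D.subscheme] (hDd : topologicalKrullDim (D.support : Set X) = 1)
    (hsub : (D.support : Set X) ⊆ ⋃ i, ((C i).support : Set X)) : ∃ i, D = C i := by
  obtain ⟨i, hi⟩ := Set.mem_iUnion.1 (hsub (Ideal.Prime.gen_mem D))
  haveI := hCi i
  refine ⟨i, SurfInt.Curve.eq_of_gen_eq D (C i) ?_⟩
  refine (VarDim.Basic.eq_of_pdim_le (X ↘ Spec (CommRingCat.of k))
    (Ideal.Prime.gen_specializes (C i) hi) ?_).symm
  rw [SurfInt.Curve.pdim_gen _ D hDd, SurfInt.Curve.pdim_gen _ (C i) (hCd i)]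

variable {r : ℕ} {C : Fin r → X.IdealSheafData} (hCi : ∀ i, IsIntegral (C i).subscheme)
  (hCd : ∀ i, topologicalKrullDim ((C i).support : Set X) = 1) (hC : Function.Injective C)
  (hZ₀s : (Z₀.support : Set X) ⊆ ⋃ i, ((C i).support : Set X))
  (hconn : ∀ S : Finset (Fin r), S.Nonempty → Sᶜ.Nonempty →
    ∃ i ∈ S, ∃ j ∈ Sᶜ, FGA.intNum k X 2 ![_root_.ClSub.idealMod (C i), _root_.ClSub.idealMod (C j)]
      (Coh.structureModule X) ≠ 0)
  (hZ₀C : ∀ i, 0 ≤ Curv2.euler k X (CohB1.tensorMod (_root_.ClSub.quotMod (C i))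
      (_root_.ClSub.idealMod Z₀)) - Curv2.euler k X (_root_.ClSub.quotMod (C i)))

include hCi hCd hC hZ₀s hconn hZ₀C

omit hnef hmin in
/-- A fundamental cycle contains every curve of a connected configuration. -/
theorem le_all (i : Fin r) : Z₀ ≤ C i := by
  classical
  have hfin := Snapper.Finite.cohFinite k X
  have hreg := SurfInt.NegDef.regular_of_smooth (k := k) (X := X)
  by_contra hi
  obtain ⟨D, hint, hDd, hsub⟩ :=
    SurfInt.Mul.exists_curve (X ↘ Spec (CommRingCat.of k)) hdim hreg hZ₀ hZ₀0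
  haveI := hint
  obtain ⟨j₀, rfl⟩ := exists_eq (k := k) hdim C hCi hCd D hDd (hsub.trans hZ₀s)
  obtain ⟨A₀, -, hA₀, -⟩ := SurfInt.Mul.exists_residual (X ↘ Spec (CommRingCat.of k)) hdim hreg hZ₀
    (C j₀) hDd hsub
  obtain ⟨a, ha, b, hb, hab⟩ := hconn (Finset.univ.filter fun j => Z₀ ≤ C j)
    ⟨j₀, by simpa using le_of_mul_left hA₀⟩ ⟨i, by simpa using hi⟩
  simp only [Finset.mem_filter, Finset.mem_univ, true_and, Finset.mem_compl] at ha hb
  haveI := hCi a
  haveI := hCi b
  obtain ⟨A, hA, hmul, -⟩ := SurfInt.Mul.exists_residual (X ↘ Spec (CommRingCat.of k)) hdim hreg hZ₀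
    (C a) (hCd a) (Scheme.IdealSheafData.support_antitone ha)
  have hAb : ¬ A ≤ C b := fun h => hb ((le_of_mul_right hmul).trans h)
  have h1 := intNum_nonneg (k := k) hdim (hCd b) hA hAb
  have h2 := SurfInt.NegDef.intNum_curves_nonneg hfin hdim hreg (C a) (C b) (hCd a) (hCd b)
    (fun h => hb (h ▸ ha))
  have hbi := SurfInt.Effective.isInvertible_idealMod (isEff (k := k) hdim (hCd b))
  have h3 := Minimal.intNum_eq (k := k) hdim (C b) (hCd b)
    (SurfInt.Effective.isInvertible_idealMod hZ₀)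
  have h4 := SurfInt.NegDef.intNum_mul (k := k) hfin hdim (isEff (k := k) hdim (hCd a)) hA hbi
  rw [hmul] at h4
  rw [Snapper.IntNum.intNum_pair_comm] at h3
  rw [Snapper.IntNum.intNum_pair_comm (_root_.ClSub.idealMod (C b))] at h1
  have h5 := hZ₀C b
  omega

omit hnef hmin in
theorem hnef_of : ∀ D : X.IdealSheafData, IsIntegral D.subscheme →
    topologicalKrullDim (D.support : Set X) = 1 → Z₀ ≤ D →
    FGA.intNum k X 2 ![_root_.ClSub.idealMod D, _root_.ClSub.idealMod Z₀] (Coh.structureModule X) ≤ 0 := by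
  intro D hint hDd hle
  haveI := hint
  obtain ⟨i, rfl⟩ := exists_eq (k := k) hdim C hCi hCd D hDd
    (Set.Subset.trans (Scheme.IdealSheafData.support_antitone hle) hZ₀s)
  rw [Minimal.intNum_eq (k := k) hdim (C i) hDd (SurfInt.Effective.isInvertible_idealMod hZ₀)]
  linarith [hZ₀C i]

omit hnef hmin in
theorem hmin_of (hZ₀min : ∀ Z : X.IdealSheafData, BlowUp.IsEffCartierIdeal Z → Z ≠ ⊤ →
      (Z.support : Set X) ⊆ ⋃ i, ((C i).support : Set X) →
      (∀ i, 0 ≤ Curv2.euler k X (CohB1.tensorMod (_root_.ClSub.quotMod (C i))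
        (_root_.ClSub.idealMod Z)) - Curv2.euler k X (_root_.ClSub.quotMod (C i))) → Z ≤ Z₀) :
    ∀ Y : X.IdealSheafData, BlowUp.IsEffCartierIdeal Y → Y ≠ ⊤ → Z₀ ≤ Y → Y ≠ Z₀ →
    ∃ (D : X.IdealSheafData) (_ : IsIntegral D.subscheme),
      topologicalKrullDim (D.support : Set X) = 1 ∧ Z₀ ≤ D ∧
      0 < FGA.intNum k X 2 ![_root_.ClSub.idealMod D, _root_.ClSub.idealMod Y] (Coh.structureModule X) := by
  intro Y hY hY0 hle hne
  by_contra hno
  refine hne (le_antisymm (hZ₀min Y hY hY0
    (Set.Subset.trans (Scheme.IdealSheafData.support_antitone hle) hZ₀s) fun i => ?_) hle)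
  haveI := hCi i
  by_contra hc
  refine hno ⟨C i, hCi i, hCd i, le_all hdim hZ₀ hZ₀0 hCi hCd hC hZ₀s hconn hZ₀C i, ?_⟩
  rw [Minimal.intNum_eq (k := k) hdim (C i) (hCd i) (SurfInt.Effective.isInvertible_idealMod hY)]
  omega

omit hnef hmin in
theorem support_eq : (⋃ i, ((C i).support : Set X)) = (Z₀.support : Set X) :=
  subset_antisymm (Set.iUnion_subset fun i => Scheme.IdealSheafData.support_antitone
    (le_all hdim hZ₀ hZ₀0 hCi hCd hC hZ₀s hconn hZ₀C i)) hZ₀s

end Config

end Groth.Agent.Lib.SurfRR.Fundamental
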