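import Groth.Agent.Lib.SurfRR.Curve
import Groth.Agent.Lib.SurfInt.Surface

/-!
# Numerical criteria for `(-1)`-curves
-/

set_option autoImplicit false
set_option linter.style.haveILetI false
universe u

open CategoryTheory CategoryTheory.Limits AlgebraicGeometry TopologicalSpace

noncomputable section

namespace Groth.Agent.Lib.SurfRR.MinusOne

open Groth.Agent.Lib

variable {k : Type u} [Field k] [IsAlgClosed k] {X : Scheme.{u}} [X.Over (Spec (CommRingCat.of k))]
  [IsProper (X ↘ Spec (CommRingCat.of k))] [Smooth (X ↘ Spec (CommRingCat.of k))]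
  [IsIntegral X] (hdim : topologicalKrullDim X = 2)

omit hdim in
/-- The genus of a curve on `X` detects `H¹`. -/
theorem subsingleton_h1_of_genus (C : X.IdealSheafData) [IsIntegral C.subscheme]
    (h : letI := SurfInt.Surface.overSub (k := k) C; Curv2.genus k C.subscheme = 0) :
    Subsingleton (Coh.HH C.subscheme (Coh.structureModule C.subscheme) 1) := by
  letI := SurfInt.Surface.overSub (k := k) C
  haveI : IsProper (C.subscheme ↘ Spec (CommRingCat.of k)) :=
    inferInstanceAs (IsProper (C.subschemeι ≫ (X ↘ Spec (CommRingCat.of k))))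
  haveI := Curves.GlobalSections.isNoetherian_of_proper k C.subscheme
  haveI := Snapper.Finite.cohFinite k C.subscheme _
    (Snapper.Twist.isCoh_structureModule C.subscheme) 1
  exact Module.finrank_zero_iff.1 h

include hdim

/-- A curve with negative square of negative canonical degree is a `(-1)`-curve. -/
theorem minusOne (C : X.IdealSheafData) [IsIntegral C.subscheme]
    (hC1 : topologicalKrullDim (C.support : Set X) = 1) {W : X.Modules}
    (hW : ExtPow.IsExtPow 2 (Omega.sheaf (X ↘ Spec (CommRingCat.of k))) W)
    (hII : FGA.intNum k X 2 ![_root_.ClSub.idealMod C, _root_.ClSub.idealMod C] (Coh.structureModule X) < 0)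
    (hIW : 0 < FGA.intNum k X 2 ![_root_.ClSub.idealMod C, W] (Coh.structureModule X)) :
    FGA.intNum k X 2 ![_root_.ClSub.idealMod C, _root_.ClSub.idealMod C] (Coh.structureModule X) = -1 ∧
      FGA.intNum k X 2 ![_root_.ClSub.idealMod C, W] (Coh.structureModule X) = 1 ∧
      Subsingleton (Coh.HH C.subscheme (Coh.structureModule C.subscheme) 1) := by
  letI := SurfInt.Surface.overSub (k := k) C
  obtain ⟨-, h⟩ := Curve.adjunction hdim C hC1 hW
  exact ⟨by omega, by omega, subsingleton_h1_of_genus (k := k) C (by omega)⟩

end Groth.Agent.Lib.SurfRR.MinusOne
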