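import Groth.Agent.Lib.SurfInt.Mul

/-!
# `I_C ⊗ I_D ≅ I_{C+D}` compatibly with the inclusions
-/

set_option autoImplicit false
set_option linter.style.haveILetI false
universe u

open CategoryTheory CategoryTheory.Limits AlgebraicGeometry TopologicalSpace
open scoped TensorProduct

namespace Groth.Agent.Lib.SurfRR.MulIncl

open Groth.Agent.Lib Groth.Agent.Lib.Modules Groth.Agent.Lib.SurfInt.Stalk Groth.Agent.Lib.SurfInt.Mul
open Groth.Agent.Lib.Ideal.Prime (stalkIdeal stalkIdeal_eq)

noncomputable section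

variable {X : Scheme.{u}}

/-- The ideal module of a sum of divisors, with its inclusion. -/
theorem exists_idealMod_mul {I : X.IdealSheafData} (hI : BlowUp.IsEffCartierIdeal I)
    (J : X.IdealSheafData) :
    ∃ e : CohB1.tensorMod (_root_.ClSub.idealMod I) (_root_.ClSub.idealMod J) ≅
      _root_.ClSub.idealMod (I * J), e.hom ≫ _root_.ClSub.idealModι (I * J) =
        act (_root_.ClSub.idealModι I) (_root_.ClSub.idealMod J) ≫ _root_.ClSub.idealModι J := by
  let f : CohB1.tensorMod (_root_.ClSub.idealMod I) (_root_.ClSub.idealMod J) ⟶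
      _root_.ClSub.idealMod J := act (_root_.ClSub.idealModι I) _
  let g := f ≫ _root_.ClSub.idealModι J
  have hc : ∀ x : X, ∃ c ∈ nonZeroDivisors (X.presheaf.stalk x),
      stalkIdeal I x = _root_.Ideal.span {c} := fun x => by
    obtain ⟨U, hxU, e, he, hIe⟩ := hI x
    exact ⟨_, Ideal.EffCartier.germ_mem_nonZeroDivisors U.2 he x hxU,
      by rw [stalkIdeal_eq I U hxU, hIe, _root_.Ideal.map_span, Set.image_singleton]⟩
  -- on stalks every element is `a₀ ⊗ v`, sent to `c * v`
  have hg : ∀ (x : X) (c : X.presheaf.stalk x), stalkIdeal I x = _root_.Ideal.span {c} →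
      ∃ a₀, (∀ v, oStalk x (StalkModule.stalkMapₗ g x ((DerivedOX.TensorSheaf.tensorStalk x
          (_root_.ClSub.idealMod I) (_root_.ClSub.idealMod J)).symm (a₀ ⊗ₜ v))) =
            c * idealStalk J x v) ∧
        ∀ z, ∃ v, z = (DerivedOX.TensorSheaf.tensorStalk x (_root_.ClSub.idealMod I)
          (_root_.ClSub.idealMod J)).symm (a₀ ⊗ₜ v) := by
    intro x c he
    obtain ⟨a₀, ha₀⟩ : c ∈ LinearMap.range (idealStalk I x) := by
      rw [range_idealStalk, he]; exact _root_.Ideal.mem_span_singleton_self c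
    refine ⟨a₀, fun v => ?_, fun z => ?_⟩
    · rw [StalkModule.stalkMapₗ_comp, LinearMap.comp_apply,
        show StalkModule.stalkMapₗ f x ((DerivedOX.TensorSheaf.tensorStalk x
          (_root_.ClSub.idealMod I) (_root_.ClSub.idealMod J)).symm (a₀ ⊗ₜ v)) = c • v from
          (act_stalk _ _ x a₀ v).trans (congrArg (· • v) ha₀), map_smul, map_smul]
      rfl
    let e := DerivedOX.TensorSheaf.tensorStalk x (_root_.ClSub.idealMod I) (_root_.ClSub.idealMod J)
    have hgen : ∀ t : (_root_.ClSub.idealMod I).presheaf.stalk x ⊗[X.presheaf.stalk x]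
        (_root_.ClSub.idealMod J).presheaf.stalk x,
        ∃ v, t = a₀ ⊗ₜ[X.presheaf.stalk x] v := by
      intro t
      induction t using TensorProduct.induction_on with
      | zero => exact ⟨0, (TensorProduct.tmul_zero _ _).symm⟩
      | tmul a v =>
        have hmem : idealStalk I x a ∈ _root_.Ideal.span {c} :=
          he ▸ range_idealStalk I x ▸ LinearMap.mem_range_self _ a
        obtain ⟨r, hr⟩ := _root_.Ideal.mem_span_singleton'.mp hmem
        refine ⟨r • v, ?_⟩
        rw [← TensorProduct.smul_tmul]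
        congr 1
        refine idealStalk_injective I x ?_
        rw [map_smul, ha₀, smul_eq_mul, hr]
      | add t t' h h' =>
        obtain ⟨v, rfl⟩ := h
        obtain ⟨v', rfl⟩ := h'
        exact ⟨v + v', (TensorProduct.tmul_add _ _ _).symm⟩
    obtain ⟨v, hv⟩ := hgen (e z)
    exact ⟨v, by rw [← hv]; exact (e.symm_apply_apply z).symm⟩
  have w : g ≫ _root_.ClSub.toSubscheme (I * J) = 0 := by
    refine StalkModule.hom_ext_stalkMapₗ fun x => LinearMap.ext fun z => ?_
    obtain ⟨c, -, he⟩ := hc x
    obtain ⟨a₀, hval, h⟩ := hg x c he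
    obtain ⟨v, hz⟩ := h z
    have hv := hval v
    rw [← hz] at hv
    have hmem : oStalk x (StalkModule.stalkMapₗ g x z) ∈ LinearMap.ker (quotStalk (I * J) x) := by
      rw [ker_quotStalk, stalkIdeal_mul, he, hv]
      exact _root_.Ideal.mul_mem_mul (_root_.Ideal.mem_span_singleton_self c)
        (range_idealStalk J x ▸ LinearMap.mem_range_self _ v)
    rw [StalkModule.stalkMapₗ_comp, StalkModule.stalkMapₗ_zero]
    simpa [quotStalk] using LinearMap.mem_ker.mp hmem
  let φ : CohB1.tensorMod (_root_.ClSub.idealMod I) (_root_.ClSub.idealMod J) ⟶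
      _root_.ClSub.idealMod (I * J) := kernel.lift _ g w
  have hφ : φ ≫ _root_.ClSub.idealModι (I * J) = g := kernel.lift_ι _ _ _
  have hφx : ∀ x z, idealStalk (I * J) x (StalkModule.stalkMapₗ φ x z) =
      oStalk x (StalkModule.stalkMapₗ g x z) := fun x z => by
    rw [← hφ, StalkModule.stalkMapₗ_comp]
    rfl
  haveI : IsIso φ := by
    rw [StalkModule.isIso_iff_stalkMapₗ_bijective]
    intro x
    obtain ⟨c, hcn, he⟩ := hc x
    obtain ⟨a₀, hval, h⟩ := hg x c he
    constructor
    · rw [injective_iff_map_eq_zero]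
      intro z hz
      obtain ⟨v, rfl⟩ := h z
      have hv := hval v
      rw [← hφx, hz, map_zero] at hv
      have hv0 : idealStalk J x v = 0 :=
        (mul_left_mem_nonZeroDivisors_eq_zero_iff hcn).mp hv.symm
      rw [idealStalk_injective J x (hv0.trans (map_zero _).symm), TensorProduct.tmul_zero]
      exact map_zero _
    · intro b
      have hb : idealStalk (I * J) x b ∈ stalkIdeal I x * stalkIdeal J x :=
        stalkIdeal_mul I J x ▸ range_idealStalk (I * J) x ▸ LinearMap.mem_range_self _ b
      rw [he, _root_.Ideal.mem_span_singleton_mul] at hb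
      obtain ⟨r, hr, hrb⟩ := hb
      rw [← range_idealStalk] at hr
      obtain ⟨v, rfl⟩ := hr
      refine ⟨_, idealStalk_injective (I * J) x ((hφx x _).trans ((hval v).trans hrb))⟩
  exact ⟨asIso φ, hφ⟩

end

end Groth.Agent.Lib.SurfRR.MulIncl
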