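import Groth.Agent.Lib.SurfRR.MulIncl
import Groth.Agent.Lib.SurfInt.Seq
import Groth.Agent.Lib.Snapper.Twist
import Mathlib.CategoryTheory.Abelian.Refinements

/-!
# `0 → I_C ⊗ O_F → O_{C+F} → O_C → 0`
-/

set_option autoImplicit false
set_option linter.style.haveILetI false
universe v u

open CategoryTheory CategoryTheory.Limits AlgebraicGeometry TopologicalSpace

noncomputable section

namespace Groth.Agent.Lib.SurfRR.MulSeq

open Groth.Agent.Lib Groth.Agent.Lib.TensorMod.Basic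

section Abstract

variable {A : Type u} [Category.{v} A] [Abelian A]

theorem exists_seq_abstract {T₁ T₂ T₃ J IC O Q Q' : A}
    {t : T₁ ⟶ T₂} {p : T₂ ⟶ T₃} {w₁ : t ≫ p = 0} (h₁ : (ShortComplex.mk t p w₁).ShortExact)
    {j : J ⟶ O} {q : O ⟶ Q} {w₂ : j ≫ q = 0} (h₂ : (ShortComplex.mk j q w₂).ShortExact)
    {ι : IC ⟶ O} {q' : O ⟶ Q'} {w₃ : ι ≫ q' = 0} (h₃ : (ShortComplex.mk ι q' w₃).ShortExact)
    (π : Q ⟶ Q') (hπ : q ≫ π = q') (ψ : T₁ ≅ J) (u : T₂ ≅ IC)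
    (hfac : ψ.hom ≫ j = t ≫ u.hom ≫ ι) :
    ∃ (f : T₃ ⟶ Q) (w : f ≫ π = 0), (ShortComplex.mk f π w).ShortExact := by
  haveI : Mono ι := h₃.mono_f
  haveI : Epi q := h₂.epi_g
  haveI : Epi p := h₁.epi_g
  haveI : Epi q' := h₃.epi_g
  have wt : t ≫ u.hom ≫ ι ≫ q = 0 := by
    rw [← reassoc_of% hfac, w₂, comp_zero]
  obtain ⟨f, hf⟩ : ∃ f, p ≫ f = u.hom ≫ ι ≫ q :=
    ⟨_, (CokernelCofork.IsColimit.desc' h₁.gIsCokernel _ wt).2⟩
  have w : f ≫ π = 0 := by
    rw [← cancel_epi p, reassoc_of% hf, hπ, w₃, comp_zero, comp_zero]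
  refine ⟨f, w, ?_⟩
  haveI : Mono f := by
    refine (Preadditive.mono_iff_cancel_zero f).2 fun B a ha => ?_
    obtain ⟨B', σ, hσ, b, hb⟩ := surjective_up_to_refinements_of_epi p a
    have hbg : (b ≫ u.hom ≫ ι) ≫ q = 0 := by
      have h1 : b ≫ p ≫ f = 0 := by rw [← Category.assoc, ← hb, Category.assoc, ha, comp_zero]
      rw [hf] at h1
      simpa using h1
    obtain ⟨l, hl⟩ := KernelFork.IsLimit.lift' h₂.fIsKernel (b ≫ u.hom ≫ ι) hbg
    have hl' : l ≫ j = b ≫ u.hom ≫ ι := hl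
    have hbt : b = (l ≫ ψ.inv) ≫ t := by
      rw [← cancel_mono (u.hom ≫ ι), Category.assoc, ← hfac]
      simp [hl']
    haveI := hσ
    rw [← cancel_epi σ, comp_zero, hb, hbt, Category.assoc, w₁, comp_zero]
  haveI : Epi π := epi_of_epi_fac hπ
  refine { exact := ?_ }
  rw [ShortComplex.exact_iff_exact_up_to_refinements]
  intro B a ha
  obtain ⟨B', σ, hσ, b, hb⟩ := surjective_up_to_refinements_of_epi q a
  have hbC : b ≫ q' = 0 := by
    rw [← hπ, ← Category.assoc, ← hb, Category.assoc]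
    exact (congrArg (σ ≫ ·) ha).trans comp_zero
  obtain ⟨z, hz⟩ := KernelFork.IsLimit.lift' h₃.fIsKernel b hbC
  have hz' : z ≫ ι = b := hz
  refine ⟨B', σ, hσ, (z ≫ u.inv) ≫ p, ?_⟩
  change σ ≫ a = ((z ≫ u.inv) ≫ p) ≫ f
  rw [hb, ← hz']
  simp [hf]

end Abstract

variable {X : Scheme.{u}}

theorem fac {IC IF O' : X.Modules} (ι : IC ⟶ O') (s : IF ⟶ Coh.structureModule X) :
    tmap (𝟙 IC) s ≫ (comm IC (Coh.structureModule X) ≪≫ leftUnit IC).hom ≫ ι =
      (comm IC IF).hom ≫ SurfInt.Stalk.act s IC ≫ ι := by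
  have hn := comm_natural (𝟙 IC) s
  simp only [SurfInt.Stalk.act, Iso.trans_hom, Category.assoc]
  rw [reassoc_of% hn]

theorem twist_zero (IC : X.Modules) (S : ShortComplex X.Modules) :
    tmap (𝟙 IC) S.f ≫ tmap (𝟙 IC) S.g = 0 :=
  (Snapper.Twist.twistSeq IC S).zero

theorem twist_shortExact {IC : X.Modules} (h : PicF.IsInvertible IC) {S : ShortComplex X.Modules}
    (hS : S.ShortExact) : (ShortComplex.mk _ _ (twist_zero IC S)).ShortExact :=
  Snapper.Twist.twistSeq_shortExact h hS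

/-- The abstract statement for three sequences of modules with common middle term. -/
theorem exists_seq_mod {IC IF J O₁ Q Q' QF : X.Modules} (hIC : PicF.IsInvertible IC)
    {ιF : IF ⟶ Coh.structureModule X} {qF : Coh.structureModule X ⟶ QF} {w₁ : ιF ≫ qF = 0}
    (h₁ : (ShortComplex.mk ιF qF w₁).ShortExact)
    {j : J ⟶ O₁} {q : O₁ ⟶ Q} {w₂ : j ≫ q = 0} (h₂ : (ShortComplex.mk j q w₂).ShortExact)
    {ι : IC ⟶ O₁} {q' : O₁ ⟶ Q'} {w₃ : ι ≫ q' = 0} (h₃ : (ShortComplex.mk ι q' w₃).ShortExact)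
    (π : Q ⟶ Q') (hπ : q ≫ π = q') (φ : CohB1.tensorMod IF IC ≅ J)
    (hφ : φ.hom ≫ j = SurfInt.Stalk.act ιF IC ≫ ι) :
    ∃ (f : CohB1.tensorMod IC QF ⟶ Q) (w : f ≫ π = 0), (ShortComplex.mk f π w).ShortExact :=
  exists_seq_abstract (twist_shortExact hIC h₁) h₂ h₃ π hπ (comm IC IF ≪≫ φ)
    (comm IC (Coh.structureModule X) ≪≫ leftUnit IC)
    (by rw [Iso.trans_hom, Category.assoc, hφ]; exact (fac ι ιF).symm)

theorem ideal_mk (I : X.IdealSheafData) :
    (ShortComplex.mk (_root_.ClSub.idealModι I) (_root_.ClSub.toSubscheme I)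
      (Groth.Agent.Lib.ClSub.Quot.idealModι_toSubscheme I)).ShortExact where
  exact := ShortComplex.exact_of_f_is_kernel _ (kernelIsKernel _)
  mono_f := Groth.Agent.Lib.ClSub.Quot.mono_idealModι I
  epi_g := Groth.Agent.Lib.ClSub.Quot.epi_toSubscheme I

theorem exists_seq_left (C F : X.IdealSheafData) (hC : BlowUp.IsEffCartierIdeal C)
    {J Q : X.Modules} {j : J ⟶ Coh.structureModule X} {q : Coh.structureModule X ⟶ Q} {w₂ : j ≫ q = 0} (h₂ : (ShortComplex.mk j q w₂).ShortExact)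
    (π : Q ⟶ _root_.ClSub.quotMod C) (hπ : q ≫ π = _root_.ClSub.toSubscheme C)
    (φ : CohB1.tensorMod (_root_.ClSub.idealMod F) (_root_.ClSub.idealMod C) ≅ J)
    (hφ : φ.hom ≫ j = SurfInt.Stalk.act (_root_.ClSub.idealModι F) (_root_.ClSub.idealMod C) ≫ _root_.ClSub.idealModι C) :
    ∃ (f : CohB1.tensorMod (_root_.ClSub.idealMod C) (_root_.ClSub.quotMod F) ⟶ Q) (w : f ≫ π = 0),
      (ShortComplex.mk f π w).ShortExact :=
  exists_seq_mod (SurfInt.Effective.isInvertible_idealMod hC) (ideal_mk F) h₂ (ideal_mk C) π hπ φ hφ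

theorem exists_seq_of (C F : X.IdealSheafData) (hC : BlowUp.IsEffCartierIdeal C) (K : X.IdealSheafData)
    (π : _root_.ClSub.quotMod K ⟶ _root_.ClSub.quotMod C) (hπ : _root_.ClSub.toSubscheme K ≫ π = _root_.ClSub.toSubscheme C)
    (φ : CohB1.tensorMod (_root_.ClSub.idealMod F) (_root_.ClSub.idealMod C) ≅ _root_.ClSub.idealMod K)
    (hφ : φ.hom ≫ _root_.ClSub.idealModι K = SurfInt.Stalk.act (_root_.ClSub.idealModι F) (_root_.ClSub.idealMod C) ≫ _root_.ClSub.idealModι C) :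
    ∃ (f : CohB1.tensorMod (_root_.ClSub.idealMod C) (_root_.ClSub.quotMod F) ⟶ _root_.ClSub.quotMod K) (w : f ≫ π = 0),
      (ShortComplex.mk f π w).ShortExact :=
  exists_seq_left C F hC (ideal_mk K) π hπ φ hφ

theorem eq_rev (C F : X.IdealSheafData) (hF : BlowUp.IsEffCartierIdeal F) (K : X.IdealSheafData) (h : F * C = K) :
    ∃ φ : CohB1.tensorMod (_root_.ClSub.idealMod F) (_root_.ClSub.idealMod C) ≅ _root_.ClSub.idealMod K,
      φ.hom ≫ _root_.ClSub.idealModι K = SurfInt.Stalk.act (_root_.ClSub.idealModι F) (_root_.ClSub.idealMod C) ≫ _root_.ClSub.idealModι C := by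
  subst h
  exact MulIncl.exists_idealMod_mul hF C

theorem exists_seq {C F : X.IdealSheafData} (hC : BlowUp.IsEffCartierIdeal C)
    (hF : BlowUp.IsEffCartierIdeal F) :
    ∃ (f : CohB1.tensorMod (_root_.ClSub.idealMod C) (_root_.ClSub.quotMod F) ⟶
        _root_.ClSub.quotMod (C * F))
      (π : _root_.ClSub.quotMod (C * F) ⟶ _root_.ClSub.quotMod C) (w : f ≫ π = 0),
      _root_.ClSub.toSubscheme (C * F) ≫ π = _root_.ClSub.toSubscheme C ∧
      (ShortComplex.mk f π w).ShortExact := by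
  obtain ⟨φ, hφ⟩ := eq_rev C F hF (C * F) (mul_comm F C)
  obtain ⟨π, hπ⟩ := SurfInt.Seq.exists_descend (show C * F ≤ C from fun U => by
    rw [Scheme.IdealSheafData.ideal_mul, Pi.mul_apply]
    exact _root_.Ideal.mul_le_left)
  obtain ⟨f, w, h⟩ := exists_seq_of C F hC (C * F) π hπ φ hφ
  exact ⟨f, π, w, hπ, h⟩

end Groth.Agent.Lib.SurfRR.MulSeq
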