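import Groth.Agent.Lib.SurfRR.PlaneBlow
import Groth.Agent.Lib.PointBlow96.Stein
import Groth.Agent.Lib.Nakai.NumProper
import Groth.Agent.Lib.Cyc.SmoothReg
import Groth.Agent.Lib.Cyc.DimFun

/-!
# `χ(O) = 1` on the blown-up plane

A blow-up of `P²` in finitely many closed points has no higher direct image of `O`.
-/

set_option autoImplicit false
set_option linter.style.haveILetI false
set_option linter.unusedSectionVars false
universe u

open CategoryTheory CategoryTheory.Limits AlgebraicGeometry TopologicalSpace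

noncomputable section

namespace Groth.Agent.Lib.SurfRR.PlaneBlow

open Groth.Agent.Lib Groth.Agent.Lib.TensorMod.Basic Groth.Agent.Lib.ProjCoh.Coherent
open Groth.Agent.Lib.PointBlow96

variable {k : Type u} [Field k] [IsAlgClosed k] {X : Scheme.{u}} [X.Over (Spec (CommRingCat.of k))]
  [IsIntegral X] [IsProper (X ↘ (Spec (CommRingCat.of k)))]
  (hdim : topologicalKrullDim X = 2)
  (σ : X ⟶ CohB1.ProjSpace 2 k)
  (hσk : σ ≫ CohB1.ProjSpace.toSpec 2 k = X ↘ (Spec (CommRingCat.of k)))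
  {Z : Set (CohB1.ProjSpace 2 k)} (hZ : IsClosed Z) (hZfin : Z.Finite)
  (hZpt : ∀ z ∈ Z, IsClosed ({z} : Set (CohB1.ProjSpace 2 k)))
  (hσ : BlowUp.IsBlowUp σ (Scheme.IdealSheafData.vanishingIdeal ⟨Z, hZ⟩))

include hdim hσk hZfin hZpt hσ

/-- `χ(O_X) = 1`. -/
theorem euler_structure : Curv2.euler k X (Coh.structureModule X) = 1 := by
  classical
  letI : (CohB1.ProjSpace 2 k).Over (Spec (CommRingCat.of k)) := ⟨CohB1.ProjSpace.toSpec 2 k⟩
  haveI : IsProper (CohB1.ProjSpace 2 k ↘ Spec (CommRingCat.of k)) :=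
    inferInstanceAs (IsProper (CohB1.ProjSpace.toSpec 2 k))
  haveI := Curves.GlobalSections.isNoetherian_of_proper k (CohB1.ProjSpace 2 k)
  haveI := Curves.GlobalSections.isNoetherian_of_proper k X
  haveI : IsIntegral (CohB1.ProjSpace 2 k) := ProjSpace.Basic.isIntegral_projSpace 2 k
  have hdP : topologicalKrullDim (CohB1.ProjSpace 2 k) = 2 := by
    rw [ProjSpace.Dim.topologicalKrullDim_projSpace_of_field 2 k]; rfl
  have hreg : ∀ y : CohB1.ProjSpace 2 k,
      IsRegularLocalRing ((CohB1.ProjSpace 2 k).presheaf.stalk y) :=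
    fun y => Cyc.SmoothReg.isRegularLocalRing_stalk (CohB1.ProjSpace.toSpec 2 k) y
  have hd : ∀ z ∈ Z, ringKrullDim ((CohB1.ProjSpace 2 k).presheaf.stalk z) = 2 := fun z hz => by
    let f := CohB1.ProjSpace 2 k ↘ Spec (CommRingCat.of k)
    rw [Cyc.DimFun.ringKrullDim_stalk (Cyc.FieldDim.isDimFun_fdelta f) z, VarDim.Basic.fdelta_eq,
      VarDim.Basic.fdelta_eq, (VarDim.Basic.pdim_eq_zero_iff f z).2 (hZpt z hz)]
    have h := VarDim.Basic.topologicalKrullDim_irreducibleSpace f
    rw [hdP] at h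
    rw [show VarDim.Basic.pdim f (genericPoint (CohB1.ProjSpace 2 k)) = 2 from by exact_mod_cast h.symm]
    rfl
  set I := Scheme.IdealSheafData.vanishingIdeal ⟨Z, hZ⟩ with hI
  have hξ : genericPoint (CohB1.ProjSpace 2 k) ∉ Z := fun h =>
    ne_genericPoint (hd _ h) rfl
  have hsupp : (I.support : Set (CohB1.ProjSpace 2 k)) = Z := by
    rw [hI, Scheme.IdealSheafData.coe_support_vanishingIdeal]; rfl
  have hne : I ≠ ⊥ := fun h => hξ (hsupp.le (by rw [h, Scheme.IdealSheafData.support_bot]; trivial))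
  obtain ⟨hX', hgen, hres'⟩ := S2348.result I hne σ hσ
  haveI : IsProper σ := BlowUpExists.isProper_of_isBlowUp hσ fun U => by
    haveI : IsNoetherianRing Γ(CohB1.ProjSpace 2 k, U.1) := IsLocallyNoetherian.component_noetherian U
    exact IsNoetherian.noetherian _
  haveI hbir : IsIso (σ.stalkMap (genericPoint X)) :=
    Ideal.BlowUp.isIso_stalkMap_off hσ _ fun h => by
      rw [Scheme.IdealSheafData.support_comap] at h
      exact hξ (hsupp.le (hgen ▸ h))
  haveI hunit : IsIso (_root_.ClSub.unitToPush σ) := by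
    rw [Scheme.Modules.Hom.isIso_iff_isIso_app]
    intro U
    rw [ConcreteCategory.isIso_iff_bijective]
    haveI := H34.Stein.isIso_app_of_birational σ (fun y => by
      haveI := hreg y
      exact ⟨Regular.Quotient.isDomain _, Regular.UFD.isIntegrallyClosed _⟩) hgen hbir U
    exact ConcreteCategory.bijective_of_isIso (σ.app U)
  let B : Set (Opens (CohB1.ProjSpace 2 k)) := {W | Good I W}
  have hB : Opens.IsBasis B := by
    rw [Opens.isBasis_iff_nbhd]
    intro O y hy
    have hcl : IsClosed (Z \ {y}) := by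
      rw [← Set.biUnion_of_singleton (Z \ {y})]
      exact (hZfin.subset Set.diff_subset).isClosed_biUnion fun z hz => hZpt z hz.1
    by_cases hyZ : y ∈ Z
    · haveI := hreg y
      obtain ⟨W, hW, hyW, hle⟩ := exists_good (hZpt y hyZ) (hd y hyZ) y (O := O ⊓ ⟨(Z \ {y})ᶜ, hcl.isOpen_compl⟩)
        ⟨hy, fun h => h.2 rfl⟩
      refine ⟨W, ?_, hyW, hle.trans inf_le_left⟩
      obtain ⟨hWa, g₁, g₂, hg⟩ := hW
      refine ⟨hWa, g₁, g₂, hg.trans ?_⟩
      rw [hI, ptI, Scheme.IdealSheafData.vanishingIdeal_ideal, Scheme.IdealSheafData.vanishingIdeal_ideal]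
      refine congrArg PrimeSpectrum.vanishingIdeal (Set.ext fun q => ⟨fun h => ?_, fun h => ?_⟩)
      · change hWa.fromSpec q ∈ Z
        rw [show hWa.fromSpec q = y from h]
        exact hyZ
      · have hqW := Set.mem_range_self (f := hWa.fromSpec) q
        rw [hWa.range_fromSpec] at hqW
        by_contra hne'
        exact (hle hqW).2 ⟨h, hne'⟩
    · obtain ⟨W, hW, hyW, hle⟩ := exists_isAffineOpen_mem_and_subset
        (U := O ⊓ ⟨Zᶜ, hZ.isOpen_compl⟩) (x := y) ⟨hy, hyZ⟩
      refine ⟨W, ⟨hW, 1, 1, ?_⟩, hyW, fun _ h => (hle h).1⟩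
      rw [Set.pair_eq_singleton, _root_.Ideal.span_singleton_one, hI, Scheme.IdealSheafData.vanishingIdeal_ideal]
      change ⊤ = PrimeSpectrum.vanishingIdeal (hW.fromSpec ⁻¹' Z)
      have : hW.fromSpec ⁻¹' Z = ∅ := Set.eq_empty_of_forall_notMem fun q hq => by
        have hqW := Set.mem_range_self (f := hW.fromSpec) q
        rw [hW.range_fromSpec] at hqW
        exact (hle hqW).2 hq
      exact (((congrArg PrimeSpectrum.vanishingIdeal this).trans PrimeSpectrum.vanishingIdeal_empty)).symm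
  haveI := TensorMod.QCohInv.isQCoh_structureModule X
  have hpush := Nakai.NumProper.euler_push σ hσk hB (Coh.structureModule X) (fun W hW q =>
    subsingleton_HU hσ hW (Coh.structureModule X) (1 : Γ(X, σ ⁻¹ᵁ W)) (fun V _ h a => ⟨(show Γ(X, V) from a), by
      change (show Γ(X, V) from a) * X.presheaf.map (homOfLE h).op 1 = (show Γ(X, V) from a)
      rw [map_one, mul_one]⟩) q) 2
  rw [← Snapper.Chi.eulerCharLE_of_iso (asIso (_root_.ClSub.unitToPush σ)),
    ← Snapper.Chi.euler_eq_eulerCharLE (k := k) hdP.le,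
    ← Snapper.Chi.euler_eq_eulerCharLE (k := k) hdim.le] at hpush
  rw [← hpush, ← Curves.Euler.euler_eq_of_iso (twZero (n := 2) (R := k))]
  refine (LinSub.euler_tw (n := 2) (k := k) (by norm_num) 0).trans ?_
  show Ring.choose ((0 : ℤ) + (2 : ℕ)) 2 = 1
  rw [show ((0 : ℤ) + (2 : ℕ)) = ((2 : ℕ) : ℤ) by norm_num, Ring.choose_natCast]
  rfl

end Groth.Agent.Lib.SurfRR.PlaneBlow
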