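import Groth.Agent.Lib.SurfRR.Regular
import Groth.Agent.Lib.DepthTwist.Embed
import Groth.Agent.Lib.SurfInt.AffineBoundary
import Groth.Agent.Lib.RG.GeomComp
import Groth.Agent.Lib.SurfInt.Effective
import Groth.Agent.Lib.SurfInt.NegDef
import Groth.Agent.S7802

/-!
# Riemann–Roch on smooth proper integral surfaces over any field
-/

set_option autoImplicit false
set_option linter.style.haveILetI false
universe u

open CategoryTheory CategoryTheory.Limits AlgebraicGeometry TopologicalSpace

noncomputable section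

namespace Groth.Agent.Lib.SurfRR.Proper

open Groth.Agent.Lib

variable {k : Type u} [Field k] {X : Scheme.{u}} [X.Over (Spec (CommRingCat.of k))]

/-- A smooth integral scheme of dimension `d` is smooth of relative dimension `d`. -/
theorem smoothOfRelativeDimension [IsIntegral X] [Smooth (X ↘ Spec (CommRingCat.of k))] (d : ℕ)
    (hdim : topologicalKrullDim X = (d : WithBot ℕ∞)) :
    SmoothOfRelativeDimension d (X ↘ Spec (CommRingCat.of k)) := by
  letI : (Spec (CommRingCat.of k)).Over (Spec (CommRingCat.of k)) := ⟨𝟙 _⟩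
  haveI : LocallyOfFiniteType (Spec (CommRingCat.of k) ↘ Spec (CommRingCat.of k)) :=
    inferInstanceAs (LocallyOfFiniteType (𝟙 _))
  have h0 : topologicalKrullDim (Spec (CommRingCat.of k)) = ((0 : ℕ) : WithBot ℕ∞) := by
    change topologicalKrullDim (PrimeSpectrum k) = _
    rw [PrimeSpectrum.topologicalKrullDim_eq_ringKrullDim, ringKrullDim_eq_zero_of_field]
    rfl
  exact BirMap96.SmoothCritScheme.smoothOfRelativeDimension (X ↘ Spec (CommRingCat.of k))
    (Category.comp_id _) d 0 hdim h0

/-- A connected smooth proper surface is projective. -/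
theorem exists_embedding [IsProper (X ↘ Spec (CommRingCat.of k))]
    [Smooth (X ↘ Spec (CommRingCat.of k))] [ConnectedSpace X] (hdim : topologicalKrullDim X = 2) :
    ∃ (r : ℕ) (ι : X ⟶ CohB1.ProjSpace r k), IsClosedImmersion ι ∧
      ι ≫ CohB1.ProjSpace.toSpec r k = X ↘ Spec (CommRingCat.of k) := by
  obtain ⟨U, hU, hx, -⟩ := TopologicalSpace.Opens.isBasis_iff_nbhd.mp X.isBasis_affineOpens
    (show Classical.arbitrary X ∈ (⊤ : X.Opens) from trivial)
  obtain ⟨I, hI, -, hA⟩ := Groth.Agent.S7802.result k X (X ↘ Spec (CommRingCat.of k)) hdim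
    (fun x => WeilExt.Basic.isRegularLocalRing_stalk (X ↘ Spec (CommRingCat.of k)) x) ⟨U, hU⟩ ⟨_, hx⟩
  have hI' : PicF.IsInvertible (_root_.ClSub.idealMod I) :=
    Groth.Agent.Lib.ClSub.Cartier.isInvertible_idealMod hI
  have hd := TensorMod.Invertible.isInvertible_dual hI'
  obtain ⟨N, r, j, -, hj, hc, -⟩ := DepthTwist.Embed.exists_embedding (k := k)
    (hA _ hd ⟨TensorMod.Basic.comm _ _ ≪≫ TensorMod.Invertible.tensorDualIso hI'⟩)
  exact ⟨r, j, hj, hc⟩

/-- Riemann–Roch on a connected smooth proper surface. -/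
theorem riemannRoch [IsProper (X ↘ Spec (CommRingCat.of k))]
    [Smooth (X ↘ Spec (CommRingCat.of k))] [ConnectedSpace X] (hdim : topologicalKrullDim X = 2)
    {W : X.Modules} (hW : ExtPow.IsExtPow 2 (Omega.sheaf (X ↘ Spec (CommRingCat.of k))) W)
    {L : X.Modules} (hL : PicF.IsInvertible L) :
    2 * Curv2.euler k X L =
      FGA.intNum k X 2 ![L, L] (Coh.structureModule X) -
        FGA.intNum k X 2 ![L, W] (Coh.structureModule X) +
          2 * Curv2.euler k X (Coh.structureModule X) := by
  haveI := RG.GeomComp.isIntegral_of_smooth_connected (X ↘ Spec (CommRingCat.of k))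
  haveI := smoothOfRelativeDimension (k := k) 2 (X := X) (by rw [hdim]; rfl)
  obtain ⟨r, ι, hc, hι⟩ := exists_embedding (k := k) hdim
  haveI := hc
  exact Regular.riemannRoch ι hι hdim.le hW hL

end Groth.Agent.Lib.SurfRR.Proper
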