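import Groth.Agent.Lib.SurfRR.MulSeq
import Groth.Agent.Lib.SurfRR.Cycles
import Groth.Agent.Lib.Curves.MonoSection
import Groth.Agent.Lib.DerivedOX.PullTensor
import Mathlib.RingTheory.FiniteType
import Mathlib.RingTheory.Noetherian.Orzech

/-!
# Sections of a module of degree `≤ 0` on a numerically connected divisor
-/

set_option autoImplicit false
set_option linter.style.haveILetI false
universe u

open CategoryTheory CategoryTheory.Limits AlgebraicGeometry Opposite TopologicalSpace
open scoped TensorProduct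

noncomputable section

namespace Groth.Agent.Lib.SurfRR.Ramanujam

open Groth.Agent.Lib Groth.Agent.Lib.Modules Groth.Agent.Lib.TensorMod.Basic
open Groth.Agent.Lib.SurfInt.Stalk (quotStalk quotStalk_surjective ker_quotStalk)
open Groth.Agent.Lib.Ideal.Prime (stalkIdeal stalkIdeal_eq)
open Groth.Agent.Lib.Curves.LES (mapK exactK₂ isoK)

section Stalk

variable {X : Scheme.{u}} {L : X.Modules}

theorem le_of_mul_left {I J K : X.IdealSheafData} (h : I * J = K) : K ≤ I := fun U => by
  rw [← h, Scheme.IdealSheafData.ideal_mul, Pi.mul_apply]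
  exact _root_.Ideal.mul_le_left

theorem le_of_mul_right {I J K : X.IdealSheafData} (h : I * J = K) : K ≤ J := fun U => by
  rw [← h, Scheme.IdealSheafData.ideal_mul, Pi.mul_apply]
  exact _root_.Ideal.mul_le_right (I := I.ideal U) (J := J.ideal U)

theorem mul_top' (I : X.IdealSheafData) : I * ⊤ = I :=
  Scheme.IdealSheafData.ext (funext fun U => by
    rw [Scheme.IdealSheafData.ideal_mul, Pi.mul_apply, Scheme.IdealSheafData.ideal_top, Pi.top_apply]
    exact _root_.Ideal.mul_top _)

/-- A homomorphism from `O_X` to a direct image factors through the restriction map. -/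
theorem exists_factor (I : X.IdealSheafData) (P : I.subscheme.Modules)
    (t : Coh.structureModule X ⟶ (Coh.push I.subschemeι).obj P) :
    ∃ ψ : Coh.structureModule I.subscheme ⟶ P,
      _root_.ClSub.toSubscheme I ≫ (Coh.push I.subschemeι).map ψ = t := by
  let m : Γ(P, ⊤) := t.app ⊤ (1 : Γ(X, ⊤))
  refine ⟨Modules.Free.unitHom P m, Modules.Free.unitHom_ext ?_⟩
  change (Modules.Free.unitHom P m).app ⊤ ((I.subschemeι.app ⊤).hom (1 : Γ(X, ⊤))) = m
  rw [map_one]
  exact Modules.Free.unitHom_app_one P m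

/-- `L ⊗ O/I ≅ ι_* (L|_Z)`. -/
def quotPush (hL : PicF.IsInvertible L) (I : X.IdealSheafData) :
    CohB1.tensorMod L (_root_.ClSub.quotMod I) ≅
      (Coh.push I.subschemeι).obj ((Scheme.Modules.pullback I.subschemeι).obj L) :=
  (Modules.ProjFormula.projIso I.subschemeι (Modules.DualBasis.hasDBases_of_isFinLocFree
    (TensorMod.LocFree.of_rank (TensorMod.LocFree.of_isInvertible hL)))).app
      (Coh.structureModule I.subscheme) ≪≫
    (Coh.push I.subschemeι).mapIso (rightUnit _)

variable {x : X}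

/-- `(L ⊗ N)_x ≅ N_x` for a trivialization of `L` at `x`. -/
def stalkTriv (β : X.presheaf.stalk x ≃ₗ[X.presheaf.stalk x] L.presheaf.stalk x) (N : X.Modules) :
    (CohB1.tensorMod L N).presheaf.stalk x ≃ₗ[X.presheaf.stalk x] N.presheaf.stalk x :=
  (DerivedOX.TensorSheaf.tensorStalk x L N).trans
    ((TensorProduct.congr β.symm (LinearEquiv.refl _ _)).trans (TensorProduct.lid _ _))

theorem stalkTriv_natural (β : X.presheaf.stalk x ≃ₗ[X.presheaf.stalk x] L.presheaf.stalk x)
    {N N' : X.Modules} (g : N ⟶ N') (z : (CohB1.tensorMod L N).presheaf.stalk x) :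
    stalkTriv β N' (StalkModule.stalkMapₗ (tmap (𝟙 L) g) x z) =
      StalkModule.stalkMapₗ g x (stalkTriv β N z) := by
  have h := DerivedOX.TensorSheaf.tensorStalk_natural x (𝟙 L) g z
  rw [CategoryTheory.Functor.map_id, NatTrans.id_app, Category.id_comp,
    StalkModule.stalkMapₗ_id] at h
  rw [DerivedOX.PullTensor.tensorBi_obj_map] at h
  refine (congrArg ((TensorProduct.congr β.symm (LinearEquiv.refl _ _)).trans
    (TensorProduct.lid _ _)) h).trans ?_
  change ((TensorProduct.congr β.symm (LinearEquiv.refl _ _)).trans (TensorProduct.lid _ _))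
      (TensorProduct.map LinearMap.id (StalkModule.stalkMapₗ g x)
        (DerivedOX.TensorSheaf.tensorStalk x L N z)) =
    StalkModule.stalkMapₗ g x (((TensorProduct.congr β.symm (LinearEquiv.refl _ _)).trans
      (TensorProduct.lid _ _)) (DerivedOX.TensorSheaf.tensorStalk x L N z))
  generalize DerivedOX.TensorSheaf.tensorStalk x L N z = w
  induction w using TensorProduct.induction_on with
  | zero => simp
  | tmul a b => simp
  | add a b ha hb => simp only [map_add, ha, hb]

/-- A section of `L ⊗ O_Z` which generates on a component through each point of `Z` gives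
`O_Z ≅ L ⊗ O_Z`. -/
theorem nonempty_iso_of_forall (hL : PicF.IsInvertible L) (Z : X.IdealSheafData)
    (s : Coh.structureModule X ⟶ CohB1.tensorMod L (_root_.ClSub.quotMod Z))
    (hs : ∀ x ∈ Z.support, ∃ (C : X.IdealSheafData)
      (π : _root_.ClSub.quotMod Z ⟶ _root_.ClSub.quotMod C), x ∈ C.support ∧
      _root_.ClSub.toSubscheme Z ≫ π = _root_.ClSub.toSubscheme C ∧ Epi (s ≫ tmap (𝟙 L) π)) :
    Nonempty (_root_.ClSub.quotMod Z ≅ CohB1.tensorMod L (_root_.ClSub.quotMod Z)) := by
  obtain ⟨ψ, hψ⟩ := exists_factor Z _ (s ≫ (quotPush hL Z).hom)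
  let f : _root_.ClSub.quotMod Z ⟶ CohB1.tensorMod L (_root_.ClSub.quotMod Z) :=
    (Coh.push Z.subschemeι).map ψ ≫ (quotPush hL Z).inv
  have hf : _root_.ClSub.toSubscheme Z ≫ f = s := by
    rw [← Category.assoc]
    exact (congrArg (· ≫ (quotPush hL Z).inv) hψ).trans (by simp)
  suffices IsIso f from ⟨asIso f⟩
  rw [StalkModule.isIso_iff_stalkMapₗ_bijective]
  intro x
  obtain ⟨-, -, -, β, -, -⟩ := Curves.MonoSection.exists_gen_stalk hL x
  let N := _root_.ClSub.quotMod Z
  let φ : N.presheaf.stalk x →ₗ[X.presheaf.stalk x] N.presheaf.stalk x :=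
    (stalkTriv β N).toLinearMap ∘ₗ StalkModule.stalkMapₗ f x
  suffices hsφ : Function.Surjective φ by
    haveI : Module.Finite (X.presheaf.stalk x) (N.presheaf.stalk x) :=
      Module.Finite.of_surjective (quotStalk Z x) (quotStalk_surjective Z x)
    exact (stalkTriv β N).bijective.of_comp_iff' _ |>.1
      (OrzechProperty.bijective_of_surjective_endomorphism φ hsφ)
  obtain ⟨r, hr⟩ := quotStalk_surjective Z x (φ (quotStalk Z x 1))
  intro y
  obtain ⟨a, rfl⟩ := quotStalk_surjective Z x y
  -- `φ` is multiplication by `r`, which is a unit at points of `Z`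
  have hφ : ∀ b, φ (quotStalk Z x b) = quotStalk Z x (b * r) := fun b => by
    have e : ∀ c : X.presheaf.stalk x, quotStalk Z x c = c • quotStalk Z x 1 := fun c => by
      rw [← map_smul, smul_eq_mul, mul_one]
    rw [e b, map_smul, ← hr, e (b * r), mul_smul, ← e r]
  by_cases hx : x ∈ Z.support
  · obtain ⟨C, π, hxC, hπ, hepi⟩ := hs x hx
    have hsurj := (StalkModule.epi_iff_stalkMapₗ_surjective _).1 hepi x
    obtain ⟨w, hw⟩ := hsurj ((stalkTriv β (_root_.ClSub.quotMod C)).symm (quotStalk C x 1))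
    obtain ⟨b, hb⟩ : ∃ b, (SurfInt.Stalk.oStalk x).symm b = w :=
      ⟨SurfInt.Stalk.oStalk x w, LinearEquiv.symm_apply_apply _ _⟩
    have hb1 : quotStalk C x (b * r) = quotStalk C x 1 := by
      have h1 : stalkTriv β (_root_.ClSub.quotMod C)
          (StalkModule.stalkMapₗ (s ≫ tmap (𝟙 L) π) x w) = quotStalk C x 1 := by
        rw [hw]; exact LinearEquiv.apply_symm_apply _ _
      rw [← h1, StalkModule.stalkMapₗ_comp, LinearMap.comp_apply, stalkTriv_natural]
      have h2 : stalkTriv β N (StalkModule.stalkMapₗ s x w) = quotStalk Z x (b * r) := by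
        rw [← hφ, ← hf, StalkModule.stalkMapₗ_comp, ← hb]
        rfl
      exact ((congrArg (StalkModule.stalkMapₗ π x) h2).trans
        (SurfInt.Seq.stalkMapₗ_descend hπ x _)).symm
    have hu : IsUnit (b * r) := by
      have hmem : b * r - 1 ∈ stalkIdeal C x := by
        rw [← ker_quotStalk, LinearMap.mem_ker, map_sub, hb1, sub_self]
      have hle : stalkIdeal C x ≤ IsLocalRing.maximalIdeal _ := by
        obtain ⟨U, hU, hxU, -⟩ := exists_isAffineOpen_mem_and_subset
          (show x ∈ (⊤ : X.Opens) from trivial)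
        have hp := (Ideal.Prime.mem_support_iff_le_prime C ⟨U, hU⟩ hxU).1 hxC
        rw [stalkIdeal_eq C ⟨U, hU⟩ hxU]
        letI algx := X.presheaf.algebra_section_stalk ⟨x, hxU⟩
        haveI := hU.isLocalization_stalk ⟨x, hxU⟩
        exact _root_.Ideal.map_le_iff_le_comap.mpr (hp.trans
          (IsLocalization.AtPrime.under_maximalIdeal (X.presheaf.stalk x) _).ge)
      by_contra hnu
      refine (IsLocalRing.maximalIdeal.isMaximal (X.presheaf.stalk x)).ne_top
        ((_root_.Ideal.eq_top_iff_one _).2 ?_)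
      have := Ideal.sub_mem _ ((IsLocalRing.mem_maximalIdeal _).2 hnu) (hle hmem)
      rwa [sub_sub_cancel] at this
    obtain ⟨c, hc⟩ := (isUnit_of_mul_isUnit_right hu).exists_left_inv
    exact ⟨quotStalk Z x (a * c), by rw [hφ, mul_assoc, hc, mul_one]⟩
  · haveI : Subsingleton (N.presheaf.stalk x) := by
      by_contra hne
      refine hx ?_
      have : x ∈ CohB1.support N := hne
      rwa [Groth.Agent.Lib.ClSub.Quot.support_quotMod] at this
    exact ⟨0, Subsingleton.elim _ _⟩

end Stalk

variable {k : Type u} [Field k] {X : Scheme.{u}} [X.Over (Spec (CommRingCat.of k))]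

include k in
theorem subsingleton_h0_of_ses {S : ShortComplex X.Modules} (hS : S.ShortExact)
    (h₁ : Subsingleton (Coh.HH X S.X₁ 0)) (h₃ : Subsingleton (Coh.HH X S.X₃ 0)) :
    Subsingleton (Coh.HH X S.X₂ 0) :=
  subsingleton_of_forall_eq 0 fun y => by
    obtain ⟨z, rfl⟩ := (exactK₂ k hS 0 y).1 (@Subsingleton.elim _ h₃ _ _)
    rw [@Subsingleton.elim _ h₁ z 0, map_zero]

theorem injective_of_ses {S : ShortComplex X.Modules} (hS : S.ShortExact)
    (h₁ : Subsingleton (Coh.HH X S.X₁ 0)) : Function.Injective (mapK k S.g 0) :=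
  (injective_iff_map_eq_zero _).2 fun y hy => by
    obtain ⟨z, rfl⟩ := (exactK₂ k hS 0 y).1 hy
    rw [@Subsingleton.elim _ h₁ z 0, map_zero]

theorem hom_eq_zero {N : X.Modules} (h : Subsingleton (Coh.HH X N 0))
    (v : Coh.structureModule X ⟶ N) : v = 0 := by
  haveI := h
  haveI : Subsingleton (N.val.obj (op ⊤) : Type u) :=
    (Curves.GlobalSections.h0Equiv N).toEquiv.symm.subsingleton
  exact Modules.Free.unitHom_ext (Subsingleton.elim (α := (N.val.obj (op ⊤) : Type u)) _ _)

theorem twist_restrict {L : X.Modules} (hL : PicF.IsInvertible L) {S₁ S₂ S₃ : X.Modules}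
    {f : S₁ ⟶ S₂} {π : S₂ ⟶ S₃} {w : f ≫ π = 0} (hS : (ShortComplex.mk f π w).ShortExact)
    (h₁ : Subsingleton (Coh.HH X (CohB1.tensorMod L S₁) 0)) :
    Function.Injective (mapK k (tmap (𝟙 L) π) 0) ∧
      ∀ v : Coh.structureModule X ⟶ CohB1.tensorMod L S₂, v ≫ tmap (𝟙 L) π = 0 → v = 0 := by
  have hT := Snapper.Twist.twistSeq_shortExact hL hS
  refine ⟨injective_of_ses (S := Snapper.Twist.twistSeq L (ShortComplex.mk f π w)) hT h₁, fun v hv => ?_⟩
  obtain ⟨l, hl⟩ := KernelFork.IsLimit.lift' hT.fIsKernel v hv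
  rw [← hl, hom_eq_zero h₁ l]
  exact zero_comp

/-- `L ⊗ (I_C ⊗ O_F) ≅ (L ⊗ I_C) ⊗ O_F`. -/
def regroup (L IC Q : X.Modules) :
    CohB1.tensorMod L (CohB1.tensorMod IC Q) ≅ CohB1.tensorMod (CohB1.tensorMod L IC) Q :=
  (assoc L IC Q).symm

variable [IsAlgClosed k] [IsProper (X ↘ Spec (CommRingCat.of k))]
  [Smooth (X ↘ Spec (CommRingCat.of k))] [IsIntegral X] [AlgebraicGeometry.IsNoetherian X]
  (hdim : topologicalKrullDim X = 2) {Z : X.IdealSheafData} (hZ : BlowUp.IsEffCartierIdeal Z)
  (hnc : ∀ Z₁ Z₂ : X.IdealSheafData, BlowUp.IsEffCartierIdeal Z₁ → BlowUp.IsEffCartierIdeal Z₂ →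
    Z₁ ≠ ⊤ → Z₂ ≠ ⊤ → Z = Z₁ * Z₂ → 0 < FGA.intNum k X 2
      ![_root_.ClSub.idealMod Z₁, _root_.ClSub.idealMod Z₂] (Coh.structureModule X))
  {L : X.Modules} (hL : PicF.IsInvertible L)
  (hdeg : ∀ C : X.IdealSheafData, IsIntegral C.subscheme →
    topologicalKrullDim (C.support : Set X) = 1 → Z ≤ C →
    Curv2.euler k X (CohB1.tensorMod (_root_.ClSub.quotMod C) L) -
      Curv2.euler k X (_root_.ClSub.quotMod C) ≤ 0)

include hdim

omit hdim [IsAlgClosed k] [Smooth (X ↘ Spec (CommRingCat.of k))] [IsIntegral X] [AlgebraicGeometry.IsNoetherian X] in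
theorem finrank_twist_quot (C : X.IdealSheafData) {M : X.Modules} (hM : PicF.IsInvertible M) :
    letI := SurfInt.Surface.overSub (k := k) C
    Module.finrank k (Coh.HH X (CohB1.tensorMod M (_root_.ClSub.quotMod C)) 0) =
      Module.finrank k (Coh.HH C.subscheme ((Scheme.Modules.pullback C.subschemeι).obj M) 0) := by
  letI := SurfInt.Surface.overSub (k := k) C
  haveI : ((Scheme.Modules.pullback C.subschemeι).obj M).IsQuasicoherent :=
    TensorMod.QCohInv.isQCoh_of_isInvertible (PicLoc.isInvertible_pullback C.subschemeι hM)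
  rw [(isoK k (quotPush hM C) 0).finrank_eq]
  exact SurfInt.Push.finrank_push C.subschemeι rfl _ 0

/-- On a curve, a module with sections has nonnegative degree. -/
theorem intNum_nonpos_of_sections (C : X.IdealSheafData) [IsIntegral C.subscheme]
    (hCd : topologicalKrullDim (C.support : Set X) = 1) {M : X.Modules} (hM : PicF.IsInvertible M)
    (h : Nontrivial (Coh.HH X (CohB1.tensorMod M (_root_.ClSub.quotMod C)) 0)) :
    FGA.intNum k X 2 ![_root_.ClSub.idealMod C, M] (Coh.structureModule X) ≤ 0 := by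
  letI := SurfInt.Surface.overSub (k := k) C
  haveI : IsProper (C.subscheme ↘ Spec (CommRingCat.of k)) :=
    inferInstanceAs (IsProper (C.subschemeι ≫ (X ↘ Spec (CommRingCat.of k))))
  have hP := PicLoc.isInvertible_pullback C.subschemeι hM
  haveI : ((Scheme.Modules.pullback C.subschemeι).obj M).IsQuasicoherent :=
    TensorMod.QCohInv.isQCoh_of_isInvertible hP
  have hn : Nontrivial (Coh.HH C.subscheme ((Scheme.Modules.pullback C.subschemeι).obj M) 0) :=
    ((isoK k (quotPush hM C) 0).trans
      (ZarCoh.Linear.affineLinearEquiv C.subschemeι rfl _ 0)).symm.toEquiv.nontrivial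
  have hd := ((SurfInt.Surface.dim_subscheme C).trans hCd).le
  have h0 := Curves.Degree.deg_nonneg (k := k) hd hP hn
  rw [Minimal.intNum_eq hdim C hCd hM,
    Curves.Euler.euler_eq_of_iso (comm (_root_.ClSub.quotMod C) M),
    SurfInt.Surface.euler_twist_quot C hM, SurfInt.Surface.euler_quot]
  simp only [Curv2.deg] at h0
  push_cast at h0 ⊢
  omega

include hZ hnc hL hdeg

theorem subsingleton_h0 (F : X.IdealSheafData) (hF : BlowUp.IsEffCartierIdeal F) (hF0 : F ≠ ⊤)
    (A : X.IdealSheafData) (hA : BlowUp.IsEffCartierIdeal A) (hA0 : A ≠ ⊤) (hAF : A * F = Z) :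
    Subsingleton (Coh.HH X (CohB1.tensorMod (CohB1.tensorMod L (_root_.ClSub.idealMod A))
      (_root_.ClSub.quotMod F)) 0) := by
  haveI := FinCond.wellFoundedGT_idealSheafData (X := X)
  induction F using (inferInstance : WellFoundedGT X.IdealSheafData).wf.induction generalizing A with
  | _ F ih =>
    have hfin := Snapper.Finite.cohFinite k X
    have hreg := SurfInt.NegDef.regular_of_smooth (k := k) (X := X)
    have hd : topologicalKrullDim X ≤ 2 := hdim.le
    have hAi := SurfInt.Effective.isInvertible_idealMod hA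
    let M := CohB1.tensorMod L (_root_.ClSub.idealMod A)
    have hMi : PicF.IsInvertible M := Groth.Agent.Lib.TensorMod.Invertible.isInvertible_tensorMod hL hAi
    by_cases hex : ∃ (C : X.IdealSheafData) (_ : IsIntegral C.subscheme),
        topologicalKrullDim (C.support : Set X) = 1 ∧ F ≤ C ∧
        Subsingleton (Coh.HH X (CohB1.tensorMod M (_root_.ClSub.quotMod C)) 0)
    · obtain ⟨C, hint, hCd, hFC, hC0⟩ := hex
      haveI := hint
      obtain ⟨F', hF', hmul, hlt⟩ := SurfInt.Mul.exists_residual (X ↘ Spec (CommRingCat.of k)) hdim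
        hreg hF C hCd (Scheme.IdealSheafData.support_antitone hFC)
      by_cases hF'0 : F' = ⊤
      · subst hF'0
        rwa [← hmul, mul_top']
      subst hmul
      have hCE := SurfInt.NegDef.isEff hfin hdim hreg C hCd
      obtain ⟨f, π, w, -, hseq⟩ := MulSeq.exists_seq hCE hF'
      refine subsingleton_h0_of_ses (k := k) (Snapper.Twist.twistSeq_shortExact hMi hseq) ?_ hC0
      obtain ⟨e, -⟩ := MulIncl.exists_idealMod_mul hA C
      let e' : CohB1.tensorMod M (CohB1.tensorMod (_root_.ClSub.idealMod C) (_root_.ClSub.quotMod F')) ≅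
          CohB1.tensorMod (CohB1.tensorMod L (_root_.ClSub.idealMod (A * C)))
            (_root_.ClSub.quotMod F') :=
        regroup M _ _ ≪≫ tensorIso (assoc L _ _ ≪≫ tensorIso (Iso.refl L) e) (Iso.refl _)
      haveI := ih F' hlt hF' hF'0 (A * C) (Groth.Agent.Lib.Ideal.EffCartier.isEffCartier_mul hA hCE)
        (fun h => hA0 (top_le_iff.1 (le_of_mul_left h))) (by rw [mul_assoc, hAF])
      exact (isoK k e' 0).toEquiv.subsingleton
    · push Not at hex
      have key := SurfInt.Mul.induction (X ↘ Spec (CommRingCat.of k)) hdim hreg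
        (P := fun G => F ≤ G → FGA.intNum k X 2 ![_root_.ClSub.idealMod G, _root_.ClSub.idealMod A]
          (Coh.structureModule X) ≤ 0)
        (fun _ => (SurfInt.NegDef.intNum_top hfin hdim hAi).le)
        (fun C hint G hCd hG ihG hFG => by
          haveI := hint
          have hCE := SurfInt.NegDef.isEff hfin hdim hreg C hCd
          have hFC := hFG.trans (le_of_mul_left rfl)
          have h1 := hdeg C hint hCd ((le_of_mul_right hAF).trans hFC)
          have h2 := intNum_nonpos_of_sections (k := k) hdim C hCd hMi (hex C hint hCd hFC)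
          have hCi := SurfInt.Effective.isInvertible_idealMod hCE
          rw [Snapper.IntNum.intNum_pair_comm, Snapper.IntNum.intNum_pair_tensor_left hfin hd hL hAi
              hCi (Curves.Degree.isCoh_structureModule (X := X)),
            Snapper.IntNum.intNum_pair_comm L, Snapper.IntNum.intNum_pair_comm (_root_.ClSub.idealMod A),
            Minimal.intNum_eq hdim C hCd hL] at h2
          rw [SurfInt.NegDef.intNum_mul hfin hdim hCE hG hAi]
          linarith [ihG (hFG.trans (le_of_mul_right rfl))]) hF le_rfl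
      have := hnc A F hA hF hA0 hF0 hAF.symm
      rw [Snapper.IntNum.intNum_pair_comm] at this
      omega

/-- Restriction to a component is injective on sections. -/
theorem injective_restrict (C : X.IdealSheafData) [IsIntegral C.subscheme]
    (hCd : topologicalKrullDim (C.support : Set X) = 1) (hZC : Z ≤ C)
    (π : _root_.ClSub.quotMod Z ⟶ _root_.ClSub.quotMod C)
    (hπ : _root_.ClSub.toSubscheme Z ≫ π = _root_.ClSub.toSubscheme C) :
    Function.Injective (mapK k (tmap (𝟙 L) π) 0) ∧
      ∀ v : Coh.structureModule X ⟶ CohB1.tensorMod L (_root_.ClSub.quotMod Z),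
        v ≫ tmap (𝟙 L) π = 0 → v = 0 := by
  have hfin := Snapper.Finite.cohFinite k X
  have hreg := SurfInt.NegDef.regular_of_smooth (k := k) (X := X)
  haveI := Groth.Agent.Lib.ClSub.Quot.epi_toSubscheme Z
  obtain ⟨F, hF, hmul, -⟩ := SurfInt.Mul.exists_residual (X ↘ Spec (CommRingCat.of k)) hdim
    hreg hZ C hCd (Scheme.IdealSheafData.support_antitone hZC)
  by_cases hF0 : F = ⊤
  · subst hF0
    rw [mul_top'] at hmul
    subst hmul
    have : π = 𝟙 _ := by rw [← cancel_epi (_root_.ClSub.toSubscheme C), hπ, Category.comp_id]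
    subst this
    rw [tmap_id]
    exact ⟨by rw [Curves.LES.mapK_id]; exact Function.injective_id, fun v hv => by simpa using hv⟩
  have hCE := SurfInt.NegDef.isEff hfin hdim hreg C hCd
  have hC0 : C ≠ ⊤ := by
    rintro rfl
    rw [Scheme.IdealSheafData.support_top] at hCd
    have : IsEmpty ((⊥ : Closeds X) : Set X) := Set.isEmpty_coe_sort.2 rfl
    haveI : IsEmpty (IrreducibleCloseds ((⊥ : Closeds X) : Set X)) :=
      ⟨fun Z => isEmptyElim Z.isIrreducible.nonempty.some⟩
    exact WithBot.bot_ne_one ((Order.krullDim_eq_bot (α := IrreducibleCloseds ((⊥ : Closeds X) : Set X))).symm.trans hCd)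
  have hsub := subsingleton_h0 hdim hZ hnc hL hdeg F hF hF0 C hCE hC0 hmul
  subst hmul
  obtain ⟨f, π', w, hπ', hseq⟩ := MulSeq.exists_seq hCE hF
  obtain rfl : π = π' := by rw [← cancel_epi (_root_.ClSub.toSubscheme (C * F)), hπ, hπ']
  haveI := hsub
  exact twist_restrict (k := k) hL hseq
    (isoK k (regroup L (_root_.ClSub.idealMod C) (_root_.ClSub.quotMod F)) 0).toEquiv.subsingleton

variable (hZ0 : Z ≠ ⊤)
include hZ0

theorem finrank_le_one :
    Module.finrank k (Coh.HH X (CohB1.tensorMod L (_root_.ClSub.quotMod Z)) 0) ≤ 1 := by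
  have hfin := Snapper.Finite.cohFinite k X
  have hreg := SurfInt.NegDef.regular_of_smooth (k := k) (X := X)
  obtain ⟨C, hint, hCd, hsub⟩ :=
    SurfInt.Mul.exists_curve (X ↘ Spec (CommRingCat.of k)) hdim hreg hZ hZ0
  haveI := hint
  obtain ⟨F, -, hmul, -⟩ := SurfInt.Mul.exists_residual (X ↘ Spec (CommRingCat.of k)) hdim
    hreg hZ C hCd hsub
  obtain ⟨π, hπ⟩ := SurfInt.Seq.exists_descend (le_of_mul_left hmul)
  haveI := hfin _ (Snapper.Twist.isCoh_twist hL (SurfInt.Effective.isCoh_quotMod C)) 0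
  refine (LinearMap.finrank_le_finrank_of_injective
    (injective_restrict hdim hZ hnc hL hdeg C hCd (le_of_mul_left hmul) π hπ).1).trans ?_
  rw [finrank_twist_quot (k := k) C hL]
  letI := SurfInt.Surface.overSub (k := k) C
  haveI : IsProper (C.subscheme ↘ Spec (CommRingCat.of k)) :=
    inferInstanceAs (IsProper (C.subschemeι ≫ (X ↘ Spec (CommRingCat.of k))))
  have hd := ((SurfInt.Surface.dim_subscheme C).trans hCd).le
  have hP := PicLoc.isInvertible_pullback C.subschemeι hL
  rcases subsingleton_or_nontrivial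
      (Coh.HH C.subscheme ((Scheme.Modules.pullback C.subschemeι).obj L) 0) with h | h
  · rw [Module.finrank_zero_of_subsingleton]; omega
  have h1 := Curves.Degree.hdim_zero_le (k := k) hd hP h
  have h2 : Curves.Euler.hdim k C.subscheme (Coh.structureModule C.subscheme) 0 = 1 :=
    Curves.GlobalSections.finrank_h0_structure k C.subscheme
  have h3 := hdeg C hint hCd (le_of_mul_left hmul)
  rw [Curves.Euler.euler_eq_of_iso (comm (_root_.ClSub.quotMod C) L),
    SurfInt.Surface.euler_twist_quot C hL, SurfInt.Surface.euler_quot] at h3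
  simp only [Curv2.deg, Curves.Euler.hdim] at h1 h2
  push_cast at h1 h3
  omega

theorem nonempty_iso (h : Nontrivial (Coh.HH X (CohB1.tensorMod L (_root_.ClSub.quotMod Z)) 0)) :
    Nonempty (CohB1.tensorMod L (_root_.ClSub.quotMod Z) ≅ _root_.ClSub.quotMod Z) := by
  have hfin := Snapper.Finite.cohFinite k X
  have hreg := SurfInt.NegDef.regular_of_smooth (k := k) (X := X)
  obtain ⟨s, hs⟩ := Curves.Positivity.exists_section_of_nontrivial h
  refine (nonempty_iso_of_forall hL Z s fun x hx => ?_).map Iso.symm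
  obtain ⟨C, hint, hCd, hZC, hxC⟩ : ∃ (C : X.IdealSheafData) (_ : IsIntegral C.subscheme),
      topologicalKrullDim (C.support : Set X) = 1 ∧ Z ≤ C ∧ x ∈ C.support :=
    SurfInt.Mul.induction (X ↘ Spec (CommRingCat.of k)) hdim hreg
      (P := fun G => Z ≤ G → x ∈ G.support → ∃ (C : X.IdealSheafData) (_ : IsIntegral C.subscheme),
        topologicalKrullDim (C.support : Set X) = 1 ∧ Z ≤ C ∧ x ∈ C.support)
      (fun _ hx => by
        rw [Scheme.IdealSheafData.support_top] at hx
        exact hx.elim)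
      (fun C hint G hCd hG ihG hle hx => by
        rw [Scheme.IdealSheafData.support_mul] at hx
        rcases hx with hx | hx
        · exact ⟨C, hint, hCd, hle.trans (le_of_mul_left rfl), hx⟩
        · exact ihG (hle.trans (le_of_mul_right rfl)) hx) hZ le_rfl hx
  haveI := hint
  obtain ⟨π, hπ⟩ := SurfInt.Seq.exists_descend hZC
  refine ⟨C, π, hxC, hπ, ?_⟩
  have hne : s ≫ tmap (𝟙 L) π ≠ 0 := fun h0 =>
    hs ((injective_restrict hdim hZ hnc hL hdeg C hCd hZC π hπ).2 s h0)
  obtain ⟨ψ, hψ⟩ := exists_factor C _ ((s ≫ tmap (𝟙 L) π) ≫ (quotPush hL C).hom)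
  have hψ0 : ψ ≠ 0 := fun h0 => hne (by
    rw [← cancel_mono (quotPush hL C).hom, ← hψ, h0, zero_comp, Functor.map_zero, comp_zero])
  letI := SurfInt.Surface.overSub (k := k) C
  haveI : IsProper (C.subscheme ↘ Spec (CommRingCat.of k)) :=
    inferInstanceAs (IsProper (C.subschemeι ≫ (X ↘ Spec (CommRingCat.of k))))
  haveI := Curves.GlobalSections.noetherianSpace_of_proper k C.subscheme
  have hd := ((SurfInt.Surface.dim_subscheme C).trans hCd).le
  have hP := PicLoc.isInvertible_pullback C.subschemeι hL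
  have hO := PicLoc.isInvertible_structureModule C.subscheme
  have gO := Curves.Degree.isGood (k := k) hd hO
  have gP := Curves.Degree.isGood (k := k) hd hP
  have h1 := Curves.Positivity.deg_le_of_ne_zero hd hO hP gO gP hψ0
  have h3 := hdeg C hint hCd hZC
  rw [Curves.Euler.euler_eq_of_iso (comm (_root_.ClSub.quotMod C) L),
    SurfInt.Surface.euler_twist_quot C hL, SurfInt.Surface.euler_quot] at h3
  haveI := Curves.Positivity.isIso_of_deg_eq hd hO hP gO gP hψ0 (by
    simp only [Curv2.deg] at h1 ⊢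
    push_cast at h1 h3 ⊢
    omega)
  have he : s ≫ tmap (𝟙 L) π =
      (_root_.ClSub.toSubscheme C ≫ (Coh.push C.subschemeι).map ψ) ≫ (quotPush hL C).inv := by
    rw [hψ]; simp
  rw [he]
  haveI := Groth.Agent.Lib.ClSub.Quot.epi_toSubscheme C
  infer_instance

end Groth.Agent.Lib.SurfRR.Ramanujam
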