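import Groth.Agent.Lib.FibreVanish36.Main
import Groth.Agent.Lib.FibreVanish36.Coherent
import Groth.Agent.Lib.CohDelta.AbR
import Groth.Agent.Lib.CohDelta.QCohR
import Groth.Agent.Lib.ZarCoh.PushH
import Groth.Agent.Lib.ZarCoh.Morph
import Groth.Agent.Lib.ClSub.Quot
import Groth.Agent.Lib.TensorMod.QCohInv

/-!
# Vanishing of `H¹` of subschemes in the fibres of a morphism with `R¹f_*O = 0`
-/

set_option autoImplicit false
set_option linter.style.haveILetI false
universe u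

open CategoryTheory Limits AlgebraicGeometry TopologicalSpace Opposite
open CategoryTheory.Abelian
open Groth.Agent.Lib.ZarCoh.Basic Groth.Agent.Lib.CohDelta.Basic

namespace Groth.Agent.Lib.SurfRR.RationalFibre

open Groth.Agent.Lib

variable {Y X : Scheme.{u}} (f : Y ⟶ X)

/-- `R¹f_*M = 0` gives `H¹(f⁻¹W, M) = 0` for affine `W`. -/
theorem subsingleton_HU_one [QuasiCompact f] [QuasiSeparated f] (M : Y.Modules) [hM : M.IsQuasicoherent]
    (hR : IsZero ((Coh.RpushAb f 1).obj (Coh.toAb M))) {W : X.Opens} (hW : IsAffineOpen W) :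
    Subsingleton (CohTop.HU (Coh.toAb M) 1 (f ⁻¹ᵁ W)) := by
  haveI := CohDelta.Sect.enoughInjectives (X := Y)
  let I := InjectiveResolution.of M
  haveI : (CohDelta.Syzygy.Z I 0).IsQuasicoherent :=
    ObjectProperty.prop_of_iso (SheafOfModules.isQuasicoherent (R := Y.ringCatSheaf)) (CohDelta.Syzygy.augIso I) hM
  obtain ⟨i⟩ := CohDelta.AbR.nonempty_rpushAb_iso f I 0
  have hz : IsZero (Coh.toAb (CohDelta.Syzygy.R I f 0)) := hR.of_iso i.symm
  have hpre : IsZero (Coh.toAb (CohDelta.Syzygy.R I f 0)).obj :=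
    (sheafToPresheaf _ _).map_isZero hz
  haveI : Subsingleton Γ(CohDelta.Syzygy.R I f 0, W) :=
    AddCommGrpCat.subsingleton_of_isZero (hpre.obj (op W))
  haveI hsub : Subsingleton (CohTop.HU (Coh.toAb (CohDelta.Syzygy.Z I 0)) 1 (f ⁻¹ᵁ W)) :=
    (CohDelta.QCohR.e_bijective f I 0 hW).1.subsingleton
  refine subsingleton_of_forall_eq 0 fun (c : Ext.{u} (Zs.obj (f ⁻¹ᵁ W)) (Coh.toAb M) 1) => ?_
  have h : c.comp (Ext.mk₀ (abMap (CohDelta.Syzygy.augIso I).hom)) (add_zero 1) =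
      (0 : CohTop.HU (Coh.toAb (CohDelta.Syzygy.Z I 0)) 1 (f ⁻¹ᵁ W)) := hsub.elim _ _
  have h' := congrArg (fun e => Ext.comp e (Ext.mk₀ (abMap (CohDelta.Syzygy.augIso I).inv)) (add_zero 1)) h
  simp only [Ext.comp_assoc_of_second_deg_zero, Ext.mk₀_comp_mk₀] at h'
  rw [abMap, abMap, ← Functor.map_comp, Iso.hom_inv_id, CategoryTheory.Functor.map_id, Ext.comp_mk₀_id] at h'
  exact h'.trans (Ext.zero_comp ..)

/-- `H¹(D, O) = 0` for a closed subscheme in the preimage of a small affine open. -/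
theorem subsingleton_h1 [IsProper f] (hR : IsZero ((Coh.RpushAb f 1).obj (Coh.toAb (Coh.structureModule Y))))
    (D : Y.IdealSheafData) {W : X.Opens} (hW : IsAffineOpen W)
    (hd : ∀ z ∈ W, topologicalKrullDim ↥(f.fiber z) ≤ ((1 : ℕ) : WithBot ℕ∞))
    [(_root_.ClSub.idealMod D).IsQuasicoherent]
    (hD : (D.support : Set Y) ⊆ f ⁻¹ᵁ W) :
    Subsingleton (Coh.HH D.subscheme (Coh.structureModule D.subscheme) 1) := by
  haveI := TensorMod.QCohInv.isQCoh_structureModule Y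
  haveI := TensorMod.QCohInv.isQCoh_structureModule D.subscheme
  have h1 := subsingleton_HU_one f (Coh.structureModule Y) hR hW
  have h2 := FibreVanish36.Main.subsingleton_HU f FibreVanish36.Coherent.cohVanish 1 hW hd
    (_root_.ClSub.idealMod D) 1 le_rfl
  have hS := abS_shortExact (ClSub.Quot.idealSeq_shortExact D)
  have h3 : Subsingleton (CohTop.HU (Coh.toAb (_root_.ClSub.quotMod D)) 1 (f ⁻¹ᵁ W)) := by
    refine subsingleton_of_forall_eq 0 fun c => ?_
    obtain ⟨b, rfl⟩ := Ext.covariant_sequence_exact₃.{u} (Zs.obj (f ⁻¹ᵁ W)) hS c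
      (n₁ := 2) rfl (h2.elim _ _)
    rw [h1.elim b 0]
    exact Ext.zero_comp ..
  have hb := ZarCoh.Morph.pushMap_bijective D.subschemeι (Coh.structureModule D.subscheme) (f ⁻¹ᵁ W) 1
  have h4 : Subsingleton (CohTop.HU (Coh.toAb (Coh.structureModule D.subscheme)) 1
      (D.subschemeι ⁻¹ᵁ (f ⁻¹ᵁ W))) := by
    haveI : Subsingleton (Ext.{u} (Zs.obj (f ⁻¹ᵁ W))
        ((CohTop.push D.subschemeι.base).obj (Coh.toAb (Coh.structureModule D.subscheme))) 1) := h3
    exact hb.2.subsingleton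
  have htop : D.subschemeι ⁻¹ᵁ (f ⁻¹ᵁ W) = ⊤ := top_le_iff.1 fun z _ =>
    hD (D.range_subschemeι.subset ⟨z, rfl⟩)
  rw [htop] at h4
  exact @Equiv.subsingleton _ _ (ZarCoh.Compare.hTop (Coh.toAb (Coh.structureModule D.subscheme)) 1).toEquiv h4

end Groth.Agent.Lib.SurfRR.RationalFibre
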