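import Groth.Agent.Lib.SurfRR.Regular
import Groth.Agent.Lib.SurfInt.PushIso
import Groth.Agent.Lib.SurfInt.Hodge
import Groth.Agent.Lib.SurfInt.Bound
import Groth.Agent.Lib.ModelFibre.IdealPull
import Groth.Agent.Lib.Ample.GG
import Groth.Agent.Lib.SurfInt.Pencil

/-!
# The defect `χ(Y, φ^*L) - χ(X, L)` does not depend on `L`
-/

set_option autoImplicit false
set_option linter.style.haveILetI false
universe u

open CategoryTheory CategoryTheory.Limits AlgebraicGeometry TopologicalSpace

noncomputable section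

namespace Groth.Agent.Lib.SurfRR.Resolution

open Groth.Agent.Lib Groth.Agent.Lib.TensorMod.Basic

variable {k : Type u} [Field k]

/-- Euler characteristics transport along isomorphisms of schemes. -/
theorem euler_pullback {C Z : Scheme.{u}} [C.Over (Spec (CommRingCat.of k))]
    [Z.Over (Spec (CommRingCat.of k))] (φ : C ⟶ Z) [IsIso φ]
    (hφ : φ ≫ (Z ↘ Spec (CommRingCat.of k)) = C ↘ Spec (CommRingCat.of k))
    {P : Z.Modules} (hP : PicF.IsInvertible P) :
    Curv2.euler k C ((Scheme.Modules.pullback φ).obj P) = Curv2.euler k Z P := by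
  haveI := SurfInt.PushIso.isIso_unitToPush φ
  have hE := Modules.DualBasis.hasDBases_of_isFinLocFree
    (TensorMod.LocFree.of_rank (TensorMod.LocFree.of_isInvertible hP))
  let eO : Coh.structureModule Z ≅ (Coh.push φ).obj (Coh.structureModule C) :=
    @asIso _ _ _ _ (_root_.ClSub.unitToPush φ) (SurfInt.PushIso.isIso_unitToPush φ)
  let e : (Coh.push φ).obj ((Scheme.Modules.pullback φ).obj P) ≅ P :=
    (Coh.push φ).mapIso (rightUnit ((Scheme.Modules.pullback φ).obj P)).symm ≪≫
      ((Modules.ProjFormula.projIso φ hE).app (Coh.structureModule C)).symm ≪≫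
      tensorIso (Iso.refl P) eO.symm ≪≫ rightUnit P
  haveI : ((Scheme.Modules.pullback φ).obj P).IsQuasicoherent :=
    TensorMod.QCohInv.isQCoh_of_isInvertible (PicLoc.isInvertible_pullback φ hP)
  have h1 := SurfInt.Push.euler_push φ hφ ((Scheme.Modules.pullback φ).obj P)
  rw [Curves.Euler.euler_eq_of_iso e] at h1
  exact h1.symm

variable {X Y : Scheme.{u}} [X.Over (Spec (CommRingCat.of k))] [Y.Over (Spec (CommRingCat.of k))]
  [IsIntegral X] [IsIntegral Y]
  [IsProper (X ↘ Spec (CommRingCat.of k))] [IsProper (Y ↘ Spec (CommRingCat.of k))]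
  (φ : Y ⟶ X) (hφ : φ ≫ (X ↘ Spec (CommRingCat.of k)) = Y ↘ Spec (CommRingCat.of k))
  (U : X.Opens) [IsIso (φ ∣_ U)] (hη : genericPoint X ∈ U)

omit [X.Over (Spec (CommRingCat.of k))] [Y.Over (Spec (CommRingCat.of k))]
  [IsProper (X ↘ Spec (CommRingCat.of k))] [IsProper (Y ↘ Spec (CommRingCat.of k))] in
include hη in
theorem map_genericPoint : φ (genericPoint Y) = genericPoint X := by
  have hspec := (genericPoint_spec Y).image φ.continuous
  refine hspec.eq ?_
  have hsub : (U : Set X) ⊆ Set.range φ := fun x hx => by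
    obtain ⟨z, hz⟩ := ((φ ∣_ U).surjective) (⟨x, hx⟩ : U)
    exact ⟨(φ ⁻¹ᵁ U).ι z, (morphismRestrict_base_coe φ U z).symm.trans (congrArg Subtype.val hz)⟩
  have hcl : closure (φ '' (Set.univ : Set Y)) = Set.univ := by
    rw [Set.image_univ]
    refine Set.eq_univ_of_univ_subset ?_
    rw [← (genericPoint_spec X).def]
    exact closure_mono (Set.singleton_subset_iff.2 (hsub hη))
  rw [hcl]
  exact genericPoint_spec X

omit [X.Over (Spec (CommRingCat.of k))] [Y.Over (Spec (CommRingCat.of k))]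
  [IsProper (X ↘ Spec (CommRingCat.of k))] [IsProper (Y ↘ Spec (CommRingCat.of k))] in
include hη in
theorem germ_app_mem_nonZeroDivisors (V : X.affineOpens) (s : Γ(X, V.1))
    (hs : s ∈ nonZeroDivisors Γ(X, V.1)) (y : Y) (hy : y ∈ φ ⁻¹ᵁ V.1) :
    Y.presheaf.germ _ y hy (φ.app V.1 s) ∈ nonZeroDivisors (Y.presheaf.stalk y) := by
  haveI : Nonempty V.1 := ⟨⟨φ y, hy⟩⟩
  refine mem_nonZeroDivisors_of_ne_zero fun h0 => nonZeroDivisors.ne_zero hs ?_
  have hg : genericPoint Y ∈ φ ⁻¹ᵁ V.1 :=
    (genericPoint_spec Y).mem_open_set_iff (φ ⁻¹ᵁ V.1).2 |>.2 ⟨y, trivial, hy⟩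
  have h1 : φ.app V.1 s = 0 :=
    germ_injective_of_isIntegral Y y hy (h0.trans (map_zero _).symm)
  have h2 := Scheme.Hom.germ_stalkMap_apply φ V.1 (genericPoint Y) hg s
  rw [h1, map_zero] at h2
  refine germ_injective_of_isIntegral X (φ (genericPoint Y)) hg ?_
  rw [map_zero]
  have hfield : IsField (X.presheaf.stalk (φ (genericPoint Y))) := by
    rw [map_genericPoint φ U hη]
    exact Field.toIsField X.functionField
  letI := hfield.toField
  exact (RingHom.injective (φ.stalkMap (genericPoint Y)).hom) (h2.trans (map_zero _).symm)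

include hφ hη in
/-- Twisting by a divisor inside `U` does not change the defect. -/
theorem defect_twist [IsNoetherian X] [IsNoetherian Y] {d : ℕ}
    (hdX : topologicalKrullDim X ≤ d) (hdY : topologicalKrullDim Y ≤ d)
    {M A : X.Modules} (hM : PicF.IsInvertible M) (hA : PicF.IsInvertible A)
    (s : Coh.structureModule X ⟶ A) (hs : s ≠ 0) (hsU : (U : Set X)ᶜ ⊆ CohB1.genLocus A s) :
    Curv2.euler k Y ((Scheme.Modules.pullback φ).obj (CohB1.tensorMod M A)) -
        Curv2.euler k X (CohB1.tensorMod M A) =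
      Curv2.euler k Y ((Scheme.Modules.pullback φ).obj M) - Curv2.euler k X M := by
  obtain ⟨hZ, ⟨e⟩, hsupp, -⟩ := SurfInt.Div.divisor_spec hA s hs
  set I := PicF2.zeroScheme A s
  set N := CohB1.tensorMod M A
  have hN : PicF.IsInvertible N := TensorMod.Invertible.isInvertible_tensorMod hM hA
  have hI := SurfInt.Effective.isInvertible_idealMod hZ
  have hgerm := fun (V : X.affineOpens) (t : Γ(X, V.1)) (ht : t ∈ nonZeroDivisors Γ(X, V.1))
    (_ : I.ideal V = _root_.Ideal.span {t}) => germ_app_mem_nonZeroDivisors φ U hη V t ht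
  have hI'c := Ideal.EffCartier.isEffCartier_comap φ hZ hgerm
  have hI' := SurfInt.Effective.isInvertible_idealMod hI'c
  obtain ⟨ep⟩ := ModelFibre.IdealPull.nonempty_pullback_idealMod φ hZ hgerm
  let eX : CohB1.tensorMod (_root_.ClSub.idealMod I) N ≅ M :=
    comm _ _ ≪≫ assoc _ _ _ ≪≫ tensorIso (Iso.refl M) e ≪≫ rightUnit M
  let eY : CohB1.tensorMod (_root_.ClSub.idealMod (I.comap φ)) ((Scheme.Modules.pullback φ).obj N) ≅
      (Scheme.Modules.pullback φ).obj M :=
    tensorIso ep.symm (Iso.refl _) ≪≫ (TensorMod.Pullback.pullbackTensorIso φ _ _).symm ≪≫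
      (Scheme.Modules.pullback φ).mapIso eX
  have hX := SurfInt.Effective.chi_twist_quot (Snapper.Finite.cohFinite k X) hdX hI hN
  have hY := SurfInt.Effective.chi_twist_quot (Snapper.Finite.cohFinite k Y) hdY hI'
    (PicLoc.isInvertible_pullback φ hN)
  rw [Snapper.Chi.eulerCharLE_of_iso eX d, ← Snapper.Chi.euler_eq_eulerCharLE hdX,
    ← Snapper.Chi.euler_eq_eulerCharLE hdX, ← Snapper.Chi.euler_eq_eulerCharLE hdX,
    SurfInt.Surface.euler_twist_quot I hN] at hX
  rw [Snapper.Chi.eulerCharLE_of_iso eY d, ← Snapper.Chi.euler_eq_eulerCharLE hdY,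
    ← Snapper.Chi.euler_eq_eulerCharLE hdY, ← Snapper.Chi.euler_eq_eulerCharLE hdY,
    SurfInt.Surface.euler_twist_quot (I.comap φ) (PicLoc.isInvertible_pullback φ hN)] at hY
  -- the divisor lies in `U`, so its preimage is isomorphic to it
  have hIU : Set.range I.subschemeι ⊆ Set.range U.ι := by
    rw [I.range_subschemeι, Scheme.Opens.range_ι, hsupp]
    exact Set.compl_subset_comm.1 hsU
  let l := IsOpenImmersion.lift U.ι I.subschemeι hIU
  have hl : l ≫ U.ι = I.subschemeι := IsOpenImmersion.lift_fac _ _ _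
  let σ : I.subscheme ⟶ Y := l ≫ CategoryTheory.inv (φ ∣_ U) ≫ (φ ⁻¹ᵁ U).ι
  have hσ : σ ≫ φ = I.subschemeι := by
    simp only [σ, Category.assoc]
    rw [← morphismRestrict_ι, IsIso.inv_hom_id_assoc, hl]
  haveI : IsIso (pullback.snd φ I.subschemeι) := by
    refine ⟨pullback.lift σ (𝟙 _) (by rw [hσ, Category.id_comp]), ?_, pullback.lift_snd _ _ _⟩
    apply pullback.hom_ext
    · rw [Category.assoc, pullback.lift_fst, Category.id_comp]
      have hc : (pullback.snd φ I.subschemeι ≫ l) ≫ U.ι = pullback.fst φ I.subschemeι ≫ φ := by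
        rw [Category.assoc, hl, pullback.condition]
      obtain ⟨g, hg1, hg2⟩ : ∃ g, g ≫ (φ ∣_ U) = pullback.snd φ I.subschemeι ≫ l ∧
          g ≫ (φ ⁻¹ᵁ U).ι = pullback.fst φ I.subschemeι :=
        ⟨(isPullback_morphismRestrict φ U).lift _ _ hc, IsPullback.lift_fst _ _ _ _,
          IsPullback.lift_snd _ _ _ _⟩
      rw [← hg2]
      simp only [σ, ← Category.assoc]
      rw [← hg1, Category.assoc g, IsIso.hom_inv_id, Category.comp_id]
    · rw [Category.assoc, pullback.lift_snd, Category.comp_id, Category.id_comp]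
  letI := SurfInt.Surface.overSub (k := k) I
  letI := SurfInt.Surface.overSub (k := k) (I.comap φ)
  let ψ : (I.comap φ).subscheme ⟶ I.subscheme :=
    (I.comapIso φ).hom ≫ pullback.snd φ I.subschemeι
  haveI : IsIso ψ := inferInstance
  have hψ : ψ ≫ I.subschemeι = (I.comap φ).subschemeι ≫ φ := by
    simp only [ψ, Category.assoc]
    rw [← pullback.condition, ← Category.assoc, Scheme.IdealSheafData.comapIso_hom_fst]
  have hψk : ψ ≫ (I.subscheme ↘ Spec (CommRingCat.of k)) =
      (I.comap φ).subscheme ↘ Spec (CommRingCat.of k) := by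
    change ψ ≫ I.subschemeι ≫ _ = (I.comap φ).subschemeι ≫ _
    rw [← Category.assoc, hψ, Category.assoc, hφ]
  have hq : Curv2.euler k (I.comap φ).subscheme ((Scheme.Modules.pullback (I.comap φ).subschemeι).obj
        ((Scheme.Modules.pullback φ).obj N)) =
      Curv2.euler k I.subscheme ((Scheme.Modules.pullback I.subschemeι).obj N) :=
    (Curves.Euler.euler_eq_of_iso
      ((Scheme.Modules.pullbackComp (I.comap φ).subschemeι φ).app N ≪≫
        (Scheme.Modules.pullbackCongr hψ.symm).app N ≪≫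
        ((Scheme.Modules.pullbackComp ψ I.subschemeι).app N).symm)).trans
      (euler_pullback ψ hψk (PicLoc.isInvertible_pullback I.subschemeι hN))
  linarith

include hφ hη in
/-- `χ(Y, φ^*L) - χ(X, L) = χ(O_Y) - χ(O_X)`. -/
theorem defect_eq [IsAlgClosed k] [IsNoetherian X] [IsNoetherian Y] {d : ℕ}
    (hdX : topologicalKrullDim X ≤ d) (hdY : topologicalKrullDim Y ≤ d)
    (hU : ((U : Set X)ᶜ).Finite) {H : X.Modules} (hH : CohB1.IsAmple H) {L : X.Modules}
    (hL : PicF.IsInvertible L) :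
    Curv2.euler k Y ((Scheme.Modules.pullback φ).obj L) - Curv2.euler k X L =
      Curv2.euler k Y (Coh.structureModule Y) - Curv2.euler k X (Coh.structureModule X) := by
  classical
  haveI : QuasiSeparatedSpace X := inferInstance
  obtain ⟨n₁, hn₁⟩ := Ample.GG.eventually_genAt_twist hH L (Ample.GG.isCoh_of_isInvertible hL)
  obtain ⟨n₂, hn₂⟩ := Ample.GG.eventually_genAt_twist hH (Coh.structureModule X)
    (Ample.GG.isCoh_of_isInvertible (PicLoc.isInvertible_structureModule X))
  let n := max n₁ n₂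
  let B := CohB1.tensorPow H n
  let A := CohB1.tensorMod L B
  have hB : PicF.IsInvertible B := TensorMod.Invertible.isInvertible_tensorPow hH.1 n
  have hA : PicF.IsInvertible A := TensorMod.Invertible.isInvertible_tensorMod hL hB
  have key : ∀ {E : X.Modules}, PicF.IsInvertible E → (∀ x, Ample.GG.GenAt E x) →
      ∃ s : Coh.structureModule X ⟶ E, s ≠ 0 ∧ (U : Set X)ᶜ ⊆ CohB1.genLocus E s := by
    intro E hE hg
    have hfin : (insert (genericPoint X) (U : Set X)ᶜ).Finite := hU.insert _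
    choose σ hσ using fun x : X => Ample.GG.exists_genLocus_of_genAt hE (hg x)
    obtain ⟨s, hs⟩ := SurfInt.Hodge.exists_avoiding_family (X ↘ Spec (CommRingCat.of k)) hE
      (fun i => σ (hfin.toFinset.equivFin.symm i)) hfin fun η hη' =>
        ⟨hfin.toFinset.equivFin ⟨η, hfin.mem_toFinset.2 hη'⟩, by
          rw [Equiv.symm_apply_apply]; exact hσ η⟩
    exact ⟨s, SurfInt.Pencil.ne_zero_of_mem_genLocus hE (hs _ (Set.mem_insert _ _)),
      fun x hx => hs x (Set.mem_insert_of_mem _ hx)⟩
  obtain ⟨sB, hsB, hsBU⟩ := key hB fun x => (hn₂ n (le_max_right _ _) x).of_iso (leftUnit B)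
  obtain ⟨sA, hsA, hsAU⟩ := key hA (hn₁ n (le_max_left _ _))
  have h1 := defect_twist φ hφ U hη hdX hdY hL hB sB hsB hsBU
  have h2 := defect_twist φ hφ U hη hdX hdY (PicLoc.isInvertible_structureModule X) hA sA hsA hsAU
  rw [Curves.Euler.euler_eq_of_iso ((Scheme.Modules.pullback φ).mapIso (leftUnit A)),
    Curves.Euler.euler_eq_of_iso (leftUnit A),
    Curves.Euler.euler_eq_of_iso (PicLoc.pullbackStructureIso φ)] at h2
  linarith

end Groth.Agent.Lib.SurfRR.Resolution
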