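import Groth.Agent.Lib.SurfRR.Contraction
import Groth.Agent.Lib.SurfRR.Resolution
import Groth.Agent.Lib.CartierDescent.Stalk

/-!
# Total and strict transforms of a Cartier divisor on a resolution of a surface
-/

set_option autoImplicit false
set_option linter.style.haveILetI false
universe u

open CategoryTheory CategoryTheory.Limits AlgebraicGeometry TopologicalSpace Opposite

noncomputable section

namespace Groth.Agent.Lib.SurfRR.Transform

open Groth.Agent.Lib
open Groth.Agent.Lib.Ideal.Prime (stalkIdeal stalkIdeal_eq gen gen_mem gen_specializes)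
open Groth.Agent.Lib.SurfRR.Ramanujam (le_of_mul_left le_of_mul_right)

/-- A point of a finite closed subset of a Jacobson scheme is closed. -/
theorem isClosed_singleton_of_mem_finite {Z : Scheme.{u}} [JacobsonSpace Z] {s : Set Z}
    (hs : IsClosed s) (hf : s.Finite) {x : Z} (hx : x ∈ s) : IsClosed ({x} : Set Z) := by
  have hcl : IsClosed (s ∩ closedPoints Z) := by
    rw [← Set.biUnion_of_singleton (s ∩ closedPoints Z)]
    exact (hf.subset Set.inter_subset_left).isClosed_biUnion fun y hy => hy.2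
  have h := ((jacobsonSpace_iff Z).1 ‹_› (Z := s) hs).symm ▸ hx
  exact (hcl.closure_eq ▸ h : x ∈ s ∩ closedPoints Z).2

variable {Y : Scheme.{u}}

theorem eq_of_support_eq (I J : Y.IdealSheafData) [IsIntegral I.subscheme] [IsIntegral J.subscheme]
    (h : (I.support : Set Y) = (J.support : Set Y)) : I = J :=
  SurfInt.Curve.eq_of_gen_eq I J
    ((gen_specializes I (h.symm ▸ gen_mem J : gen J ∈ (I.support : Set Y))).antisymm
      (gen_specializes J (h ▸ gen_mem I : gen I ∈ (J.support : Set Y)))).eq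

theorem stalkIdeal_eq_top {I : Y.IdealSheafData} {y : Y} (hy : y ∉ I.support) :
    stalkIdeal I y = ⊤ := by
  obtain ⟨U, hU, hyU, -⟩ := exists_isAffineOpen_mem_and_subset (show y ∈ (⊤ : Y.Opens) from trivial)
  by_contra hne
  apply hy
  rw [Ideal.Prime.mem_support_iff_le_prime I ⟨U, hU⟩ hyU]
  have h := IsLocalRing.le_maximalIdeal hne
  rw [stalkIdeal_eq I ⟨U, hU⟩ hyU, _root_.Ideal.map_le_iff_le_comap] at h
  letI algx := Y.presheaf.algebra_section_stalk ⟨y, hyU⟩
  haveI := hU.isLocalization_stalk ⟨y, hyU⟩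
  exact h.trans (IsLocalization.AtPrime.under_maximalIdeal (Y.presheaf.stalk y) _).le

theorem mul_stalk_cancel [IsIntegral Y] {E : Y.IdealSheafData} (hE : BlowUp.IsEffCartierIdeal E)
    {F G : Y.IdealSheafData} {y : Y} (h : stalkIdeal (E * F) y = stalkIdeal (E * G) y) :
    stalkIdeal F y = stalkIdeal G y := by
  obtain ⟨d, hd, he⟩ := CartierDescent.stalkIdeal_eq_span hE y
  rw [SurfInt.Mul.stalkIdeal_mul, SurfInt.Mul.stalkIdeal_mul, he] at h
  exact (_root_.Ideal.span_singleton_mul_right_inj (nonZeroDivisors.ne_zero hd)).1 h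

variable {k : Type u} [Field k] [IsAlgClosed k] [IsIntegral Y] [Y.Over (Spec (CommRingCat.of k))]
  [IsProper (Y ↘ Spec (CommRingCat.of k))] [Smooth (Y ↘ Spec (CommRingCat.of k))]
  [AlgebraicGeometry.IsNoetherian Y] (hdim : topologicalKrullDim Y = 2)

include k hdim

theorem mem_support_of_stalk_eq {A B : Y.IdealSheafData} {y : Y}
    (h : stalkIdeal A y = stalkIdeal B y) (hA : y ∈ A.support) : y ∈ B.support :=
  Contraction.mem_support_of_stalkIdeal_le (k := k) hdim
    (h ▸ Contraction.stalkIdeal_le_maximalIdeal (k := k) hdim hA)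

omit [IsAlgClosed k] [Smooth (Y ↘ Spec (CommRingCat.of k))] in
/-- The zero divisor has no intersection numbers. -/
theorem intNum_top {P : Y.Modules} (hP : PicF.IsInvertible P) :
    FGA.intNum k Y 2 ![_root_.ClSub.idealMod ⊤, P] (Coh.structureModule Y) = 0 := by
  have h := SurfInt.NegDef.intNum_mul (Snapper.Finite.cohFinite k Y) hdim
    (Ideal.EffCartier.isEffCartier_top (X := Y)) (Ideal.EffCartier.isEffCartier_top (X := Y)) hP
  rw [show (⊤ * ⊤ : Y.IdealSheafData) = ⊤ from mul_one (1 : Y.IdealSheafData)] at h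
  linarith

/-- Intersection with a curve only depends on the divisor along the curve. -/
theorem intNum_eq_of_stalk_eq (C : Y.IdealSheafData) [IsIntegral C.subscheme]
    (hCd : topologicalKrullDim (C.support : Set Y) = 1) {A B : Y.IdealSheafData}
    (hA : BlowUp.IsEffCartierIdeal A) (hB : BlowUp.IsEffCartierIdeal B)
    (h : ∀ y ∈ C.support, stalkIdeal A y = stalkIdeal B y) :
    FGA.intNum k Y 2 ![_root_.ClSub.idealMod A, _root_.ClSub.idealMod C] (Coh.structureModule Y) =
      FGA.intNum k Y 2 ![_root_.ClSub.idealMod B, _root_.ClSub.idealMod C] (Coh.structureModule Y) := by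
  have hfin := Snapper.Finite.cohFinite k Y
  have hreg := SurfInt.NegDef.regular_of_smooth (k := k) (X := Y)
  have hC := SurfInt.Effective.isInvertible_idealMod (Fundamental.isEff (k := k) hdim hCd)
  have hdis : ∀ {E : Y.IdealSheafData}, BlowUp.IsEffCartierIdeal E →
      (∀ y ∈ C.support, y ∉ E.support) →
      FGA.intNum k Y 2 ![_root_.ClSub.idealMod E, _root_.ClSub.idealMod C]
        (Coh.structureModule Y) = 0 := fun {E} hE hne => by
    rw [Snapper.IntNum.intNum_pair_comm]
    exact Contraction.intNum_eq_zero_of_disjoint (k := k) hdim C hCd hE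
      (Set.eq_empty_of_forall_notMem fun y hy => hne y hy.1 hy.2)
  refine SurfInt.Mul.induction (Y ↘ Spec (CommRingCat.of k)) hdim hreg
    (P := fun A => ∀ B : Y.IdealSheafData, BlowUp.IsEffCartierIdeal B →
      (∀ y ∈ C.support, stalkIdeal A y = stalkIdeal B y) →
      FGA.intNum k Y 2 ![_root_.ClSub.idealMod A, _root_.ClSub.idealMod C] (Coh.structureModule Y) =
        FGA.intNum k Y 2 ![_root_.ClSub.idealMod B, _root_.ClSub.idealMod C] (Coh.structureModule Y))
    (fun B hB hst => ?_) (fun E hint F hEd hF ih B hB hst => ?_) hA B hB h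
  · rw [intNum_top (k := k) hdim hC, hdis hB fun y hy hyB => ?_]
    exact absurd (mem_support_of_stalk_eq (k := k) hdim (hst y hy).symm hyB)
      (by rw [Scheme.IdealSheafData.support_top]; exact fun hh => hh)
  haveI := hint
  have hE := Fundamental.isEff (k := k) hdim hEd
  rw [SurfInt.NegDef.intNum_mul hfin hdim hE hF hC]
  by_cases hmeet : ∀ y ∈ C.support, y ∉ E.support
  · rw [hdis hE hmeet, zero_add]
    exact ih B hB fun y hy => by
      rw [← hst y hy, SurfInt.Mul.stalkIdeal_mul, stalkIdeal_eq_top (hmeet y hy), _root_.Ideal.top_mul]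
  · push Not at hmeet
    obtain ⟨y, hyC, hyE⟩ := hmeet
    have hsp := gen_specializes E hyE
    have hgB : gen E ∈ B.support := by
      refine mem_support_of_stalk_eq (k := k) hdim (A := E * F) ?_ ?_
      · rw [← ModelFibre.StalkIdeal.map_stalkSpecializes (E * F) hsp,
          ← ModelFibre.StalkIdeal.map_stalkSpecializes B hsp, hst y hyC]
      · rw [Scheme.IdealSheafData.support_mul]
        exact Or.inl (gen_mem E)
    obtain ⟨B', hB', hmul, -⟩ := SurfInt.Mul.exists_residual (Y ↘ Spec (CommRingCat.of k)) hdim hreg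
      hB E hEd fun z hz => (gen_specializes E hz).mem_closed B.support.isClosed hgB
    subst hmul
    rw [SurfInt.NegDef.intNum_mul hfin hdim hE hB' hC,
      ih B' hB' fun z hz => mul_stalk_cancel hE (hst z hz)]

/-- A divisor agreeing over an open with another having all components meeting the open. -/
theorem exists_residual_off (O : Y.Opens) {Dt : Y.IdealSheafData}
    (hDt : BlowUp.IsEffCartierIdeal Dt)
    (hmeet : ∀ (E : Y.IdealSheafData) [IsIntegral E.subscheme],
      topologicalKrullDim (E.support : Set Y) = 1 → (E.support : Set Y) ⊆ Dt.support → gen E ∈ O)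
    {A : Y.IdealSheafData} (hA : BlowUp.IsEffCartierIdeal A)
    (h : ∀ y ∈ O, stalkIdeal A y = stalkIdeal Dt y) :
    ∃ G : Y.IdealSheafData, BlowUp.IsEffCartierIdeal G ∧ A = Dt * G ∧ ∀ y ∈ O, y ∉ G.support := by
  have hreg := SurfInt.NegDef.regular_of_smooth (k := k) (X := Y)
  refine SurfInt.Mul.induction (Y ↘ Spec (CommRingCat.of k)) hdim hreg
    (P := fun T => (∀ (E : Y.IdealSheafData) [IsIntegral E.subscheme],
        topologicalKrullDim (E.support : Set Y) = 1 → (E.support : Set Y) ⊆ T.support → gen E ∈ O) →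
      ∀ A : Y.IdealSheafData, BlowUp.IsEffCartierIdeal A →
        (∀ y ∈ O, stalkIdeal A y = stalkIdeal T y) →
        ∃ G : Y.IdealSheafData, BlowUp.IsEffCartierIdeal G ∧ A = T * G ∧ ∀ y ∈ O, y ∉ G.support)
    (fun _ A hA hst => ⟨A, hA, (one_mul A).symm, fun y hy hyA => absurd
      (mem_support_of_stalk_eq (k := k) hdim (hst y hy) hyA)
      (by rw [Scheme.IdealSheafData.support_top]; exact fun hh => hh)⟩)
    (fun E hint F hEd hF ih hm A hA hst => ?_) hDt hmeet A hA h
  haveI := hint
  have hE := Fundamental.isEff (k := k) hdim hEd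
  have hEsub : (E.support : Set Y) ⊆ ((E * F).support : Set Y) :=
    Scheme.IdealSheafData.support_antitone (le_of_mul_left rfl)
  have hFsub : (F.support : Set Y) ⊆ ((E * F).support : Set Y) :=
    Scheme.IdealSheafData.support_antitone (le_of_mul_right rfl)
  have hgA : gen E ∈ A.support := mem_support_of_stalk_eq (k := k) hdim
    (hst _ (hm E hEd hEsub)).symm (hEsub (gen_mem E))
  obtain ⟨A', hA', hmul, -⟩ := SurfInt.Mul.exists_residual (Y ↘ Spec (CommRingCat.of k)) hdim hreg
    hA E hEd fun z hz => (gen_specializes E hz).mem_closed A.support.isClosed hgA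
  subst hmul
  obtain ⟨G, hG, hGeq, hGO⟩ := ih (fun E' _ hd hs => hm E' hd (hs.trans hFsub)) A' hA'
    fun y hy => mul_stalk_cancel hE (hst y hy)
  exact ⟨G, hG, by rw [hGeq, mul_assoc], hGO⟩

/-- A divisor supported on given curves is a combination of them. -/
theorem exists_pow_decomp {s : ℕ} (μ : Fin s → Y.IdealSheafData) {G : Y.IdealSheafData}
    (hG : BlowUp.IsEffCartierIdeal G)
    (hall : ∀ (E : Y.IdealSheafData) [IsIntegral E.subscheme],
      topologicalKrullDim (E.support : Set Y) = 1 → (E.support : Set Y) ⊆ G.support → ∃ j, E = μ j) :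
    ∃ γ : Fin s → ℕ, G = ∏ j, μ j ^ γ j ∧ ∀ P : Y.Modules, PicF.IsInvertible P →
      FGA.intNum k Y 2 ![_root_.ClSub.idealMod G, P] (Coh.structureModule Y) =
        ∑ j, (γ j : ℤ) * FGA.intNum k Y 2 ![_root_.ClSub.idealMod (μ j), P] (Coh.structureModule Y) := by
  classical
  have hfin := Snapper.Finite.cohFinite k Y
  have hreg := SurfInt.NegDef.regular_of_smooth (k := k) (X := Y)
  refine SurfInt.Mul.induction (Y ↘ Spec (CommRingCat.of k)) hdim hreg
    (P := fun G => (∀ (E : Y.IdealSheafData) [IsIntegral E.subscheme],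
        topologicalKrullDim (E.support : Set Y) = 1 → (E.support : Set Y) ⊆ G.support → ∃ j, E = μ j) →
      ∃ γ : Fin s → ℕ, G = ∏ j, μ j ^ γ j ∧ ∀ P : Y.Modules, PicF.IsInvertible P →
        FGA.intNum k Y 2 ![_root_.ClSub.idealMod G, P] (Coh.structureModule Y) =
          ∑ j, (γ j : ℤ) * FGA.intNum k Y 2 ![_root_.ClSub.idealMod (μ j), P] (Coh.structureModule Y))
    (fun _ => ⟨0, (Finset.prod_eq_one fun j _ => pow_zero (μ j)).symm, fun P hP => by rw [intNum_top (k := k) hdim hP]; simp⟩)
    (fun E hint F hEd hF ih hm => ?_) hG hall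
  haveI := hint
  obtain ⟨j₀, hj₀⟩ := hm E hEd (Scheme.IdealSheafData.support_antitone (le_of_mul_left rfl))
  obtain ⟨γ, hγ, hnum⟩ := ih fun E' _ hd hs =>
    hm E' hd (hs.trans (Scheme.IdealSheafData.support_antitone (le_of_mul_right rfl)))
  refine ⟨γ + Pi.single j₀ 1, ?_, fun P hP => ?_⟩
  · simp only [Pi.add_apply, pow_add, Finset.prod_mul_distrib]
    rw [Finset.prod_eq_single (f := fun j => μ j ^ (Pi.single j₀ 1 : Fin s → ℕ) j) j₀
      (fun j _ hj => by rw [Pi.single_eq_of_ne hj, pow_zero])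
      (fun h => absurd (Finset.mem_univ j₀) h), Pi.single_eq_same, pow_one, ← hγ, ← hj₀, mul_comm]
  · rw [SurfInt.NegDef.intNum_mul hfin hdim (Fundamental.isEff (k := k) hdim hEd) hF hP, hnum P hP]
    simp only [Pi.add_apply, Nat.cast_add, add_mul, Finset.sum_add_distrib]
    rw [Finset.sum_eq_single (f := fun j => (((Pi.single j₀ 1 : Fin s → ℕ) j : ℕ) : ℤ) *
        FGA.intNum k Y 2 ![_root_.ClSub.idealMod (μ j), P] (Coh.structureModule Y)) j₀
      (fun j _ hj => by simp only [Pi.single_eq_of_ne hj, Nat.cast_zero, zero_mul])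
      (fun h => absurd (Finset.mem_univ j₀) h), Pi.single_eq_same, Nat.cast_one, one_mul, ← hj₀]
    ring

/-- A divisor which is, along a curve, the divisor of a function meets the curve with number zero. -/
theorem intNum_eq_zero_of_principal (C : Y.IdealSheafData) [IsIntegral C.subscheme]
    (hCd : topologicalKrullDim (C.support : Set Y) = 1) {A : Y.IdealSheafData}
    (hA : BlowUp.IsEffCartierIdeal A) {W : Y.Opens} (g : Γ(Y, W)) (hg : g ≠ 0)
    (hW : (C.support : Set Y) ⊆ W)
    (h : ∀ (y : Y) (_ : y ∈ C.support) (hy : y ∈ W),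
      stalkIdeal A y = _root_.Ideal.span {Y.presheaf.germ W y hy g}) :
    FGA.intNum k Y 2 ![_root_.ClSub.idealMod A, _root_.ClSub.idealMod C] (Coh.structureModule Y) = 0 := by
  obtain ⟨T₀, U₀, hT₀, hU₀, hnum₀, hst₀⟩ := Contraction.exists_divisors (k := k) hdim g hg
  obtain ⟨T, U, hT, hU, hdisj, hnum, hst⟩ :=
    Contraction.exists_clean (k := k) hdim g hg _ hW U₀ hU₀ T₀ hT₀ hnum₀ hst₀
  have hne : ∀ y ∈ C.support, y ∉ U.support := fun y hy hyU =>
    Set.eq_empty_iff_forall_notMem.1 hdisj y ⟨hyU, hy⟩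
  rw [intNum_eq_of_stalk_eq (k := k) hdim C hCd hA hT fun y hy => by
      rw [h y hy (hW hy), hst y (hW hy), stalkIdeal_eq_top (hne y hy), _root_.Ideal.mul_top],
    hnum _ (SurfInt.Effective.isInvertible_idealMod (Fundamental.isEff (k := k) hdim hCd)),
    Snapper.IntNum.intNum_pair_comm]
  exact Contraction.intNum_eq_zero_of_disjoint (k := k) hdim C hCd hU
    (Set.eq_empty_of_forall_notMem fun y hy => hne y hy.1 hy.2)

end Groth.Agent.Lib.SurfRR.Transform
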